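import Cfsg.Agent.Lib.SESolv.Structure
import Cfsg.Agent.Lib.Involutions.SwapCount

/-!
The points: fixed points, swappers, two-point stabilisers.
-/

set_option autoImplicit false
set_option linter.style.haveILetI false
set_option linter.unusedSectionVars false

namespace Cfsg.Agent.SESolv

open Cfsg Subgroup MulAction

universe u

variable {G : Type u} [Group G] [Finite G] {H : Subgroup G}

/-- The base point. -/
abbrev base (H : Subgroup G) : G ⧸ H := ((1 : G) : G ⧸ H)

theorem stab_base : stabilizer G (base H) = H := MulAction.stabilizer_quotient H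

theorem mem_stab_base {g : G} : g • base H = base H ↔ g ∈ H := SEBrick.fix_base_iff

theorem mk_eq_base {g : G} : (g : G ⧸ H) = base H ↔ g ∈ H := by
  rw [base, QuotientGroup.eq, mul_one, inv_mem_iff]

theorem stab_smul {g : G} {c d : G ⧸ H} (h : g • c = d) :
    stabilizer G d = (stabilizer G c).map (MulAut.conj g).toMonoidHom := by
  subst h
  exact MulAction.stabilizer_smul_eq_stabilizer_map_conj g c

theorem conj_stab {g : G} {c : G ⧸ H} {x : G} (hx : x • c = c) : (g * x * g⁻¹) • (g • c) = g • c := by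
  rw [mul_smul, mul_smul, inv_smul_smul, hx]

/-- Points are conjugate images of the base point. -/
theorem exists_smul_base (c : G ⧸ H) : ∃ g : G, g • base H = c := by
  induction c using QuotientGroup.induction_on with
  | _ g => exact ⟨g, by rw [base, MulAction.Quotient.smul_mk, smul_eq_mul, mul_one]⟩

theorem exists_fixing (h : Cfsg.IsStronglyEmbedded H) (c : G ⧸ H) : ∃ t : G, orderOf t = 2 ∧ t • c = c := by
  obtain ⟨t, htH, ht⟩ := Invol.exists_invol h.2.1
  obtain ⟨g, rfl⟩ := exists_smul_base c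
  exact ⟨g * t * g⁻¹, by rw [Invol.order_conj, ht], conj_stab (mem_stab_base.2 htH)⟩

/-- An involution interchanging two points. -/
theorem exists_swapper (h : Cfsg.IsStronglyEmbedded H) {c d : G ⧸ H} (hcd : c ≠ d) :
    ∃ u : G, orderOf u = 2 ∧ u • c = d ∧ u • d = c := by
  obtain ⟨s, hs, hsc⟩ := exists_fixing h c
  obtain ⟨t, ht, htd⟩ := exists_fixing h d
  obtain ⟨u, hu, huc, -⟩ := Invol.se_swap h hs ht hsc htd hcd
  exact ⟨u, hu, huc, by rw [← huc, ← mul_smul, Invol.mul_self hu, one_smul]⟩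

/-- The two-point stabiliser of the base point and `b`. -/
def twoPt (H : Subgroup G) (b : G ⧸ H) : Subgroup G := H ⊓ stabilizer G b

theorem twoPt_odd (h : Cfsg.IsStronglyEmbedded H) {b : G ⧸ H} (hb : b ≠ base H) : Odd (Nat.card (twoPt H b)) := by
  refine SEBrick.odd_card_of_orders fun t ht ht2 => hb ?_
  exact Invol.se_fix_unique h ht2 ht.2 (mem_stab_base.2 ht.1)

/-- A swapper normalises the two-point stabiliser. -/
theorem swapper_normalizes {u : G} {b : G ⧸ H} (h1 : u • base H = b) (h2 : u • b = base H) :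
    u ∈ normalizer (twoPt H b : Set G) :=
  SEBrick.mem_normalizer_of fun x hx => by
    have e1 := conj_stab (g := u) (c := b) hx.2
    have e2 := conj_stab (g := u) (c := base H) (mem_stab_base.2 hx.1)
    rw [h2] at e1
    rw [h1] at e2
    exact ⟨mem_stab_base.1 e1, e2⟩

/-- The two-point stabiliser is transitive on the involutions of `H`. -/
theorem twoPt_trans (h : Cfsg.IsStronglyEmbedded H) {b : G ⧸ H} (hb : b ≠ base H) {s t : G} (hs : orderOf s = 2)
    (hsH : s ∈ H) (ht : orderOf t = 2) (htH : t ∈ H) : ∃ d ∈ twoPt H b, d * s * d⁻¹ = t := by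
  obtain ⟨u, hu, h1, h2⟩ := exists_swapper h (Ne.symm hb)
  have hts : orderOf (u * t * u⁻¹) = 2 := by rw [Invol.order_conj, ht]
  have htb : (u * t * u⁻¹) • b = b := h1 ▸ conj_stab (mem_stab_base.2 htH)
  obtain ⟨⟨w, hw, hwb⟩, hwc⟩ := (Invol.swap_conj_bijective h (Ne.symm hb) ⟨s, hs, mem_stab_base.2 hsH⟩).2
    ⟨u * t * u⁻¹, hts, htb⟩
  have hwc' : w * s * w⁻¹ = u * t * u⁻¹ := Subtype.ext_iff.mp hwc
  refine ⟨u * w, ⟨mem_stab_base.1 (by rw [mul_smul, hwb, h2]), ?_⟩, ?_⟩
  · show (u * w) • b = b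
    rw [mul_smul, show w • b = base H by rw [← hwb, ← mul_smul, Invol.mul_self hw, one_smul], h1]
  · rw [show u * w * s * (u * w)⁻¹ = u * (w * s * w⁻¹) * u⁻¹ by group, hwc', Invol.inv_self hu,
      show u * (u * t * u) * u = (u * u) * t * (u * u) by group, Invol.mul_self hu, one_mul, mul_one]

/-- An odd group normalised by a four-group fixing `c` fixes `c`. -/
theorem odd_fix_of_four (h : Cfsg.IsStronglyEmbedded H) {Y E : Subgroup G} {c : G ⧸ H} (hY : Odd (Nat.card Y))
    (hE : SEBrick.IsFour E) (hEc : E ≤ stabilizer G c) (hEY : E ≤ normalizer (Y : Set G)) :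
    Y ≤ stabilizer G c := by
  haveI := hE.1.1
  obtain ⟨n, hn⟩ := (IsPGroup.iff_card (p := 2)).1 hE.isPGroup
  have hcop : (Nat.card E).Coprime (Nat.card Y) := by
    rw [hn]; exact (Nat.coprime_two_left.2 hY).pow_left n
  rw [← CoprimeAct.generated_by_centralizers hE.not_isCyclic hEY hcop]
  refine iSup₂_le fun e he => fun y hy => ?_
  have hey : y * e = e * y := mem_centralizer_singleton_iff.1 hy.2
  exact Invol.se_fix_unique h (hE.order he.1 he.2) (by rw [← mul_smul, ← hey, mul_smul, hEc he.1]) (hEc he.1)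

/-- A four-group fixes a point. -/
theorem exists_fix_four (h : Cfsg.IsStronglyEmbedded H) {E : Subgroup G} (hE : SEBrick.IsFour E) :
    ∃ c : G ⧸ H, E ≤ stabilizer G c := by
  obtain ⟨e, he, he1⟩ := IsFour.exists_ne hE
  obtain ⟨c, hc⟩ := Invol.se_exists_fix h (hE.order he he1)
  refine ⟨c, fun f hf => Invol.se_fix_unique h (hE.order he he1) ?_ hc⟩
  rw [← mul_smul, ← hE.comm hf he, mul_smul, hc]

end Cfsg.Agent.SESolv
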