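import Cfsg.Agent.Lib.Functors.Conj
import Cfsg.Agent.Lib.Solvable.Fitting
import Cfsg.Agent.Lib.Involutions.Basic
import Cfsg.Agent.Lib.Transfer.Basic
import Cfsg.Prelude.Def_CaseTheorems

/-!
Solvable groups whose 2-subgroups have central involutions, squares of square one and abelian centralisers of
their elements of order four.
-/

set_option autoImplicit false
set_option linter.style.haveILetI false
set_option linter.unusedSectionVars false

namespace Cfsg.Agent.SESolv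

open Cfsg Subgroup Cfsg.Agent.Functors

/-- The shape of the 2-subgroups. -/
def Shape (X : Type*) [Group X] : Prop :=
  ∀ S : Subgroup X, IsPGroup 2 S →
    (∀ x ∈ S, x * x * (x * x) = 1) ∧ (∀ t ∈ S, t * t = 1 → ∀ x ∈ S, t * x = x * t) ∧
      ∀ f ∈ S, f * f ≠ 1 → ∀ x ∈ S, ∀ y ∈ S, f * x = x * f → f * y = y * f → x * y = y * x

variable {X : Type*} [Group X]

theorem Shape.of_injective {Y : Type*} [Group Y] (hX : Shape X) (f : Y →* X) (hf : Function.Injective f) :
    Shape Y := by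
  intro S hS
  obtain ⟨h1, h2, h3⟩ := hX (S.map f) (hS.map f)
  refine ⟨fun x hx => hf ?_, fun t ht ht1 x hx => hf ?_, fun g hg hg1 x hx y hy hgx hgy => hf ?_⟩
  · rw [map_mul, map_mul, map_one]
    exact h1 _ (mem_map_of_mem f hx)
  · rw [map_mul, map_mul]
    exact h2 _ (mem_map_of_mem f ht) (by rw [← map_mul, ht1, map_one]) _ (mem_map_of_mem f hx)
  · rw [map_mul, map_mul]
    exact h3 _ (mem_map_of_mem f hg) (fun h => hg1 (hf (by rwa [map_mul, map_one])))
      _ (mem_map_of_mem f hx) _ (mem_map_of_mem f hy) (by rw [← map_mul, hgx, map_mul])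
      (by rw [← map_mul, hgy, map_mul])

/-- An element in the kernel of a homomorphism with odd kernel and in a 2-subgroup is trivial. -/
theorem eq_one_of_two_of_odd {S : Subgroup X} (hS : IsPGroup 2 S) {N : Subgroup X}
    (hN : Odd (Nat.card N)) {x : X} (hx : x ∈ S) (hxN : x ∈ N) : x = 1 := by
  obtain ⟨n, hn⟩ := hS ⟨x, hx⟩
  have h1 : orderOf x ∣ 2 ^ n := orderOf_dvd_of_pow_eq_one (by simpa using congrArg Subtype.val hn)
  have h2 : Odd (orderOf x) := hN.of_dvd_nat (Subgroup.orderOf_dvd_natCard N hxN)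
  exact orderOf_eq_one_iff.1
    (Nat.eq_one_of_dvd_coprimes ((Nat.coprime_two_left.2 h2).pow_left n) h1 dvd_rfl)

theorem injOn_of_two {Y : Type*} [Group Y] (f : X →* Y) (hk : Odd (Nat.card f.ker)) {S : Subgroup X}
    (hS : IsPGroup 2 S) : Set.InjOn f S := fun a ha b hb h =>
  inv_mul_eq_one.1 (eq_one_of_two_of_odd hS hk (mul_mem (inv_mem ha) hb)
    (by rw [MonoidHom.mem_ker, map_mul, map_inv, h, inv_mul_cancel]))

/-- A 2-subgroup of an image lifts. -/
theorem exists_lift_two [Finite X] {Y : Type*} [Group Y] (f : X →* Y) {S : Subgroup Y} (hS : IsPGroup 2 S)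
    (hSf : S ≤ f.range) : ∃ T : Subgroup X, IsPGroup 2 T ∧ T.map f = S := by
  haveI : Fact (Nat.Prime 2) := ⟨Nat.prime_two⟩
  let φ := f.subgroupComap S
  have hφ : Function.Surjective φ := fun ⟨y, hy⟩ => by
    obtain ⟨x, rfl⟩ := hSf hy
    exact ⟨⟨x, hy⟩, rfl⟩
  haveI : Finite S := Finite.of_surjective φ hφ
  obtain ⟨P⟩ : Nonempty (Sylow 2 (S.comap f)) := inferInstance
  have hP : (P : Subgroup (S.comap f)).map φ = ⊤ := by
    have h := (P.mapSurjective hφ).is_maximal' (hS.to_subgroup ⊤ : IsPGroup 2 (⊤ : Subgroup S)) le_top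
    rw [Sylow.coe_mapSurjective] at h
    exact h.symm
  refine ⟨(P : Subgroup (S.comap f)).map (S.comap f).subtype, P.isPGroup'.map _, le_antisymm ?_ fun y hy => ?_⟩
  · rintro _ ⟨_, ⟨x, -, rfl⟩, rfl⟩
    exact x.2
  · obtain ⟨x, hx, hxy⟩ : (⟨y, hy⟩ : S) ∈ (P : Subgroup (S.comap f)).map φ := hP.ge (mem_top _)
    exact ⟨x, ⟨x, hx, rfl⟩, congrArg Subtype.val hxy⟩

theorem Shape.of_surjective_odd [Finite X] {Y : Type*} [Group Y] (hX : Shape X) (f : X →* Y)
    (hf : Function.Surjective f) (hk : Odd (Nat.card f.ker)) : Shape Y := by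
  intro S hS
  obtain ⟨T, hT, rfl⟩ := exists_lift_two f hS (by rw [f.range_eq_top_of_surjective hf]; exact le_top)
  obtain ⟨h1, h2, h3⟩ := hX T hT
  have hi := injOn_of_two f hk hT
  refine ⟨?_, ?_, ?_⟩
  · rintro _ ⟨x, hx, rfl⟩
    rw [← map_mul, ← map_mul, h1 x hx, map_one]
  · rintro _ ⟨t, ht, rfl⟩ ht1 _ ⟨x, hx, rfl⟩
    rw [← map_mul, ← map_mul, h2 t ht (hi (mul_mem ht ht) T.one_mem (by rw [map_mul, ht1, map_one])) x hx]
  · rintro _ ⟨g, hg, rfl⟩ hg1 _ ⟨x, hx, rfl⟩ _ ⟨y, hy, rfl⟩ hgx hgy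
    rw [← map_mul, ← map_mul, h3 g hg (fun h => hg1 (by rw [← map_mul, h, map_one])) x hx y hy
      (hi (mul_mem hg hx) (mul_mem hx hg) (by rw [map_mul, hgx, map_mul]))
      (hi (mul_mem hg hy) (mul_mem hy hg) (by rw [map_mul, hgy, map_mul]))]

/-- Commutators in a 2-subgroup square to one. -/
theorem Shape.comm_sq (hX : Shape X) {S : Subgroup X} (hS : IsPGroup 2 S) {x y : X} (hx : x ∈ S)
    (hy : y ∈ S) : x * y * x⁻¹ * y⁻¹ * (x * y * x⁻¹ * y⁻¹) = 1 := by
  obtain ⟨h1, h2, -⟩ := hX S hS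
  set a := x * y * (x * y) with ha
  have haS : a ∈ S := mul_mem (mul_mem hx hy) (mul_mem hx hy)
  have haI : a⁻¹ = a := inv_eq_of_mul_eq_one_right (h1 _ (mul_mem hx hy))
  have hxS : x * x ∈ S := mul_mem hx hx
  have hyS : y * y ∈ S := mul_mem hy hy
  have e : x * y * x⁻¹ * y⁻¹ = a * (y * y) * (x * x) := by
    calc x * y * x⁻¹ * y⁻¹ = x * y * (x * y) * (y⁻¹ * x⁻¹ * x⁻¹ * y⁻¹) := by group
      _ = a * (y⁻¹ * (x * x)⁻¹ * y⁻¹) := by rw [ha]; group
      _ = a * (y⁻¹ * (x * x) * y⁻¹) := by rw [inv_eq_of_mul_eq_one_right (h1 x hx)]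
      _ = a * ((y * y)⁻¹ * (x * x)) := by
          rw [mul_assoc y⁻¹ (x * x) y⁻¹, h2 _ hxS (h1 x hx) _ (inv_mem hy)]; group
      _ = _ := by rw [inv_eq_of_mul_eq_one_right (h1 y hy)]; group
  rw [e]
  have c1 : a * (y * y) = y * y * a := h2 _ haS (h1 _ (mul_mem hx hy)) _ hyS
  have c2 : a * (y * y) * (x * x) = x * x * (a * (y * y)) :=
    ((show Commute a (x * x) from h2 _ haS (h1 _ (mul_mem hx hy)) _ hxS).mul_left
      (h2 _ hyS (h1 y hy) _ hxS)).eq
  calc a * (y * y) * (x * x) * (a * (y * y) * (x * x))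
      = a * (y * y) * (x * x) * (x * x * (a * (y * y))) := by rw [← c2]
    _ = a * (y * y) * (x * x * (x * x)) * (a * (y * y)) := by group
    _ = a * (y * y * a) * (y * y) := by rw [h1 x hx]; group
    _ = a * (a * (y * y)) * (y * y) := by rw [c1]
    _ = (a * a) * (y * y * (y * y)) := by group
    _ = 1 := by rw [h1 y hy, h1 _ (mul_mem hx hy), mul_one]

variable [Finite X] [Group.IsSolvable X]

/-- With trivial odd core the 2-core holds all 2-subgroups. -/
theorem two_le_pCore (hX : Shape X) (hO : Cfsg.pPrimeCore 2 X = ⊥) {S : Subgroup X} (hS : IsPGroup 2 S) :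
    S ≤ Cfsg.pCore 2 X := by
  haveI : Fact (Nat.Prime 2) := ⟨Nat.prime_two⟩
  set T := Cfsg.pCore 2 X with hT
  haveI hTn : T.Normal := Cfsg.pCore_normal 2 X
  obtain ⟨P, hP⟩ := hS.exists_le_sylow
  refine hP.trans ?_
  have hTP : T ≤ (P : Subgroup X) := PBasic.pCore_le_sylow P
  obtain ⟨-, h2, -⟩ := hX P P.isPGroup'
  let C : Subgroup X :=
    { carrier := {x | (∀ t ∈ T, t * t = 1 → x * t = t * x) ∧
        ∀ t ∈ T, x * t * x⁻¹ * t⁻¹ * (x * t * x⁻¹ * t⁻¹) = 1}
      one_mem' := ⟨fun t _ _ => by simp, fun t _ => by simp⟩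
      mul_mem' := by
        rintro x y ⟨hx1, hx2⟩ ⟨hy1, hy2⟩
        refine ⟨fun t ht h => ?_, fun t ht => ?_⟩
        · rw [mul_assoc, hy1 t ht h, ← mul_assoc, hx1 t ht h, mul_assoc]
        · set c := y * t * y⁻¹ * t⁻¹ with hc
          have hcT : c ∈ T := mul_mem (hTn.conj_mem t ht y) (inv_mem ht)
          have hdT : x * t * x⁻¹ * t⁻¹ ∈ T := mul_mem (hTn.conj_mem t ht x) (inv_mem ht)
          have e : x * y * t * (x * y)⁻¹ * t⁻¹ = c * (x * t * x⁻¹ * t⁻¹) := by
            calc x * y * t * (x * y)⁻¹ * t⁻¹ = x * c * x⁻¹ * (x * t * x⁻¹ * t⁻¹) := by rw [hc]; group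
              _ = _ := by rw [hx1 c hcT (hy2 t ht), mul_inv_cancel_right]
          rw [e]
          have hcd := h2 c (hTP hcT) (hy2 t ht) _ (hTP hdT)
          calc c * (x * t * x⁻¹ * t⁻¹) * (c * (x * t * x⁻¹ * t⁻¹))
              = c * (x * t * x⁻¹ * t⁻¹ * c) * (x * t * x⁻¹ * t⁻¹) := by group
            _ = c * (c * (x * t * x⁻¹ * t⁻¹)) * (x * t * x⁻¹ * t⁻¹) := by rw [← hcd]
            _ = c * c * (x * t * x⁻¹ * t⁻¹ * (x * t * x⁻¹ * t⁻¹)) := by group
            _ = 1 := by rw [hy2 t ht, hx2 t ht, mul_one]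
      inv_mem' := by
        rintro x ⟨hx1, hx2⟩
        have hi1 : ∀ t ∈ T, t * t = 1 → x⁻¹ * t = t * x⁻¹ := fun t ht h =>
          ((show Commute x t from hx1 t ht h).inv_left).eq
        refine ⟨hi1, fun t ht => ?_⟩
        set s := x⁻¹ * t * x⁻¹⁻¹ with hs
        have hsT : s ∈ T := hTn.conj_mem t ht x⁻¹
        set c := x * s * x⁻¹ * s⁻¹ with hc
        have hcT : c ∈ T := mul_mem (hTn.conj_mem s hsT x) (inv_mem hsT)
        have e : s * t⁻¹ = c⁻¹ := by rw [hc, hs]; group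
        rw [e, ← mul_inv_rev, hc, hx2 s hsT, inv_one] }
  haveI hCn : C.Normal := by
    refine ⟨fun x hx g => ⟨fun t ht h => ?_, fun t ht => ?_⟩⟩
    · have ht' : g⁻¹ * t * g ∈ T := by simpa using hTn.conj_mem t ht g⁻¹
      have := hx.1 _ ht' (by rw [show g⁻¹ * t * g * (g⁻¹ * t * g) = g⁻¹ * (t * t) * g by group, h]; group)
      calc g * x * g⁻¹ * t = g * (x * (g⁻¹ * t * g)) * g⁻¹ := by group
        _ = g * (g⁻¹ * t * g * x) * g⁻¹ := by rw [this]
        _ = _ := by group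
    · have ht' : g⁻¹ * t * g ∈ T := by simpa using hTn.conj_mem t ht g⁻¹
      set d := x * (g⁻¹ * t * g) * x⁻¹ * (g⁻¹ * t * g)⁻¹ with hd
      rw [show g * x * g⁻¹ * t * (g * x * g⁻¹)⁻¹ * t⁻¹ = g * d * g⁻¹ by rw [hd]; group,
        show g * d * g⁻¹ * (g * d * g⁻¹) = g * (d * d) * g⁻¹ by group, hd, hx.2 _ ht']
      group
  have hC2 : IsPGroup 2 C := by
    rw [PBasic.isPGroup_iff_forall_coprime]
    intro x hx
    refine Subtype.ext (Subgroup.mem_bot.1 ?_)
    have hxc : (x : X) ∈ Subgroup.centralizer (T : Set X) := by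
      rw [mem_centralizer_iff]
      intro t ht
      set c := (x : X) * t * (x : X)⁻¹ * t⁻¹ with hc
      have hcT : c ∈ T := mul_mem (hTn.conj_mem t ht _) (inv_mem ht)
      have hxcomm : Commute c (x : X) := (x.2.1 c hcT (x.2.2 t ht)).symm
      have hk : ∀ k : ℕ, (x : X) ^ k * t * ((x : X) ^ k)⁻¹ = c ^ k * t := by
        intro k
        induction k with
        | zero => simp
        | succ k ih =>
          calc (x : X) ^ (k + 1) * t * ((x : X) ^ (k + 1))⁻¹
              = (x : X) * ((x : X) ^ k * t * ((x : X) ^ k)⁻¹) * (x : X)⁻¹ := by rw [pow_succ']; group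
            _ = (x : X) * c ^ k * (x : X)⁻¹ * ((x : X) * t * (x : X)⁻¹) := by rw [ih]; group
            _ = c ^ k * (c * t) := by
                rw [← (hxcomm.pow_left k).eq, mul_inv_cancel_right,
                  show c * t = (x : X) * t * (x : X)⁻¹ by rw [hc]; group]
            _ = c ^ (k + 1) * t := by rw [pow_succ, mul_assoc (c ^ k) c t]
      have ho : Odd (orderOf (x : X)) := by
        rw [Subgroup.orderOf_coe]; exact Nat.coprime_two_right.1 hx
      have h1 : c ^ orderOf (x : X) = 1 := by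
        have h := (hk (orderOf (x : X))).symm
        rwa [pow_orderOf_eq_one, one_mul, inv_one, mul_one, mul_eq_right] at h
      have hc1 : c = 1 := by
        obtain ⟨m, hm⟩ := ho
        rwa [hm, pow_succ, pow_mul, pow_two, hc, x.2.2 t ht, one_pow, one_mul] at h1
      exact ((mul_inv_eq_iff_eq_mul.1 (mul_inv_eq_one.1 hc1))).symm
    have hxT := FittingCores.centralizer_pCore_le Nat.prime_two hO hxc
    rw [PBasic.eq_one_of_isPGroup_of_coprime (PBasic.pCore_isPGroup 2 X) hxT (by rwa [Subgroup.orderOf_coe])]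
    exact one_mem _
  refine fun s hs => PBasic.le_pCore hCn hC2 ⟨fun t ht h => (h2 t (hTP ht) h s hs).symm, fun t ht => ?_⟩
  exact hX.comm_sq P.isPGroup' hs (hTP ht)

theorem oddCore_odd : Odd (Nat.card (Cfsg.oddCore X)) :=
  Nat.coprime_two_right.1 (FittingCores.pPrimeCore_coprime 2)

/-- 2-subgroups are normalised modulo the odd core: the image lies in the 2-core. -/
theorem two_le_comap (hX : Shape X) {S : Subgroup X} (hS : IsPGroup 2 S) :
    haveI : (Cfsg.oddCore X).Normal := FittingCores.pPrimeCore_normal 2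
    S ≤ (Cfsg.pCore 2 (X ⧸ Cfsg.oddCore X)).comap (QuotientGroup.mk' _) := by
  haveI : (Cfsg.oddCore X).Normal := FittingCores.pPrimeCore_normal 2
  rw [← Subgroup.map_le_iff_le_comap]
  haveI : Group.IsSolvable (X ⧸ Cfsg.oddCore X) :=
    Group.isSolvable_of_surjective (QuotientGroup.mk'_surjective _)
  refine two_le_pCore (hX.of_surjective_odd _ (QuotientGroup.mk'_surjective _) ?_)
    (FittingCores.pPrimeCore_quotient_eq_bot 2 _ rfl) (hS.map _)
  rw [QuotientGroup.ker_mk']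
  exact oddCore_odd

/-- An element of square one commutes with elements of 2-power order modulo the odd core. -/
theorem comm_mod (hX : Shape X) {t x : X} (ht : t * t = 1) {n : ℕ} (hx : x ^ 2 ^ n = 1) :
    t * x * t⁻¹ * x⁻¹ ∈ Cfsg.oddCore X := by
  haveI : (Cfsg.oddCore X).Normal := FittingCores.pPrimeCore_normal 2
  haveI : Group.IsSolvable (X ⧸ Cfsg.oddCore X) :=
    Group.isSolvable_of_surjective (QuotientGroup.mk'_surjective _)
  set π := QuotientGroup.mk' (Cfsg.oddCore X)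
  have hz : ∀ {y : X} {k : ℕ}, y ^ 2 ^ k = 1 → IsPGroup 2 (Subgroup.zpowers y) := fun {y k} hy w => by
    obtain ⟨i, hi⟩ := Subgroup.mem_zpowers_iff.1 w.2
    exact ⟨k, Subtype.ext (by
      rw [Subgroup.coe_pow, ← hi, ← zpow_natCast, zpow_comm, zpow_natCast, hy, one_zpow, Subgroup.coe_one])⟩
  have h1 := two_le_comap hX (hz (k := 1) (by rwa [pow_one, pow_two])) (mem_zpowers t)
  have h2 := two_le_comap hX (hz hx) (mem_zpowers x)
  have hsh := hX.of_surjective_odd π (QuotientGroup.mk'_surjective _)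
    (by rw [QuotientGroup.ker_mk']; exact oddCore_odd)
  have h := (hsh _ (PBasic.pCore_isPGroup 2 _)).2.1 (π t) h1 (by rw [← map_mul, ht, map_one]) (π x) h2
  rw [← QuotientGroup.eq_one_iff]
  show π (t * x * t⁻¹ * x⁻¹) = 1
  simp only [map_mul, map_inv]
  rw [h]; group

/-- The join of a Sylow 2-subgroup with the odd core is normal. -/
theorem sylow_sup_normal (hX : Shape X) [Fact (Nat.Prime 2)] (S : Sylow 2 X) :
    ((S : Subgroup X) ⊔ Cfsg.oddCore X).Normal := by
  haveI : (Cfsg.oddCore X).Normal := FittingCores.pPrimeCore_normal 2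
  set π := QuotientGroup.mk' (Cfsg.oddCore X)
  haveI := Cfsg.pCore_normal 2 (X ⧸ Cfsg.oddCore X)
  have h1 := map_le_iff_le_comap.2 (two_le_comap hX S.isPGroup')
  have h3 := (S.mapSurjective (QuotientGroup.mk'_surjective (Cfsg.oddCore X))).is_maximal'
    (PBasic.pCore_isPGroup 2 _) (by rw [Sylow.coe_mapSurjective]; exact h1)
  rw [Sylow.coe_mapSurjective] at h3
  have h4 : (Cfsg.pCore 2 (X ⧸ Cfsg.oddCore X)).comap π = (S : Subgroup X) ⊔ Cfsg.oddCore X := by
    rw [h3, Subgroup.comap_map_eq, QuotientGroup.ker_mk']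
  rw [← h4]
  infer_instance

/-- Every element is a product of an element of the odd core and one normalising the Sylow 2-subgroup. -/
theorem exists_mul_normalizer (hX : Shape X) [Fact (Nat.Prime 2)] (S : Sylow 2 X) (g : X) :
    ∃ o ∈ Cfsg.oddCore X, ∃ n ∈ normalizer ((S : Subgroup X) : Set X), g = o * n := by
  haveI : (Cfsg.oddCore X).Normal := FittingCores.pPrimeCore_normal 2
  haveI hn := sylow_sup_normal hX S
  have hsyl : IsSylowIn 2 (S : Subgroup X) ((S : Subgroup X) ⊔ Cfsg.oddCore X) :=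
    (isSylowIn_sylow S).of_le le_sup_left le_top
  have hmap : ((S : Subgroup X) ⊔ Cfsg.oddCore X).map (cj g) = (S : Subgroup X) ⊔ Cfsg.oddCore X :=
    map_cj_eq_iff.2 (by rw [normalizer_eq_top]; trivial)
  obtain ⟨r, hr, hrS⟩ := exists_conj_eq_of_isSylowIn hsyl (hmap ▸ hsyl.map_cj g)
  rw [map_map_cj] at hrS
  have hrg : r * g ∈ normalizer ((S : Subgroup X) : Set X) := map_cj_eq_iff.1 hrS
  have hr' : r⁻¹ ∈ Cfsg.oddCore X ⊔ (S : Subgroup X) := sup_comm (S : Subgroup X) _ ▸ inv_mem hr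
  rw [← SetLike.mem_coe, Subgroup.normal_mul] at hr'
  obtain ⟨o, ho, s, hs, hos⟩ := hr'
  refine ⟨o, ho, s * (r * g), mul_mem (le_normalizer hs) hrg, ?_⟩
  calc g = o * s * r * g := by rw [show o * s = r⁻¹ from hos]; group
    _ = _ := by group

/-- Elements of square one of a Sylow 2-subgroup that are conjugate are conjugate in its normaliser. -/
theorem exists_normalizer_conj (hX : Shape X) [Fact (Nat.Prime 2)] (S : Sylow 2 X) {s t g : X}
    (hs : s ∈ (S : Subgroup X)) (ht : t ∈ (S : Subgroup X)) (hg : g * s * g⁻¹ = t) :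
    ∃ n ∈ normalizer ((S : Subgroup X) : Set X), n * s * n⁻¹ = t := by
  haveI : (Cfsg.oddCore X).Normal := FittingCores.pPrimeCore_normal 2
  obtain ⟨o, ho, n, hn, rfl⟩ := exists_mul_normalizer hX S g
  refine ⟨n, hn, inv_mul_eq_one.1 ?_⟩
  have hns : n * s * n⁻¹ ∈ (S : Subgroup X) := (mem_normalizer_iff.1 hn s).1 hs
  set v := n * s * n⁻¹ with hv
  refine eq_one_of_two_of_odd S.isPGroup' oddCore_odd (mul_mem (inv_mem hns) ht) ?_
  rw [← hg, show v⁻¹ * (o * n * s * (o * n)⁻¹) = (v⁻¹ * o * v⁻¹⁻¹) * o⁻¹ by rw [hv]; group]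
  exact mul_mem ((inferInstance : (Cfsg.oddCore X).Normal).conj_mem o ho _) (inv_mem ho)

/-- An element of odd order centralising a Sylow 2-subgroup modulo the odd core lies in it. -/
theorem mem_oddCore_of_comm_mod (hX : Shape X) [Fact (Nat.Prime 2)] (S : Sylow 2 X) {x : X}
    (hx : Odd (orderOf x)) (hc : ∀ s ∈ (S : Subgroup X), x * s * x⁻¹ * s⁻¹ ∈ Cfsg.oddCore X) :
    x ∈ Cfsg.oddCore X := by
  haveI : (Cfsg.oddCore X).Normal := FittingCores.pPrimeCore_normal 2
  haveI : Group.IsSolvable (X ⧸ Cfsg.oddCore X) :=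
    Group.isSolvable_of_surjective (QuotientGroup.mk'_surjective _)
  set π := QuotientGroup.mk' (Cfsg.oddCore X)
  have hbot := FittingCores.pPrimeCore_quotient_eq_bot 2 (Cfsg.oddCore X) rfl
  haveI := Cfsg.pCore_normal 2 (X ⧸ Cfsg.oddCore X)
  have h3 := (S.mapSurjective (QuotientGroup.mk'_surjective (Cfsg.oddCore X))).is_maximal'
    (PBasic.pCore_isPGroup 2 _) (by
      rw [Sylow.coe_mapSurjective]; exact map_le_iff_le_comap.2 (two_le_comap hX S.isPGroup'))
  rw [Sylow.coe_mapSurjective] at h3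
  have hxc : π x ∈ Subgroup.centralizer (Cfsg.pCore 2 (X ⧸ Cfsg.oddCore X) : Set (X ⧸ Cfsg.oddCore X)) := by
    rw [h3, mem_centralizer_iff]
    rintro _ ⟨s, hs, rfl⟩
    have h : π (x * s * x⁻¹ * s⁻¹) = 1 := (QuotientGroup.eq_one_iff _).2 (hc s hs)
    simp only [map_mul, map_inv] at h
    rw [mul_inv_eq_one, mul_inv_eq_iff_eq_mul] at h
    exact h.symm
  have hxT := FittingCores.centralizer_pCore_le Nat.prime_two hbot hxc
  rw [← QuotientGroup.eq_one_iff]
  exact PBasic.eq_one_of_isPGroup_of_coprime (PBasic.pCore_isPGroup 2 _) hxT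
    (Nat.coprime_two_right.2 (hx.of_dvd_nat (orderOf_map_dvd π x)))

end Cfsg.Agent.SESolv
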