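import Cfsg.Agent.Lib.SEBrick.Reduce
import Cfsg.Agent.Lib.SESolv.Shape

/-!
Solvable strongly embedded subgroups of restricted shape: hypotheses, cores, subgroups and quotients.
-/

set_option autoImplicit false
set_option linter.style.haveILetI false
set_option linter.unusedSectionVars false

namespace Cfsg.Agent.SESolv

open Cfsg Subgroup

universe u

variable {G : Type u} [Group G] [Finite G]

/-- The odd core of a subgroup. -/
def oc (L : Subgroup G) : Subgroup G := (Cfsg.oddCore L).map L.subtype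

/-- The `p`-core of a subgroup. -/
def coreAt (p : ℕ) (L : Subgroup G) : Subgroup G := (Cfsg.pCore p L).map L.subtype

theorem oc_le (L : Subgroup G) : oc L ≤ L := map_subtype_le _

theorem coreAt_le (p : ℕ) (L : Subgroup G) : coreAt p L ≤ L := map_subtype_le _

theorem oc_odd (L : Subgroup G) : Odd (Nat.card (oc L)) := by
  rw [oc, card_map_of_injective L.subtype_injective]
  exact SEBrick.oddCore_odd

theorem le_normalizer_map {L : Subgroup G} {N : Subgroup L} (hN : N.Normal) :
    L ≤ normalizer ((N.map L.subtype : Subgroup G) : Set G) :=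
  SEBrick.le_normalizer_of fun l hl x hx => by
    obtain ⟨y, hy, rfl⟩ := hx
    exact ⟨⟨l, hl⟩ * y * ⟨l, hl⟩⁻¹, hN.conj_mem y hy _, rfl⟩

theorem oc_normal (L : Subgroup G) : L ≤ normalizer (oc L : Set G) :=
  le_normalizer_map (FittingCores.pPrimeCore_normal 2)

theorem coreAt_normal (p : ℕ) (L : Subgroup G) : L ≤ normalizer (coreAt p L : Set G) :=
  le_normalizer_map (Cfsg.pCore_normal p L)

theorem coreAt_isPGroup (p : ℕ) (L : Subgroup G) : IsPGroup p (coreAt p L) :=
  (PBasic.pCore_isPGroup p L).map _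

theorem le_oc {L Y : Subgroup G} (hYL : Y ≤ L) (ho : Odd (Nat.card Y)) (hn : L ≤ normalizer (Y : Set G)) :
    Y ≤ oc L := fun y hy => by
  refine ⟨⟨y, hYL hy⟩, ?_, rfl⟩
  refine FittingCores.le_pPrimeCore ((normal_subgroupOf_iff_le_normalizer hYL).2 hn)
    (Nat.coprime_two_right.2 ?_) (show (⟨y, hYL hy⟩ : L) ∈ Y.subgroupOf L from hy)
  rwa [Nat.card_congr (subgroupOfEquivOfLe hYL).toEquiv]

theorem le_coreAt {p : ℕ} {L Y : Subgroup G} (hYL : Y ≤ L) (hp : IsPGroup p Y)
    (hn : L ≤ normalizer (Y : Set G)) : Y ≤ coreAt p L := fun y hy =>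
  ⟨⟨y, hYL hy⟩, PBasic.le_pCore ((normal_subgroupOf_iff_le_normalizer hYL).2 hn) hp.comap_subtype
    (show (⟨y, hYL hy⟩ : L) ∈ Y.subgroupOf L from hy), rfl⟩

/-- A strongly embedded subgroup that is solvable, holds a four-group and has the shape. -/
structure Hyp (H : Subgroup G) : Prop where
  se : Cfsg.IsStronglyEmbedded H
  solv : Group.IsSolvable H
  four : ∃ E ≤ H, SEBrick.IsFour E
  shape : Shape H

variable {H : Subgroup G}

/-- An odd subgroup normalised by a four-group of a strongly embedded subgroup lies in it. -/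
theorem le_of_four (hH : Cfsg.IsStronglyEmbedded H) {Y E : Subgroup G} (hY : Odd (Nat.card Y))
    (hE : SEBrick.IsFour E) (hEH : E ≤ H) (hEY : E ≤ normalizer (Y : Set G)) : Y ≤ H := by
  haveI := hE.1.1
  obtain ⟨n, hn⟩ := (IsPGroup.iff_card (p := 2)).1 hE.isPGroup
  have hcop : (Nat.card E).Coprime (Nat.card Y) := by
    rw [hn]; exact (Nat.coprime_two_left.2 hY).pow_left n
  rw [← CoprimeAct.generated_by_centralizers hE.not_isCyclic hEY hcop]
  exact iSup₂_le fun a ha => inf_le_right.trans (Invol.se_centralizer_le hH (hE.order ha.1 ha.2) (hEH ha.1))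

theorem IsFour.exists_ne {E : Subgroup G} (hE : SEBrick.IsFour E) : ∃ e ∈ E, e ≠ 1 := by
  by_contra hc
  push Not at hc
  have h4 := hE.2
  rw [(eq_bot_iff_forall E).2 hc, card_bot] at h4
  omega

/-- The intersection of a strongly embedded subgroup with a subgroup not in it. -/
theorem se_sub (hH : Cfsg.IsStronglyEmbedded H) {L : Subgroup G} {t : G} (ht : orderOf t = 2) (htH : t ∈ H)
    (htL : t ∈ L) (hL : ¬ L ≤ H) : Cfsg.IsStronglyEmbedded (H.subgroupOf L) := by
  refine ⟨fun hh => hL (subgroupOf_eq_top.1 hh), ?_, fun g hg => ?_⟩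
  · exact Invol.even_of_invol_mem (t := ⟨t, htL⟩) (by rwa [Subgroup.orderOf_mk]) htH
  · refine SEBrick.odd_card_of_orders fun a ha ha2 => hg (mem_subgroupOf.2 ?_)
    obtain ⟨haH, hag⟩ := ha
    have hag' : (g : G)⁻¹ * (a : G) * g ∈ H := mem_subgroupOf.1 (Invol.mem_conj_map.1 hag)
    refine Invol.se_mem_of_conj hH (t := (g : G)⁻¹ * (a : G) * g) ?_ hag' ?_
    · rw [show (g : G)⁻¹ * (a : G) * g = (g : G)⁻¹ * (a : G) * (g : G)⁻¹⁻¹ by group, Invol.order_conj,
        Subgroup.orderOf_coe, ha2]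
    · rw [show (g : G) * ((g : G)⁻¹ * (a : G) * g) * (g : G)⁻¹ = a by group]
      exact haH

theorem Hyp.sub (h : Hyp H) {L E : Subgroup G} (hE : SEBrick.IsFour E) (hEH : E ≤ H) (hEL : E ≤ L)
    (hL : ¬ L ≤ H) : Hyp (H.subgroupOf L) := by
  haveI := h.solv
  obtain ⟨e, he, he1⟩ := IsFour.exists_ne hE
  let f : H.subgroupOf L →* H :=
    { toFun := fun x => ⟨((x : L) : G), x.2⟩
      map_one' := rfl
      map_mul' := fun _ _ => rfl }
  have hf : Function.Injective f := fun x y h => by
    have h' := congrArg (fun z : H => (z : G)) h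
    exact Subtype.ext (Subtype.ext h')
  refine ⟨se_sub h.se (hE.order he he1) (hEH he) (hEL he) hL,
    Group.isSolvable_of_isSolvable_injective (f := f) hf, ⟨E.subgroupOf L, fun e he => hEH he, ⟨?_, ?_⟩, ?_⟩,
    h.shape.of_injective f hf⟩
  · exact .of_setLike_mul_comm fun a ha b hb => Subtype.ext (hE.comm ha hb)
  · exact fun a ha => Subtype.ext (by simpa using hE.1.2 _ ha)
  · rw [Nat.card_congr (subgroupOfEquivOfLe hEL).toEquiv]
    exact hE.2

/-- An involution of the image lifts, the kernel being odd. -/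
theorem exists_invol_lift {K : Type u} [Group K] (f : G →* K) (hk : Odd (Nat.card f.ker)) {L : Subgroup G}
    {q : K} (hq : q ∈ L.map f) (hq2 : orderOf q = 2) : ∃ t ∈ L, orderOf t = 2 ∧ f t = q := by
  obtain ⟨T, hT, hTq⟩ := exists_lift_two (f.comp L.subtype) (S := Subgroup.zpowers q)
    (IsPGroup.of_card (n := 1) (by rw [Nat.card_zpowers, hq2, pow_one]))
    (Subgroup.zpowers_le.2 (by obtain ⟨x, hx, rfl⟩ := hq; exact ⟨⟨x, hx⟩, rfl⟩))
  obtain ⟨x, hx, hxq⟩ : q ∈ T.map (f.comp L.subtype) := hTq ▸ mem_zpowers q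
  refine ⟨(x : G), x.2, Invol.order_two_of_sq (injOn_of_two f hk (hT.map L.subtype)
    (mul_mem (mem_map_of_mem L.subtype hx) (mem_map_of_mem L.subtype hx)) (one_mem _) ?_) fun h => ?_, hxq⟩
  · rw [map_mul, map_one]
    show (f.comp L.subtype) x * (f.comp L.subtype) x = 1
    rw [hxq, Invol.mul_self hq2]
  · rw [← hxq, MonoidHom.comp_apply, coe_subtype, h, map_one, orderOf_one] at hq2
    omega

/-- Passage to a quotient by an odd normal subgroup inside `H`. -/
theorem Hyp.map_quot {K : Type u} [Group K] [Finite K] (h : Hyp H) (f : G →* K) (hfs : Function.Surjective f)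
    (hk : Odd (Nat.card f.ker)) (hkH : f.ker ≤ H) : Hyp (H.map f) := by
  haveI := h.solv
  have hmemH : ∀ g, f g ∈ H.map f ↔ g ∈ H := fun g => by
    refine ⟨?_, fun hg => mem_map_of_mem f hg⟩
    rintro ⟨a, ha, e⟩
    have : a⁻¹ * g ∈ f.ker := by rw [MonoidHom.mem_ker, map_mul, map_inv, e, inv_mul_cancel]
    simpa using mul_mem ha (hkH this)
  have hks : Odd (Nat.card (f.subgroupMap H).ker) := by
    refine hk.of_dvd_nat ?_
    rw [← card_map_of_injective (K := (f.subgroupMap H).ker) H.subtype_injective]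
    refine card_dvd_of_le ?_
    rintro _ ⟨x, hx, rfl⟩
    exact congrArg Subtype.val (show f.subgroupMap H x = 1 from hx)
  obtain ⟨E, hEH, hE⟩ := h.four
  refine ⟨⟨fun htop => h.se.1 ((Subgroup.eq_top_iff' H).2 fun g => (hmemH g).1 (htop ▸ mem_top _)), ?_,
    fun q hq => ?_⟩, Group.isSolvable_of_surjective (f.subgroupMap_surjective H),
    ⟨E.map f, map_mono hEH, hE.map f (injOn_of_two f hk hE.isPGroup)⟩,
    h.shape.of_surjective_odd _ (f.subgroupMap_surjective H) hks⟩
  · obtain ⟨t, htH, ht⟩ := Invol.exists_invol h.se.2.1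
    refine Invol.even_of_invol_mem (Invol.order_two_of_sq ?_ ?_) (mem_map_of_mem f htH)
    · rw [← map_mul, Invol.mul_self ht, map_one]
    · intro h1
      have := SEBrick.odd_order hk (show t ∈ f.ker from h1)
      rw [ht] at this
      exact absurd this (by decide)
  · obtain ⟨g, rfl⟩ := hfs q
    refine SEBrick.odd_card_of_orders fun q hq' hq2 => hq ?_
    obtain ⟨hqH, hqg⟩ := hq'
    obtain ⟨t, htH, ht, rfl⟩ := exists_invol_lift f hk hqH hq2
    have hag := Invol.mem_conj_map.1 hqg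
    rw [← map_inv, ← map_mul, ← map_mul, hmemH] at hag
    refine mem_map_of_mem f (Invol.se_mem_of_conj h.se (g := g) (t := g⁻¹ * t * g) ?_ hag ?_)
    · rw [show g⁻¹ * t * g = g⁻¹ * t * g⁻¹⁻¹ by group, Invol.order_conj, ht]
    · rwa [show g * (g⁻¹ * t * g) * g⁻¹ = t by group]

/-- The inductive statement. -/
def Goal (G : Type u) [Group G] [Finite G] : Prop := ∀ H : Subgroup G, Hyp H → oc H ≤ Cfsg.oddCore G

theorem Hyp.le_oddCore_of_quotient (h : Hyp H) (ih : Goal (G ⧸ Cfsg.oddCore G)) :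
    oc H ≤ Cfsg.oddCore G := by
  set O := Cfsg.oddCore G with hO
  haveI : O.Normal := FittingCores.pPrimeCore_normal 2
  set f := QuotientGroup.mk' O with hf
  have hk : f.ker = O := QuotientGroup.ker_mk' O
  have hOodd : Odd (Nat.card O) := SEBrick.oddCore_odd
  obtain ⟨E, hEH, hE⟩ := h.four
  have hOH : O ≤ H := le_of_four h.se hOodd hE hEH (by rw [normalizer_eq_top]; exact le_top)
  have h' := h.map_quot f (QuotientGroup.mk'_surjective O) (by rw [hk]; exact hOodd) (by rw [hk]; exact hOH)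
  have hle : (oc H).map f ≤ oc (H.map f) := le_oc (map_mono (oc_le H))
    ((oc_odd H).of_dvd_nat (card_map_dvd _ f))
    ((Subgroup.map_mono (oc_normal H)).trans (Subgroup.le_normalizer_map f))
  have hbot : Cfsg.oddCore (G ⧸ O) = ⊥ := FittingCores.pPrimeCore_quotient_eq_bot 2 O hO
  have := hle.trans (ih _ h')
  rw [hbot, le_bot_iff, Subgroup.map_eq_bot_iff, hk] at this
  exact this

end Cfsg.Agent.SESolv
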