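import Cfsg.Agent.Lib.SESolv.ClosedCore

/-!
One prime only: `r`-subgroups normalised by a largest elementary 2-subgroup have their normalisers in `H`.
-/

set_option autoImplicit false
set_option linter.style.haveILetI false
set_option linter.unusedSectionVars false

namespace Cfsg.Agent.SESolv

open Cfsg Subgroup MulAction

universe u

variable {G : Type u} [Group G] [Finite G] {H : Subgroup G}

theorem normalizer_le_oc (L : Subgroup G) : normalizer (L : Set G) ≤ normalizer (oc L : Set G) := by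
  refine SEBrick.le_normalizer_of fun g hg x hx => ?_
  refine le_oc (Y := (oc L).map (MulAut.conj g).toMonoidHom) ?_ ?_ ?_ ⟨x, hx, rfl⟩
  · rintro _ ⟨y, hy, rfl⟩
    exact SEBrick.conj_mem_of hg (oc_le L hy)
  · rw [card_map_of_injective (MulAut.conj g).injective]
    exact oc_odd L
  · refine SEBrick.le_normalizer_of fun a ha z hz => ?_
    obtain ⟨y, hy, rfl⟩ := hz
    refine ⟨g⁻¹ * a * g * y * (g⁻¹ * a * g)⁻¹,
      SEBrick.conj_mem_of (oc_normal L ((mem_normalizer_iff''.1 hg a).1 ha)) hy, ?_⟩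
    show g * (g⁻¹ * a * g * y * (g⁻¹ * a * g)⁻¹) * g⁻¹ = a * (g * y * g⁻¹) * a⁻¹
    group

/-- Sylow subgroups sharing the elements of square one of one of them share them all. -/
theorem Syl.omega_eq {S S' : Subgroup G} (hS : Syl H S) (hS' : Syl H S') (h : hS.omega ≤ S') :
    hS'.omega = hS.omega := by
  have h1 : hS.omega ≤ hS'.omega := fun x hx => ⟨h hx, hx.2⟩
  refine (Subgroup.eq_of_le_of_card_ge h1 ?_).symm
  obtain ⟨g, -, hg⟩ := hS.conj_into S' hS'.le hS'.two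
  rw [← card_map_of_injective (K := hS'.omega) (f := (MulAut.conj g).toMonoidHom) (MulAut.conj g).injective]
  refine card_le_of_le ?_
  rintro _ ⟨x, hx, rfl⟩
  refine ⟨hg x hx.1, ?_⟩
  show g * x * g⁻¹ * (g * x * g⁻¹) = 1
  rw [show g * x * g⁻¹ * (g * x * g⁻¹) = g * (x * x) * g⁻¹ by group, hx.2]
  group

/-- An automorphism of odd order fixing an element of order four and the square-one elements fixes the Sylow subgroup. -/
theorem Syl.comm_of_fix {S : Subgroup G} (hS : Syl H S) {n : G} (hn : n ∈ normalizer (S : Set G)) {m : ℕ}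
    (hm : Odd m) (hnm : ∀ s ∈ S, n ^ m * s = s * n ^ m) (hΩ : ∀ e ∈ hS.omega, n * e * n⁻¹ = e) {f : G}
    (hf : f ∈ S) (hf2 : f * f ≠ 1) (hnf : n * f * n⁻¹ = f) : ∀ s ∈ S, n * s * n⁻¹ = s := by
  -- a constant difference of odd period vanishes
  have hd : ∀ x ∈ S, ∀ d ∈ S, n * x * n⁻¹ = x * d → n * d * n⁻¹ = d → d = 1 := by
    intro x hx d hdS e1 e2
    have hk : ∀ k : ℕ, n ^ k * x * (n ^ k)⁻¹ = x * d ^ k := by
      intro k
      induction k with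
      | zero => simp
      | succ k ih =>
        calc n ^ (k + 1) * x * (n ^ (k + 1))⁻¹ = n * (n ^ k * x * (n ^ k)⁻¹) * n⁻¹ := by rw [pow_succ']; group
          _ = n * x * n⁻¹ * (n * d ^ k * n⁻¹) := by rw [ih]; group
          _ = _ := by rw [e1, ← conj_pow, e2, pow_succ', mul_assoc]
    have h1 : d ^ m = 1 := by
      have := hk m
      rw [hnm x hx, mul_inv_cancel_right] at this
      exact mul_eq_left.1 this.symm
    obtain ⟨j, hj⟩ := hS.two ⟨d, hdS⟩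
    exact orderOf_eq_one_iff.1 (Nat.eq_one_of_dvd_coprimes ((Nat.coprime_two_left.2 hm).pow_left j)
      (orderOf_dvd_of_pow_eq_one (by simpa using congrArg Subtype.val hj)) (orderOf_dvd_of_pow_eq_one h1))
  have hmemS : ∀ {x : G}, x ∈ S → x * x ∈ hS.omega := fun {x} hx => ⟨S.mul_mem hx hx, hS.sq x hx⟩
  have hconjS : ∀ {x : G}, x ∈ S → n * x * n⁻¹ ∈ S := fun {x} hx => SEBrick.conj_mem_of hn hx
  have hcf : ∀ x ∈ S, f * x = x * f → n * x * n⁻¹ = x := by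
    intro x hx hfx
    have hd' : n * x * n⁻¹ = x * (x⁻¹ * (n * x * n⁻¹)) := by rw [mul_inv_cancel_left]
    have hfx' : f * (n * x * n⁻¹) = n * x * n⁻¹ * f := by
      calc f * (n * x * n⁻¹) = n * f * n⁻¹ * (n * x * n⁻¹) := by rw [hnf]
        _ = n * (f * x) * n⁻¹ := by group
        _ = n * (x * f) * n⁻¹ := by rw [hfx]
        _ = n * x * n⁻¹ * (n * f * n⁻¹) := by group
        _ = _ := by rw [hnf]
    have hab := hS.ab f hf hf2 x hx _ (hconjS hx) hfx hfx'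
    set d := x⁻¹ * (n * x * n⁻¹) with hd0
    have hdS : d ∈ S := S.mul_mem (S.inv_mem hx) (hconjS hx)
    have hd2 : d * d = 1 := by
      have hc : Commute x⁻¹ (n * x * n⁻¹) := (show Commute x (n * x * n⁻¹) from hab).inv_left
      rw [← pow_two, hd0, hc.mul_pow, inv_pow, pow_two (n * x * n⁻¹),
        show n * x * n⁻¹ * (n * x * n⁻¹) = n * (x * x) * n⁻¹ by group, hΩ _ (hmemS hx), pow_two, inv_mul_cancel]
    rw [hd', hd x hx d hdS hd' (hΩ d ⟨hdS, hd2⟩), mul_one]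
  intro g hg
  set c := f⁻¹ * (g * f * g⁻¹) with hc
  have hcΩ : c ∈ hS.omega := by
    rw [show c = (f * f)⁻¹ * ((f * g) * (f * g)) * (g * g)⁻¹ by rw [hc]; group]
    exact mul_mem (mul_mem (inv_mem (hmemS hf)) (hmemS (S.mul_mem hf hg))) (inv_mem (hmemS hg))
  have hgf : g * f * g⁻¹ = f * c := by rw [hc, mul_inv_cancel_left]
  set g' := n * g * n⁻¹ with hg'
  have hg'f : g' * f * g'⁻¹ = f * c := by
    calc g' * f * g'⁻¹ = n * g * n⁻¹ * (n * f * n⁻¹) * (n * g * n⁻¹)⁻¹ := by rw [hnf]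
      _ = n * (g * f * g⁻¹) * n⁻¹ := by group
      _ = n * (f * c) * n⁻¹ := by rw [hgf]
      _ = (n * f * n⁻¹) * (n * c * n⁻¹) := by group
      _ = f * c := by rw [hnf, hΩ c hcΩ]
  have hdf : f * (g⁻¹ * g') = g⁻¹ * g' * f := by
    calc f * (g⁻¹ * g') = g⁻¹ * (g * f * g⁻¹) * g' := by group
      _ = g⁻¹ * (g' * f * g'⁻¹) * g' := by rw [hgf, hg'f]
      _ = _ := by group
  have hdS : g⁻¹ * g' ∈ S := S.mul_mem (S.inv_mem hg) (hconjS hg)
  have h0 : g' = g * (g⁻¹ * g') := by rw [mul_inv_cancel_left]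
  rw [h0, hd g hg _ hdS h0 (hcf _ hdS hdf), mul_one]

namespace Min

variable (M : Min H)
include M

/-- Odd elements commuting with `Ω` and with an element of order four modulo the odd core lie in it. -/
theorem mem_oc_of_four {S : Subgroup G} (hS : Syl H S) {q f : G} (hq : q ∈ H) (ho : Odd (orderOf q))
    (hΩ : ∀ e ∈ hS.omega, q * e * q⁻¹ * e⁻¹ ∈ oc H) (hf : f ∈ S) (hf2 : f * f ≠ 1)
    (hqf : Odd (orderOf (q * f * q⁻¹ * f⁻¹))) : q ∈ oc H := by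
  set W := oc H with hW
  obtain ⟨w, hw, n, hnH, hn, rfl⟩ := hS.decomp q hq
  haveI := normal_subgroupOf_of_le_normalizer (oc_normal H)
  set π := QuotientGroup.mk' (W.subgroupOf H)
  have hπn : π ⟨n, hnH⟩ = π ⟨w * n, hq⟩ := by
    rw [show (⟨w * n, hq⟩ : H) = ⟨w, oc_le H hw⟩ * ⟨n, hnH⟩ from rfl, map_mul,
      show π ⟨w, oc_le H hw⟩ = 1 from (QuotientGroup.eq_one_iff _).2 hw, one_mul]
  have hout : ∀ {x : G} (hx : x ∈ H), π ⟨x, hx⟩ = 1 → x ∈ W := fun hx e =>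
    mem_subgroupOf.1 ((QuotientGroup.eq_one_iff _).1 e)
  -- commutators with the Sylow subgroup, read in either element
  have hiff : ∀ s (hs : s ∈ S), π ⟨n * s * n⁻¹ * s⁻¹,
      H.mul_mem (H.mul_mem (H.mul_mem hnH (hS.le hs)) (H.inv_mem hnH)) (H.inv_mem (hS.le hs))⟩ =
      π ⟨w * n * s * (w * n)⁻¹ * s⁻¹,
      H.mul_mem (H.mul_mem (H.mul_mem hq (hS.le hs)) (H.inv_mem hq)) (H.inv_mem (hS.le hs))⟩ := fun s hs => by
    rw [show (⟨n * s * n⁻¹ * s⁻¹, _⟩ : H) = ⟨n, hnH⟩ * ⟨s, hS.le hs⟩ * (⟨n, hnH⟩ : H)⁻¹ * (⟨s, hS.le hs⟩ : H)⁻¹ from rfl,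
      show (⟨w * n * s * (w * n)⁻¹ * s⁻¹, _⟩ : H) =
        ⟨w * n, hq⟩ * ⟨s, hS.le hs⟩ * (⟨w * n, hq⟩ : H)⁻¹ * (⟨s, hS.le hs⟩ : H)⁻¹ from rfl]
    simp only [map_mul, map_inv, hπn]
  have hnS : ∀ s ∈ S, n * s * n⁻¹ * s⁻¹ ∈ S := fun s hs => S.mul_mem (SEBrick.conj_mem_of hn hs) (S.inv_mem hs)
  have hnΩ : ∀ e ∈ hS.omega, n * e * n⁻¹ = e := fun e he => by
    refine mul_inv_eq_one.1 (eq_one_of_two_of_odd hS.two (oc_odd H) (hnS e he.1) ?_)
    have := hiff e he.1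
    rw [show π ⟨w * n * e * (w * n)⁻¹ * e⁻¹, _⟩ = 1 from (QuotientGroup.eq_one_iff _).2 (hΩ e he)] at this
    exact hout _ this
  have hnf : n * f * n⁻¹ = f := by
    refine mul_inv_eq_one.1 (eq_one_of_two_of_odd hS.two (oc_odd H) (hnS f hf) ?_)
    refine hout (H.mul_mem (H.mul_mem (H.mul_mem hnH (hS.le hf)) (H.inv_mem hnH)) (H.inv_mem (hS.le hf)))
      (orderOf_eq_one_iff.1 ?_)
    obtain ⟨j, hj⟩ := hS.two ⟨_, hnS f hf⟩
    refine Nat.eq_one_of_dvd_coprimes (a := 2 ^ j)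
      (Nat.Coprime.pow_left j (Nat.coprime_two_left.2 hqf)) (orderOf_dvd_of_pow_eq_one ?_) ?_
    · rw [← map_pow, show (⟨n * f * n⁻¹ * f⁻¹, _⟩ : H) ^ 2 ^ j = 1 from Subtype.ext
        (by simpa using congrArg Subtype.val hj), map_one]
    · rw [hiff f hf]
      exact (orderOf_map_dvd π _).trans (Subgroup.orderOf_mk (a := w * n * f * (w * n)⁻¹ * f⁻¹) _).dvd
  have hnm : n ^ orderOf (w * n) ∈ W := by
    refine mem_subgroupOf.1 ((QuotientGroup.eq_one_iff (N := W.subgroupOf H) (⟨n, hnH⟩ ^ orderOf (w * n) : H)).1 ?_)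
    show π (⟨n, hnH⟩ ^ orderOf (w * n)) = 1
    rw [map_pow, hπn, ← map_pow, show (⟨w * n, hq⟩ : H) ^ orderOf (w * n) = 1 from Subtype.ext (by
      simpa using pow_orderOf_eq_one (w * n)), map_one]
  have hall := hS.comm_of_fix hn ho (fun s hs => ?_) hnΩ hf hf2 hnf
  swap
  · refine mul_inv_eq_iff_eq_mul.1 (mul_inv_eq_one.1 (eq_one_of_two_of_odd hS.two (oc_odd H)
      (S.mul_mem (SEBrick.conj_mem_of (pow_mem hn _) hs) (S.inv_mem hs)) ?_))
    rw [show n ^ orderOf (w * n) * s * (n ^ orderOf (w * n))⁻¹ * s⁻¹ =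
      n ^ orderOf (w * n) * (s * (n ^ orderOf (w * n))⁻¹ * s⁻¹) by group]
    exact mul_mem hnm (SEBrick.conj_mem_of (oc_normal H (hS.le hs)) (inv_mem hnm))
  refine hS.comp _ hq ho fun s hs => ?_
  refine mem_subgroupOf.1 ((QuotientGroup.eq_one_iff (N := W.subgroupOf H)
    (⟨w * n * s * (w * n)⁻¹ * s⁻¹,
      H.mul_mem (H.mul_mem (H.mul_mem hq (hS.le hs)) (H.inv_mem hq)) (H.inv_mem (hS.le hs))⟩ : H)).1 ?_)
  show π _ = 1
  rw [← hiff s hs, show (⟨n * s * n⁻¹ * s⁻¹, _⟩ : H) = 1 from Subtype.ext (mul_inv_eq_one.2 (hall s hs)), map_one]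

/-- The normaliser statement. -/
theorem norm_le_of_omega {r : ℕ} [hr : Fact r.Prime] (hr2 : r ≠ 2)
    (hF : ∀ q : ℕ, q.Prime → q ≠ r → coreAt q H = ⊥) {Q₀ S₀ : Subgroup G} (hS₀ : Syl H S₀) (hQ₀H : Q₀ ≤ H)
    (hQ₀ : IsPGroup r Q₀) (hQ₀1 : Q₀ ≠ ⊥) (hS₀Q : hS₀.omega ≤ normalizer (Q₀ : Set G)) :
    normalizer (Q₀ : Set G) ≤ H := by
  by_contra hQN
  haveI := M.solv
  haveI : Fact (Nat.Prime 2) := ⟨Nat.prime_two⟩
  obtain ⟨Q, hQQ, ⟨hQH, hQ, ⟨S, hS, hSQ⟩, hQN'⟩, hmax⟩ := Finite.exists_le_maximal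
    (p := fun Q : Subgroup G => Q ≤ H ∧ IsPGroup r Q ∧
      (∃ S : Subgroup G, ∃ hS : Syl H S, hS.omega ≤ normalizer (Q : Set G)) ∧ ¬ normalizer (Q : Set G) ≤ H)
    (a := Q₀) ⟨hQ₀H, hQ₀, ⟨S₀, hS₀, hS₀Q⟩, hQN⟩
  have hQ1 : Q ≠ ⊥ := fun e => hQ₀1 (le_bot_iff.1 (e ▸ hQQ))
  set L := normalizer (Q : Set G) with hL
  have hΩ := hS.four M.toHyp
  have hLtop := M.normalizer_ne_top hQ1 (rpow_odd hr.out hr2 hQ)
  set Y := oc L with hY
  have hQY : Q ≤ Y := le_oc_of_coreAt hr2 le_normalizer le_rfl hQ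
  have hYH : Y ≤ H := oc_le_of_four M.toHyp hΩ hS.omega_le_H hSQ
  haveI := hΩ.1.1
  obtain ⟨P₂, hQP₂, hΩP₂⟩ := CoprimeAct.exists_invariant_sylow_ge (hSQ.trans (oc_normal L))
    (by
      obtain ⟨n, hn⟩ := IsPGroup.iff_card.1 hΩ.isPGroup
      rw [hn]; exact (Nat.coprime_two_left.2 (oc_odd L)).pow_left n)
    (Or.inl (Group.isSolvable_of_comm fun a b => mul_comm' a b)) (U := Q) hQY hQ hSQ
  set Q₂ := (P₂ : Subgroup Y).map Y.subtype with hQ₂
  have hsyl : Functors.IsSylowIn r Q₂ Y := Functors.isSylowIn_map_subtype P₂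
  have hN2 : ¬ normalizer (Q₂ : Set G) ≤ H := fun hle => hQN' fun l hl => by
    obtain ⟨y, hy, hyl⟩ := frattini_elem hsyl (oc_normal L hl)
    have := H.mul_mem (H.inv_mem (hYH hy)) (hle hyl)
    rwa [inv_mul_cancel_left] at this
  have heq : Q₂ = Q := le_antisymm (hmax ⟨hsyl.le.trans hYH, hsyl.isPGroup, ⟨S, hS, hΩP₂⟩, hN2⟩ hQP₂) hQP₂
  rw [heq] at hsyl
  -- an `r`-subgroup of a subgroup meeting `L` in `Y` only
  have habs : ∀ T : Subgroup G, IsPGroup r T → Q ≤ T → (∀ x ∈ T, x ∈ L → x ∈ Y) → T = Q := by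
    intro T hT hQT hTY
    rcases eq_or_lt_of_le hQT with e | hlt
    · exact e.symm
    exfalso
    obtain ⟨x, hx, hxQ⟩ := SetLike.exists_of_lt (Functors.lt_inf_normalizer_of_lt hT hlt)
    exact hxQ ((hsyl.eq_of_le (hT.to_le inf_le_left) (le_inf hQT le_normalizer) fun z hz => hTY z hz.1 hz.2).ge hx)
  set W := oc H with hW
  have hinW : ∀ q ∈ Q, ∀ e ∈ hS.omega, q * e * q⁻¹ * e⁻¹ ∈ W := fun q hq e he => by
    refine M.toHyp.odd_comm_mem (hS.omega_le_H he) he.2 (hQH hq) (SEBrick.odd_order (rpow_odd hr.out hr2 hQ) ?_)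
    rw [show q * e * q⁻¹ * e⁻¹ = q * (e * q⁻¹ * e⁻¹) by group]
    exact mul_mem hq (SEBrick.conj_mem_of (hSQ he) (inv_mem hq))
  have hWY : ∀ x ∈ W, x ∈ L → x ∈ Y := fun x hx hxL =>
    M.le_oc_inter hLtop hΩ hS.omega_le_H hSQ hQN' (Y := W ⊓ L) (inf_le_left.trans (oc_le H)) inf_le_right
      (SEBrick.odd_of_le (oc_odd H) inf_le_left)
      (SEBrick.le_normalizer_of fun a ha z hz => ⟨SEBrick.conj_mem_of (oc_normal H ha.1) hz.1,
        L.mul_mem (L.mul_mem ha.2 hz.2) (L.inv_mem ha.2)⟩) ⟨hx, hxL⟩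
  by_cases hfour : ∃ T : Subgroup G, T ≤ H ⊓ L ∧ IsPGroup 2 T ∧ hS.omega ≤ T ∧ ∃ f ∈ T, f * f ≠ 1
  · obtain ⟨T, hT, hT2, hΩT, f, hf, hf2⟩ := hfour
    obtain ⟨S', hS', hTS'⟩ := M.toHyp.exists_syl_ge (hT.trans inf_le_left) hT2
    have hΩ' := hS.omega_eq hS' (hΩT.trans hTS')
    have hQW : Q ≤ W := fun q hq => by
      refine M.mem_oc_of_four hS' (hQH hq) (SEBrick.odd_order (rpow_odd hr.out hr2 hQ) hq)
        (fun e he => hinW q hq e (hΩ' ▸ he)) (hTS' hf) hf2 (SEBrick.odd_order (rpow_odd hr.out hr2 hQ) ?_)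
      rw [show q * f * q⁻¹ * f⁻¹ = q * (f * q⁻¹ * f⁻¹) by group]
      exact mul_mem hq (SEBrick.conj_mem_of (hT hf).2 (inv_mem hq))
    obtain ⟨P₁, hP₁, hQP₁⟩ := Functors.exists_isSylowIn_ge (p := r) hQ hQW
    rw [habs P₁ hP₁.isPGroup hQP₁ fun x hx => hWY x (hP₁.le hx)] at hP₁
    exact hQN' (M.norm_le_of_sylow hr2 hF (oc_le H) (oc_normal H) hP₁ hQ1)
  push Not at hfour
  -- the elements commuting with `Ω` modulo the odd core
  let K : Subgroup G :=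
    { carrier := {x | x ∈ H ∧ ∀ e ∈ hS.omega, x * e * x⁻¹ * e⁻¹ ∈ W}
      one_mem' := ⟨H.one_mem, fun e _ => by simp⟩
      mul_mem' := fun {x y} hx hy => ⟨H.mul_mem hx.1 hy.1, fun e he => by
        rw [show x * y * e * (x * y)⁻¹ * e⁻¹ = x * (y * e * y⁻¹ * e⁻¹) * x⁻¹ * (x * e * x⁻¹ * e⁻¹) by group]
        exact mul_mem (SEBrick.conj_mem_of (oc_normal H hx.1) (hy.2 e he)) (hx.2 e he)⟩
      inv_mem' := fun {x} hx => ⟨H.inv_mem hx.1, fun e he => by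
        rw [show x⁻¹ * e * x⁻¹⁻¹ * e⁻¹ = x⁻¹ * (x * e * x⁻¹ * e⁻¹)⁻¹ * x⁻¹⁻¹ by group]
        exact SEBrick.conj_mem_of (oc_normal H (H.inv_mem hx.1)) (inv_mem (hx.2 e he))⟩ }
  have hKH : K ≤ H := fun x hx => hx.1
  have hQK : Q ≤ K := fun q hq => ⟨hQH hq, hinW q hq⟩
  have hKn : H ≤ normalizer (K : Set G) := SEBrick.le_normalizer_of fun h hh x hx => by
    refine ⟨H.mul_mem (H.mul_mem hh hx.1) (H.inv_mem hh), fun e he => ?_⟩
    obtain ⟨w, hw, n, hnH, hn, hwn⟩ := hS.decomp h⁻¹ (H.inv_mem hh)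
    set e' := n * e * n⁻¹ with he'
    have he'Ω : e' ∈ hS.omega := SEBrick.conj_mem_of (hS.omega_normal hn) he
    have hmid : x * (w * e' * w⁻¹) * x⁻¹ * (w * e' * w⁻¹)⁻¹ ∈ W := by
      rw [show x * (w * e' * w⁻¹) * x⁻¹ * (w * e' * w⁻¹)⁻¹ = x * w * x⁻¹ * (x * e' * x⁻¹ * e'⁻¹) *
        (e' * (x * w⁻¹ * x⁻¹ * w) * e'⁻¹) * w⁻¹ by group]
      exact mul_mem (mul_mem (mul_mem (SEBrick.conj_mem_of (oc_normal H hx.1) hw) (hx.2 e' he'Ω))
        (SEBrick.conj_mem_of (oc_normal H (hS.omega_le_H he'Ω))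
          (mul_mem (SEBrick.conj_mem_of (oc_normal H hx.1) (inv_mem hw)) hw))) (inv_mem hw)
    have he2 : h⁻¹ * e * h = w * e' * w⁻¹ := by
      calc h⁻¹ * e * h = h⁻¹ * e * h⁻¹⁻¹ := by group
        _ = w * n * e * (w * n)⁻¹ := by rw [hwn]
        _ = _ := by rw [he']; group
    rw [show h * x * h⁻¹ * e * (h * x * h⁻¹)⁻¹ * e⁻¹ =
      h * (x * (h⁻¹ * e * h) * x⁻¹ * (h⁻¹ * e * h)⁻¹) * h⁻¹ by group, he2]
    exact SEBrick.conj_mem_of (oc_normal H hh) hmid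
  set J := K ⊓ L with hJ
  have hJH : J ≤ H := inf_le_left.trans hKH
  have hΩJ : hS.omega ≤ J := le_inf (fun x hx => ⟨hS.omega_le_H hx, fun e he => by
    rw [hS.cen x hx.1 hx.2 e he.1, mul_inv_cancel_right, mul_inv_cancel]; exact one_mem _⟩) hSQ
  have hJL : H ⊓ L ≤ normalizer (J : Set G) := SEBrick.le_normalizer_of fun a ha z hz =>
    ⟨SEBrick.conj_mem_of (hKn ha.1) hz.1, L.mul_mem (L.mul_mem ha.2 hz.2) (L.inv_mem ha.2)⟩
  have hocJ : oc J ≤ Y := M.le_oc_inter hLtop hΩ hS.omega_le_H hSQ hQN' ((oc_le J).trans hJH)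
    ((oc_le J).trans inf_le_right) (oc_odd J) (hJL.trans (normalizer_le_oc J))
  obtain ⟨T, hT⟩ := (hΩ.isPGroup.comap_subtype (K := J)).exists_le_sylow
  have hTΩ : ∀ s ∈ (T : Subgroup J), (s : G) ∈ hS.omega := by
    have hle : hS.omega ≤ (T : Subgroup J).map J.subtype := fun x hx => ⟨⟨x, hΩJ hx⟩, hT hx, rfl⟩
    have h1 := hfour _ (le_inf ((map_subtype_le _).trans hJH) ((map_subtype_le _).trans inf_le_right))
      (T.isPGroup'.map _) hle
    intro s hs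
    obtain ⟨S', hS', hTS'⟩ := M.toHyp.exists_syl_ge ((map_subtype_le (T : Subgroup J)).trans hJH) (T.isPGroup'.map _)
    exact hS.omega_eq hS' (hle.trans hTS') ▸
      ⟨hTS' (mem_map_of_mem J.subtype hs), h1 _ (mem_map_of_mem J.subtype hs)⟩
  obtain ⟨P₁, hP₁, hQP₁⟩ := Functors.exists_isSylowIn_ge (p := r) hQ hQK
  rw [habs P₁ hP₁.isPGroup hQP₁ fun x hx hxL => hocJ ?_] at hP₁
  · exact hQN' (M.norm_le_of_sylow hr2 hF hKH hKn hP₁ hQ1)
  haveI : Group.IsSolvable J := Group.isSolvable_of_isSolvable_injective (f := Subgroup.inclusion hJH)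
    (Subgroup.inclusion_injective hJH)
  have hxJ : x ∈ J := ⟨hP₁.le hx, hxL⟩
  refine mem_oc_of_mem (x := (⟨x, hxJ⟩ : J)) (mem_oddCore_of_comm_mod
    (M.shape.of_injective (Subgroup.inclusion hJH) (Subgroup.inclusion_injective hJH)) T ?_ fun s hs => ?_)
  · rw [Subgroup.orderOf_mk]
    exact SEBrick.odd_order (rpow_odd hr.out hr2 hP₁.isPGroup) hx
  · refine SEBrick.le_oddCore (X := W.subgroupOf J) ?_ ?_ (mem_subgroupOf.2 (hxJ.1.2 _ (hTΩ s hs)))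
    · exact normal_subgroupOf_of_le_normalizer (hJH.trans (oc_normal H))
    · refine (oc_odd H).of_dvd_nat ?_
      rw [← card_map_of_injective (K := W.subgroupOf J) J.subtype_injective]
      exact card_dvd_of_le (subgroupOf_map_subtype W J ▸ inf_le_left)

end Min

end Cfsg.Agent.SESolv
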