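import Cfsg.Agent.Lib.Functors.Conj
import Cfsg.Agent.Lib.Solvable.Fitting
import Cfsg.Agent.Lib.Transfer.Basic
import Cfsg.Agent.Lib.CharP.AxB

/-!
Cores of normalisers of `p`-subgroups in solvable groups, and Bender's argument for families of subgroups with
common normaliser.
-/

set_option autoImplicit false
set_option linter.style.haveILetI false
set_option linter.unusedSectionVars false

namespace Cfsg.Agent.SESolv

open Cfsg Subgroup Cfsg.Agent.Functors

variable {X : Type*} [Group X] [Finite X] [Group.IsSolvable X]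

/-- The `p'`-core of the normaliser of a `p`-subgroup lies in the `p'`-core. -/
theorem pPrimeCore_normalizer_le {p : ℕ} [hp : Fact p.Prime] {R : Subgroup X} (hR : IsPGroup p R) :
    (Cfsg.pPrimeCore p (normalizer (R : Set X))).map (normalizer (R : Set X)).subtype ≤ Cfsg.pPrimeCore p X := by
  set O := Cfsg.pPrimeCore p X with hO
  haveI : O.Normal := FittingCores.pPrimeCore_normal p
  set π := QuotientGroup.mk' O
  haveI : Group.IsSolvable (X ⧸ O) := Group.isSolvable_of_surjective (QuotientGroup.mk'_surjective O)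
  set N := normalizer (R : Set X) with hN
  set Q := (Cfsg.pPrimeCore p N).map N.subtype with hQ
  set U := Cfsg.pCore p (X ⧸ O) with hU
  haveI hUn : U.Normal := Cfsg.pCore_normal p _
  have hQN : Q ≤ N := map_subtype_le _
  have hQn : ∀ n ∈ N, ∀ q ∈ Q, n * q * n⁻¹ ∈ Q := by
    rintro n hn _ ⟨q, hq, rfl⟩
    exact ⟨⟨n, hn⟩ * q * ⟨n, hn⟩⁻¹, (FittingCores.pPrimeCore_normal p).conj_mem q hq _, rfl⟩
  have hQc : ∀ q ∈ Q, (orderOf q).Coprime p := by
    rintro _ ⟨q, hq, rfl⟩
    exact Nat.Coprime.coprime_dvd_left (Subgroup.orderOf_coe q ▸ Subgroup.orderOf_dvd_natCard _ hq)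
      (PBasic.pPrimeCore_coprime p N)
  have hQR : ∀ q ∈ Q, ∀ r ∈ R, r * q = q * r := by
    intro q hq r hr
    have h1 : q * r * q⁻¹ * r⁻¹ ∈ R := mul_mem ((mem_normalizer_iff.1 (hQN hq) r).1 hr) (inv_mem hr)
    have h2 : q * r * q⁻¹ * r⁻¹ ∈ Q := by
      rw [show q * r * q⁻¹ * r⁻¹ = q * (r * q⁻¹ * r⁻¹) by group]
      exact mul_mem hq (hQn r (le_normalizer hr) _ (inv_mem hq))
    exact (mul_inv_eq_iff_eq_mul.1 (mul_inv_eq_one.1 (PBasic.eq_one_of_isPGroup_of_coprime hR h1 (hQc _ h2)))).symm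
  intro q hq
  have hxn : π q ^ orderOf q = 1 := by rw [← map_pow, pow_orderOf_eq_one, map_one]
  have hxc : π q ∈ centralizer (U : Set (X ⧸ O)) := by
    rw [mem_centralizer_iff]
    intro u hu
    refine (AxB.thompson (PBasic.pCore_isPGroup p _) (hR.map π)
      (by rw [normalizer_eq_top]; exact le_top) (fun y hy => hUn.conj_mem y hy _)
      (A := R.map π) (P := U) (by
        rintro _ ⟨r, hr, rfl⟩
        rw [← map_mul, ← map_mul, hQR q hq r hr]) hxn (hQc q hq).symm ?_ u hu).symm
    intro y hy hc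
    obtain ⟨v, rfl⟩ := QuotientGroup.mk'_surjective O y
    have hsyl : IsSylowIn p R (R ⊔ O) := ⟨le_sup_left, hR, fun hd => by
      have h1 : (R.relIndex (R ⊔ O)) ∣ Nat.card O := by
        rw [PBasic.relIndex_eq_relIndex_sup_left]
        exact Subgroup.relIndex_dvd_card _ _
      exact hp.out.ne_one ((Nat.coprime_self p).1
        (((FittingCores.pPrimeCore_coprime p).coprime_dvd_left (hd.trans h1)).symm.symm))⟩
    have hmap : (R ⊔ O).map (cj v) = R ⊔ O := by
      have hle : (R ⊔ O).map (cj v) ≤ R ⊔ O := by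
        rw [Subgroup.map_sup, sup_le_iff]
        refine ⟨?_, ?_⟩
        · rintro _ ⟨r, hr, rfl⟩
          have h : v * r * v⁻¹ * r⁻¹ ∈ O := by
            rw [← QuotientGroup.eq_one_iff]
            show π (v * r * v⁻¹ * r⁻¹) = 1
            simp only [map_mul, map_inv]
            rw [← hc _ (mem_map_of_mem π hr), mul_inv_cancel_right, mul_inv_cancel]
          show v * r * v⁻¹ ∈ _
          rw [show v * r * v⁻¹ = v * r * v⁻¹ * r⁻¹ * r by group]
          exact mul_mem (mem_sup_right h) (mem_sup_left hr)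
        · rintro _ ⟨o, ho, rfl⟩
          exact mem_sup_right ((inferInstance : O.Normal).conj_mem o ho v)
      exact Subgroup.eq_of_le_of_card_ge hle (by rw [card_map_of_injective (cj_injective v)])
    obtain ⟨s, hs, hsR⟩ := exists_conj_eq_of_isSylowIn hsyl (hmap ▸ hsyl.map_cj v)
    rw [map_map_cj] at hsR
    have hsv : s * v ∈ N := map_cj_eq_iff.1 hsR
    rw [← SetLike.mem_coe, Subgroup.mul_normal] at hs
    obtain ⟨r, hr, o, ho, rfl⟩ := hs
    have hov : o * v ∈ N := by
      have := mul_mem (inv_mem (le_normalizer hr)) hsv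
      rwa [show r⁻¹ * (r * o * v) = o * v by group] at this
    have hπ : π (o * v) = π v := by rw [map_mul, show π o = 1 from (QuotientGroup.eq_one_iff o).2 ho, one_mul]
    have h1 : q * (o * v) * q⁻¹ * (o * v)⁻¹ ∈ Q := by
      rw [show q * (o * v) * q⁻¹ * (o * v)⁻¹ = q * ((o * v) * q⁻¹ * (o * v)⁻¹) by group]
      exact mul_mem hq (hQn _ hov _ (inv_mem hq))
    have h2 : π (q * (o * v) * q⁻¹ * (o * v)⁻¹) ∈ U := by
      simp only [map_mul, map_inv]
      rw [show π o * π v = π v by rw [← map_mul, hπ]]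
      exact mul_mem (hUn.conj_mem _ hy _) (inv_mem hy)
    have h3 := PBasic.eq_one_of_isPGroup_of_coprime (PBasic.pCore_isPGroup p _) h2
      (Nat.Coprime.coprime_dvd_left (orderOf_map_dvd π _) (hQc _ h1))
    simp only [map_mul, map_inv] at h3
    rw [show π o * π v = π v by rw [← map_mul, hπ]] at h3
    exact mul_inv_eq_iff_eq_mul.1 (mul_inv_eq_one.1 h3)
  have hqU := FittingCores.centralizer_pCore_le hp.out (FittingCores.pPrimeCore_quotient_eq_bot p O rfl) hxc
  rw [← QuotientGroup.eq_one_iff]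
  exact PBasic.eq_one_of_isPGroup_of_coprime (PBasic.pCore_isPGroup p _) hqU
    (Nat.Coprime.coprime_dvd_left (orderOf_map_dvd π q) (hQc q hq))

/-- Bender's argument: `p`-subgroups, one for each prime of a set containing those of the Fitting subgroup, with
a common normaliser, lie in the cores. -/
theorem family_le_pCore {π : Finset ℕ} (hπ : ∀ p ∈ π, p.Prime) (h2 : 2 ≤ π.card)
    (hF : ∀ p : ℕ, p.Prime → p ∉ π → Cfsg.pCore p X = ⊥) {Y : ℕ → Subgroup X} {J : Subgroup X}
    (hY : ∀ p ∈ π, IsPGroup p (Y p)) (hN : ∀ p ∈ π, normalizer (Y p : Set X) = J) :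
    ∀ p ∈ π, Y p ≤ Cfsg.pCore p X := by
  classical
  let M : ℕ → Subgroup X := fun p => ⨅ q ∈ π.erase p, Cfsg.pPrimeCore q X
  have hMn : ∀ p, (M p).Normal := fun p =>
    Subgroup.normal_iInf_normal fun q => Subgroup.normal_iInf_normal fun _ => FittingCores.pPrimeCore_normal q
  have hcop : ∀ {p q : ℕ}, p ∈ π → q ∈ π → p ≠ q → (Nat.card (Y p)).Coprime q := by
    intro p q hp hq hpq
    haveI := Fact.mk (hπ p hp)
    obtain ⟨n, hn⟩ := IsPGroup.iff_card.1 (hY p hp)
    rw [hn]
    exact ((Nat.coprime_primes (hπ p hp) (hπ q hq)).2 hpq).pow_left n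
  have hYM : ∀ p ∈ π, Y p ≤ M p := by
    intro p hp
    refine le_iInf₂ fun q hq => ?_
    obtain ⟨hqp, hqπ⟩ := Finset.mem_erase.1 hq
    haveI := Fact.mk (hπ q hqπ)
    refine le_trans ?_ (pPrimeCore_normalizer_le (hY q hqπ))
    have hle : Y p ≤ normalizer (Y q : Set X) := by rw [hN q hqπ, ← hN p hp]; exact le_normalizer
    have hn : ((Y p).subgroupOf (normalizer (Y q : Set X))).Normal :=
      (normal_subgroupOf_iff_le_normalizer hle).2 (by rw [hN q hqπ, hN p hp])
    intro y hy
    exact ⟨⟨y, hle hy⟩, PBasic.le_pPrimeCore hn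
      (by rw [Nat.card_congr (subgroupOfEquivOfLe hle).toEquiv]; exact hcop hp hqπ hqp.symm) hy, rfl⟩
  have hMM : ∀ {p q : ℕ}, p ≠ q → M p ⊓ M q = ⊥ := by
    intro p q hpq
    by_contra hne
    haveI := hMn p
    haveI := hMn q
    obtain ⟨K, l, hl, hKn, hK, hKle, -, -, hKp, -⟩ :=
      SolvBasic.exists_minimal_normal_abelian (N := M p ⊓ M q) inferInstance hne
    haveI := Fact.mk hl
    by_cases hlπ : l ∈ π
    · have hKl : K ≤ Cfsg.pPrimeCore l X := by
        by_cases hlp : l = p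
        · exact hKle.trans (inf_le_right.trans (iInf₂_le l (Finset.mem_erase.2 ⟨hlp ▸ hpq, hlπ⟩)))
        · exact hKle.trans (inf_le_left.trans (iInf₂_le l (Finset.mem_erase.2 ⟨hlp, hlπ⟩)))
      refine hK ((eq_bot_iff_forall _).2 fun x hx => ?_)
      exact PBasic.eq_one_of_isPGroup_of_coprime hKp hx
        (Nat.Coprime.coprime_dvd_left (Subgroup.orderOf_dvd_natCard _ (hKl hx)) (PBasic.pPrimeCore_coprime l X))
    · exact hK (le_bot_iff.1 (hF l hl hlπ ▸ PBasic.le_pCore hKn hKp))
  intro p hp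
  obtain ⟨q, hq⟩ : (π.erase p).Nonempty := by
    rw [← Finset.card_pos, Finset.card_erase_of_mem hp]; omega
  obtain ⟨hqp, hqπ⟩ := Finset.mem_erase.1 hq
  haveI := hMn p
  haveI := hMn q
  have hMJ : M p ≤ J := by
    rw [← hN q hqπ]
    refine le_trans ?_ (centralizer_le_normalizer (Y q : Set X))
    intro m hm
    rw [mem_centralizer_iff]
    intro y hy
    exact (Subgroup.commute_of_normal_of_disjoint (M q) (M p) inferInstance inferInstance
      (disjoint_iff.2 (hMM hqp)) y m (hYM q hqπ hy) hm).eq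
  haveI := Fact.mk (hπ p hp)
  haveI := PBasic.pCore_characteristic p (M p)
  have hn : ((Y p).subgroupOf (M p)).Normal :=
    (normal_subgroupOf_iff_le_normalizer (hYM p hp)).2 (by rw [hN p hp]; exact hMJ)
  have hle : (Cfsg.pCore p (M p)).map (M p).subtype ≤ Cfsg.pCore p X :=
    PBasic.le_pCore inferInstance ((PBasic.pCore_isPGroup p _).map _)
  intro y hy
  exact hle ⟨⟨y, hYM p hp hy⟩, PBasic.le_pCore hn (hY p hp).comap_subtype hy, rfl⟩

end Cfsg.Agent.SESolv
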