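import Cfsg.Agent.Lib.SEBrick.Moving2

/-!
Two commuting eigenvectors of order `r` of an elementary abelian 2-group in a normal noncyclic subgroup of an
`r`-group.
-/

set_option autoImplicit false
set_option linter.style.haveILetI false
set_option linter.unusedSectionVars false

namespace Cfsg.Agent.SESolv

open Cfsg Subgroup

universe u

variable {G : Type u} [Group G] [Finite G]

/-- `v` is sent to itself or its inverse by the elements of `E`. -/
def Eig (E : Subgroup G) (v : G) : Prop := ∀ e ∈ E, e * v * e⁻¹ = v ∨ e * v * e⁻¹ = v⁻¹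

/-- Exact eigenvectors in an abelian group of exponent `r`. -/
theorem exists_eigen {r : ℕ} [hr : Fact r.Prime] (hr2 : r ≠ 2) {E M S : Subgroup G} (hE : SEBrick.IsFour E)
    (hMp : ∀ m ∈ M, m ^ r = 1) (hMc : ∀ a ∈ M, ∀ b ∈ M, a * b = b * a) (hEM : E ≤ normalizer (M : Set G))
    (hMS : ¬ M ≤ S) : ∃ w ∈ M, w ∉ S ∧ Eig E w := by
  by_contra! hno
  refine hMS (SEBrick.eigen_generate (Z := ⊥) hE (SEBrick.odd_card_of_orders fun m hm hm2 => ?_)
    (fun e he m hm => SEBrick.conj_mem_of (hEM he) hm)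
    (fun e _ z hz => by rw [mem_bot.1 hz]; simp)
    (fun a ha b hb => by rw [hMc a ha b hb]; simp)
    (fun a _ z hz => by rw [mem_bot.1 hz]; simp) bot_le fun w hw hwe => ?_)
  · have := orderOf_dvd_of_pow_eq_one (hMp m hm)
    rw [hm2] at this
    exact hr2 ((Nat.prime_dvd_prime_iff_eq Nat.prime_two hr.out).1 this).symm
  · by_contra hwS
    refine hno w hw hwS fun e he => ?_
    rcases hwe e he with h3 | h3
    · exact Or.inl (mul_inv_eq_one.1 (mem_bot.1 h3))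
    · exact Or.inr (eq_inv_of_mul_eq_one_left (mem_bot.1 h3))

/-- The elements of `X` of order dividing `r`, central in `P` modulo `Z`, form a subgroup. -/
def omegaMod {r : ℕ} (hr : r.Prime) (hr2 : r ≠ 2) (P X Z : Subgroup G) (hXP : X ≤ P)
    (hZr : ∀ z ∈ Z, z ^ r = 1) (hZc : ∀ z ∈ Z, ∀ p ∈ P, z * p = p * z) : Subgroup G where
  carrier := {x | x ∈ X ∧ x ^ r = 1 ∧ ∀ a ∈ P, x * a * x⁻¹ * a⁻¹ ∈ Z}
  one_mem' := ⟨X.one_mem, one_pow r, fun a _ => by simp [Z.one_mem]⟩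
  mul_mem' := fun {x y} hx hy => by
    obtain ⟨hxX, hxr, hxc⟩ := hx
    obtain ⟨hyX, hyr, hyc⟩ := hy
    have hconj : ∀ {g z : G}, g ∈ P → z ∈ Z → g * z * g⁻¹ = z := fun {g z} hg hz => by
      rw [← hZc z hz g hg, mul_inv_cancel_right]
    refine ⟨X.mul_mem hxX hyX, ?_, fun a ha => ?_⟩
    · haveI := Fact.mk hr
      set c := x * y⁻¹ * x⁻¹ * y⁻¹⁻¹ with hc
      have hcZ : c ∈ Z := hxc _ (P.inv_mem (hXP hyX))
      have hba : y * x = x * y * c := by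
        calc y * x = x * y * (y⁻¹ * x⁻¹ * y * x) := by group
          _ = x * y * (x⁻¹ * c * x) := by rw [hc]; group
          _ = _ := by rw [show x⁻¹ * c * x = x⁻¹ * c * x⁻¹⁻¹ by group, hconj (P.inv_mem (hXP hxX)) hcZ]
      obtain ⟨d, hd⟩ := hr.dvd_choose_self (k := 2) two_ne_zero (lt_of_le_of_ne hr.two_le (Ne.symm hr2))
      rw [LEOmega.mul_pow_class_two hba (hZc _ hcZ x (hXP hxX)) (hZc _ hcZ y (hXP hyX)) r,
        hxr, hyr, hd, pow_mul, hZr c hcZ]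
      simp
    · rw [show x * y * a * (x * y)⁻¹ * a⁻¹ = x * (y * a * y⁻¹ * a⁻¹) * x⁻¹ * (x * a * x⁻¹ * a⁻¹) by group]
      exact Z.mul_mem (by rw [hconj (hXP hxX) (hyc a ha)]; exact hyc a ha) (hxc a ha)
  inv_mem' := fun {x} hx => by
    obtain ⟨hxX, hxr, hxc⟩ := hx
    refine ⟨X.inv_mem hxX, by rw [inv_pow, hxr, inv_one], fun a ha => ?_⟩
    have h1 := Z.inv_mem (hxc a ha)
    rw [show x⁻¹ * a * x⁻¹⁻¹ * a⁻¹ = x⁻¹ * (x * a * x⁻¹ * a⁻¹)⁻¹ * x⁻¹⁻¹ by group,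
      ← hZc _ h1 x⁻¹ (P.inv_mem (hXP hxX)), mul_inv_cancel_right]
    exact h1

theorem mem_omegaMod {r : ℕ} {hr : r.Prime} {hr2 : r ≠ 2} {P X Z : Subgroup G} {hXP : X ≤ P}
    {hZr : ∀ z ∈ Z, z ^ r = 1} {hZc : ∀ z ∈ Z, ∀ p ∈ P, z * p = p * z} {x : G} :
    x ∈ omegaMod hr hr2 P X Z hXP hZr hZc ↔ x ∈ X ∧ x ^ r = 1 ∧ ∀ a ∈ P, x * a * x⁻¹ * a⁻¹ ∈ Z := Iff.rfl

theorem omegaMod_normal {r : ℕ} {hr : r.Prime} {hr2 : r ≠ 2} {P X Z N : Subgroup G} {hXP : X ≤ P}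
    {hZr : ∀ z ∈ Z, z ^ r = 1} {hZc : ∀ z ∈ Z, ∀ p ∈ P, z * p = p * z} (hP : N ≤ normalizer (P : Set G))
    (hX : N ≤ normalizer (X : Set G)) (hZ : N ≤ normalizer (Z : Set G)) :
    N ≤ normalizer (omegaMod hr hr2 P X Z hXP hZr hZc : Set G) := by
  refine SEBrick.le_normalizer_of fun g hg x hx => ?_
  obtain ⟨h1, h2, h3⟩ := hx
  refine ⟨SEBrick.conj_mem_of (hX hg) h1, by rw [conj_pow, h2]; group, fun a ha => ?_⟩
  have ha' : g⁻¹ * a * g ∈ P := (mem_normalizer_iff''.1 (hP hg) a).1 ha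
  have := SEBrick.conj_mem_of (hZ hg) (h3 _ ha')
  rwa [show g * (x * (g⁻¹ * a * g) * x⁻¹ * (g⁻¹ * a * g)⁻¹) * g⁻¹ = g * x * g⁻¹ * a * (g * x * g⁻¹)⁻¹ * a⁻¹
    by group] at this

/-- The two eigenvectors: the first is central; the second is central or conjugate to its product with the first. -/
theorem exists_seed {r : ℕ} [hr : Fact r.Prime] (hr2 : r ≠ 2) {E P X : Subgroup G} (hE : SEBrick.IsFour E)
    (hP : IsPGroup r P) (hXP : X ≤ P) (hPX : P ≤ normalizer (X : Set G)) (hnc : ¬ IsCyclic X)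
    (hEP : E ≤ normalizer (P : Set G)) (hEX : E ≤ normalizer (X : Set G)) :
    ∃ v w : G, v ∈ X ∧ w ∈ X ∧ v ^ r = 1 ∧ w ^ r = 1 ∧ v ≠ 1 ∧ w ∉ zpowers v ∧
      (∀ p ∈ P, v * p = p * v) ∧ Eig E v ∧ Eig E w ∧
      ((∀ p ∈ P, w * p = p * w) ∨ ∃ p ∈ P, p * w * p⁻¹ = w * v) := by
  set Ω := omegaMod hr.out hr2 P X ⊥ hXP (fun z hz => by rw [mem_bot.1 hz]; simp)
    (fun z hz p _ => by rw [mem_bot.1 hz]; simp) with hΩ
  have hΩc : ∀ x ∈ Ω, ∀ a ∈ P, x * a = a * x := fun x hx a ha =>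
    mul_inv_eq_iff_eq_mul.1 (mul_inv_eq_one.1 (mem_bot.1 (hx.2.2 a ha)))
  have hΩn : ∀ N : Subgroup G, N ≤ normalizer (P : Set G) → N ≤ normalizer (X : Set G) →
      N ≤ normalizer (Ω : Set G) := fun N h1 h2 => omegaMod_normal h1 h2 (SEBrick.le_normalizer_of
        fun _ _ z hz => by rw [mem_bot.1 hz]; simp)
  have hΩcomm : ∀ a ∈ Ω, ∀ b ∈ Ω, a * b = b * a := fun a ha b hb => hΩc a ha b (hXP hb.1)
  haveI := hP.isNilpotent
  have hX1 : X ≠ ⊥ := fun e => hnc (by rw [e]; infer_instance)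
  -- `Ω` is not trivial
  have hΩ1 : ¬ Ω ≤ (⊥ : Subgroup G) := by
    intro hle
    haveI : (X.subgroupOf P).Normal := normal_subgroupOf_of_le_normalizer hPX
    obtain ⟨x, hxX, hx1, hxc⟩ := OddOrder.Nilp.exists_mem_commutator_le (G := P) (A := ⊥) (C := X.subgroupOf P)
      fun h => hX1 ((eq_bot_iff_forall X).2 fun y hy => by
        simpa using h (show (⟨y, hXP hy⟩ : P) ∈ X.subgroupOf P from hy))
    have hcent : ∀ a ∈ P, (x : G) * a = a * x := fun a ha => by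
      have h := mem_bot.1 (hxc ⟨a, ha⟩)
      rw [commutatorElement_eq_one_iff_mul_comm] at h
      exact congrArg Subtype.val h
    have hne : (x : G) ≠ 1 := fun e => hx1 (mem_bot.2 (Subtype.ext e))
    obtain ⟨k, hk⟩ := IsPGroup.iff_orderOf.1 hP x
    have hk0 : k ≠ 0 := fun h => hne (by
      rw [h, pow_zero, orderOf_eq_one_iff] at hk
      rw [hk]; rfl)
    have hy : (x : G) ^ r ^ (k - 1) ∈ Ω := by
      refine ⟨pow_mem hxX _, ?_, fun a ha => mem_bot.2 ?_⟩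
      · rw [← pow_mul, ← pow_succ, show k - 1 + 1 = k by omega, ← hk, Subgroup.orderOf_coe x |>.symm,
          pow_orderOf_eq_one]
      · rw [((show Commute (x : G) a from hcent a ha).pow_left _).eq, mul_inv_cancel_right, mul_inv_cancel]
    have := orderOf_dvd_of_pow_eq_one (mem_bot.1 (hle hy))
    rw [Subgroup.orderOf_coe, hk, Nat.pow_dvd_pow_iff_le_right hr.out.one_lt] at this
    omega
  obtain ⟨z, hz, hz1, hze⟩ := exists_eigen hr2 hE (M := Ω) (fun m hm => hm.2.1) hΩcomm (hΩn E hEP hEX) hΩ1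
  have hz1' : z ≠ 1 := fun e => hz1 (mem_bot.2 e)
  by_cases hcyc : Ω ≤ zpowers z
  swap
  · obtain ⟨w, hw, hwz, hwe⟩ := exists_eigen hr2 hE (M := Ω) (fun m hm => hm.2.1) hΩcomm (hΩn E hEP hEX) hcyc
    exact ⟨z, w, hz.1, hw.1, hz.2.1, hw.2.1, hz1', hwz, hΩc z hz, hze, hwe, Or.inl (hΩc w hw)⟩
  have hΩeq : Ω = zpowers z := le_antisymm hcyc (zpowers_le.2 hz)
  have hZX : zpowers z ≤ X := zpowers_le.2 hz.1
  have hZr : ∀ y ∈ zpowers z, y ^ r = 1 := fun y hy => (hΩeq ▸ hy : y ∈ Ω).2.1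
  have hZc : ∀ y ∈ zpowers z, ∀ p ∈ P, y * p = p * y := fun y hy => hΩc y (hΩeq ▸ hy)
  have hZn : ∀ N : Subgroup G, N ≤ normalizer (P : Set G) → N ≤ normalizer (X : Set G) →
      N ≤ normalizer (zpowers z : Set G) := fun N h1 h2 => hΩeq ▸ hΩn N h1 h2
  -- a noncentral element of order `r` of `X`, central modulo `zpowers z`
  set Y := omegaMod hr.out hr2 X X (zpowers z) le_rfl hZr (fun y hy p hp => hZc y hy p (hXP hp)) with hY
  have hYn : P ≤ normalizer (Y : Set G) := omegaMod_normal hPX hPX (hZn P le_normalizer hPX)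
  have hYz : ¬ Y ≤ zpowers z := by
    intro hle
    set Z' := (zpowers z).subgroupOf X with hZ'
    have hXp : IsPGroup r X := hP.to_le hXP
    haveI := hXp.isNilpotent
    haveI : Z'.Normal := normal_subgroupOf_of_le_normalizer (hZn X (hXP.trans le_normalizer) le_normalizer)
    have hZ'ea : Cfsg.IsElementaryAbelian r Z' :=
      ⟨.of_setLike_mul_comm fun a ha b _ => Subtype.ext (hZc _ (mem_subgroupOf.1 ha) _ (hXP b.2)),
        fun a ha => Subtype.ext (by simpa using hZr _ (mem_subgroupOf.1 ha))⟩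
    obtain ⟨A, hZA, hA⟩ := Finite.exists_le_maximal (a := Z')
      (p := fun A : Subgroup X => A.Normal ∧ Cfsg.IsElementaryAbelian r A) ⟨inferInstance, hZ'ea⟩
    obtain ⟨⟨hAn, hAe⟩, hAmax⟩ := hA
    haveI := hAn
    have hAZ : ¬ A ≤ Z' := fun hle' => hnc (IsolatedP.isCyclic_of_odd_unique hXp hr2
      ⟨z, hz.1⟩ (Subtype.ext (by simpa using hz.2.1)) fun y hy => by
        have hyA : y ∈ A := OddOrder.OmegaCen.mem_of_centralizes hr2 hXp A hAe
          (fun B hBn hBe hAB => le_antisymm (hAmax ⟨hBn, hBe⟩ hAB) hAB)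
          (mem_centralizer_iff.2 fun b hb => Subtype.ext (hZc _ (mem_subgroupOf.1 (hle' hb)) _ (hXP y.2))) hy
        obtain ⟨i, hi⟩ := mem_subgroupOf.1 (hle' hyA)
        exact ⟨i, Subtype.ext (by simpa using hi)⟩)
    obtain ⟨x, hxA, hxZ, hxc⟩ := OddOrder.Nilp.exists_mem_commutator_le (A := Z') hAZ
    refine hxZ (mem_subgroupOf.2 (hle ⟨x.2, by simpa using congrArg Subtype.val (hAe.2 x hxA), fun b hb => ?_⟩))
    have := mem_subgroupOf.1 (hxc ⟨b, hb⟩)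
    simpa [commutatorElement_def] using this
  obtain ⟨a, ha, haz⟩ : ∃ a, a ∈ omegaMod hr.out hr2 P X (zpowers z) hXP hZr hZc ∧ a ∉ zpowers z := by
    haveI : (Y.subgroupOf P).Normal := normal_subgroupOf_of_le_normalizer hYn
    obtain ⟨x, hxY, hxz, hxc⟩ := OddOrder.Nilp.exists_mem_commutator_le (G := P) (A := (zpowers z).subgroupOf P)
      (C := Y.subgroupOf P) fun h => hYz fun y hy => h (show (⟨y, hXP hy.1⟩ : P) ∈ Y.subgroupOf P from hy)
    refine ⟨x, ⟨(show (x : G) ∈ Y from hxY).1, (show (x : G) ∈ Y from hxY).2.1, fun b hb => ?_⟩,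
      fun h => hxz (mem_subgroupOf.2 h)⟩
    have := mem_subgroupOf.1 (hxc ⟨b, hb⟩)
    simpa [commutatorElement_def] using this
  set M := omegaMod hr.out hr2 P X (zpowers z) hXP hZr hZc with hM
  have hEM : E ≤ normalizer (M : Set G) := omegaMod_normal hEP hEX (hZn E hEP hEX)
  obtain ⟨w, hw, hwz, hwe⟩ : ∃ w ∈ M, w ∉ zpowers z ∧
      ∀ e ∈ E, e * w * e⁻¹ * w⁻¹ ∈ zpowers z ∨ e * w * e⁻¹ * w ∈ zpowers z := by
    by_contra! hno
    refine haz (SEBrick.eigen_generate hE (SEBrick.odd_card_of_orders fun m hm hm2 => ?_)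
      (fun e he m hm => SEBrick.conj_mem_of (hEM he) hm)
      (fun e he y hy => SEBrick.conj_mem_of (hZn E hEP hEX he) hy)
      (fun a ha b hb => ha.2.2 b (hXP hb.1)) (fun a ha y hy => by
        rw [← hZc y hy a (hXP ha.1), mul_inv_cancel_right]; exact hy)
      le_rfl (fun w hw hwe => ?_) ha)
    · have := orderOf_dvd_of_pow_eq_one hm.2.1
      rw [hm2] at this
      exact hr2 ((Nat.prime_dvd_prime_iff_eq Nat.prime_two hr.out).1 this).symm
    · by_contra hwz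
      obtain ⟨e, he, h1, h2⟩ := hno w hw hwz
      rcases hwe e he with h3 | h3
      · exact h1 h3
      · exact h2 h3
  -- an exact eigenvector
  set M₂ := closure ({z, w} : Set G) with hM₂
  have hzw : z * w = w * z := hΩc z hz w (hXP hw.1)
  haveI : IsMulCommutative M₂ := isMulCommutative_closure (by
    rintro a (rfl | rfl) b (rfl | rfl)
    · rfl
    · exact hzw
    · exact hzw.symm
    · rfl)
  have hzM : zpowers z ≤ M₂ := zpowers_le.2 (subset_closure (Or.inl rfl))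
  have hwM : w ∈ M₂ := subset_closure (Or.inr rfl)
  have hM₂M : M₂ ≤ M := (closure_le _).2 (by
    rintro x (rfl | rfl)
    · exact ⟨hz.1, hz.2.1, fun a ha => by rw [hΩc x hz a ha, mul_inv_cancel_right, mul_inv_cancel]; exact one_mem _⟩
    · exact hw)
  have hEM₂ : E ≤ normalizer (M₂ : Set G) := SEBrick.le_normalizer_of fun e he m hm =>
    (show M₂.map (MulAut.conj e).toMonoidHom ≤ M₂ by
      rw [hM₂, MonoidHom.map_closure, closure_le]
      rintro _ ⟨x, hx, rfl⟩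
      rcases hx with hx | hx <;> rw [hx]
      · exact hzM (SEBrick.conj_mem_of (hZn E hEP hEX he) (mem_zpowers z))
      · show e * w * e⁻¹ ∈ M₂
        rcases hwe e he with h1 | h1
        · have := M₂.mul_mem (hzM h1) hwM
          rwa [inv_mul_cancel_right] at this
        · have := M₂.mul_mem (hzM h1) (M₂.inv_mem hwM)
          rwa [mul_inv_cancel_right] at this) ⟨m, hm, rfl⟩
  obtain ⟨w₀, hw₀, hw₀z, hw₀e⟩ := exists_eigen hr2 hE (fun m hm => (hM₂M hm).2.1)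
    (fun a ha b hb => setLike_mul_comm ha hb) hEM₂ (S := zpowers z) fun hle => hwz (hle hwM)
  have hw₀M := hM₂M hw₀
  refine ⟨z, w₀, hz.1, hw₀M.1, hz.2.1, hw₀M.2.1, hz1', hw₀z, hΩc z hz, hze, hw₀e, Or.inr ?_⟩
  obtain ⟨p, hp, hpw⟩ : ∃ p ∈ P, w₀ * p ≠ p * w₀ := by
    by_contra! hc
    exact hw₀z (hΩeq ▸ ⟨hw₀M.1, hw₀M.2.1, fun a ha => mem_bot.2 (by
      rw [hc a ha, mul_inv_cancel_right, mul_inv_cancel])⟩)
  obtain ⟨i, hi⟩ : ∃ i : ℤ, z ^ i = w₀⁻¹ * (p * w₀ * p⁻¹) := by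
    have hc := hw₀M.2.2 p hp
    obtain ⟨i, hi⟩ := hc
    refine ⟨-i, ?_⟩
    have hi' : z ^ i = w₀ * p * w₀⁻¹ * p⁻¹ := hi
    have h1 : Commute w₀ (z ^ (-i)) := ((show Commute z w₀ from hΩc z hz w₀ (hXP hw₀M.1)).zpow_left _).symm
    rw [eq_inv_mul_iff_mul_eq, h1.eq, zpow_neg, hi']
    group
  have hconj : ∀ k : ℕ, p ^ k * w₀ * (p ^ k)⁻¹ = w₀ * z ^ (i * k) := by
    intro k
    induction k with
    | zero => simp
    | succ k ih =>
      calc p ^ (k + 1) * w₀ * (p ^ (k + 1))⁻¹ = p * (p ^ k * w₀ * (p ^ k)⁻¹) * p⁻¹ := by rw [pow_succ']; group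
        _ = p * w₀ * p⁻¹ * (p * z ^ (i * k) * p⁻¹) := by rw [ih]; group
        _ = w₀ * z ^ i * z ^ (i * k) := by
            rw [← hZc _ (zpow_mem (mem_zpowers z) _) p hp, mul_inv_cancel_right, hi, mul_inv_cancel_left]
        _ = _ := by rw [mul_assoc, ← zpow_add]; congr 2; push_cast; ring
  have hord : orderOf z = r := orderOf_eq_prime hz.2.1 hz1'
  have hir : ¬ (r : ℤ) ∣ i := fun hd => hpw (by
    rw [← hord, orderOf_dvd_iff_zpow_eq_one, hi, inv_mul_eq_one] at hd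
    exact mul_inv_eq_iff_eq_mul.1 hd.symm |>.symm)
  obtain ⟨k, hk⟩ : ∃ k : ℕ, i * k ≡ 1 [ZMOD r] := by
    have h1 : ((i : ZMod r)) ≠ 0 := fun h => hir ((ZMod.intCast_zmod_eq_zero_iff_dvd i r).1 h)
    refine ⟨((i : ZMod r)⁻¹).val, ?_⟩
    rw [← ZMod.intCast_eq_intCast_iff]
    push_cast
    rw [ZMod.natCast_val, ZMod.cast_id, mul_inv_cancel₀ h1]
  refine ⟨p ^ k, pow_mem hp k, ?_⟩
  rw [hconj k, show z ^ (i * k) = z ^ (1 : ℤ) from zpow_eq_zpow_iff_modEq.2 (by rw [hord]; exact hk), zpow_one]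

end Cfsg.Agent.SESolv
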