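import Cfsg.Agent.Lib.SESolv.Overfit
import Cfsg.Agent.Lib.SESolv.Seed
import Cfsg.Agent.Lib.SEBrick.Moving5
import Cfsg.Agent.Lib.CenNilp.Main

/-!
In a moved normal subgroup of a core: a noncyclic abelian subgroup whose elements have centralisers in `H`.
-/

set_option autoImplicit false
set_option linter.style.haveILetI false
set_option linter.unusedSectionVars false

namespace Cfsg.Agent.SESolv

open Cfsg Subgroup

universe u

variable {G : Type u} [Group G] [Finite G] {H : Subgroup G}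

/-- A normal subgroup of `H` inside the `r`-core, moved by every involution of `H`. -/
structure Moved (H : Subgroup G) (r : ℕ) (X : Subgroup G) : Prop where
  le : X ≤ coreAt r H
  norm : H ≤ normalizer (X : Set G)
  moves : ∀ t ∈ H, orderOf t = 2 → ∃ x ∈ X, t * x ≠ x * t

theorem Moved.not_cyclic {r : ℕ} [Fact r.Prime] (hr2 : r ≠ 2) {X : Subgroup G} (hX : Moved H r X) (h : Hyp H) :
    ¬ IsCyclic X := by
  intro hc
  obtain ⟨E, hEH, hE⟩ := h.four
  have hXp : IsPGroup r X := (coreAt_isPGroup r H).to_le hX.le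
  have key : ∀ t ∈ E, t ≠ 1 → ∀ x ∈ X, t * x * t⁻¹ = x⁻¹ := by
    intro t ht ht1
    rcases SEBrick.inverts_or_centralises hr2 hXp (hE.order ht ht1)
      (fun x hx => SEBrick.conj_mem_of (hX.norm (hEH ht)) hx) with h1 | h1
    · obtain ⟨x, hx, hne⟩ := hX.moves t (hEH ht) (hE.order ht ht1)
      exact absurd (mul_inv_eq_iff_eq_mul.1 (h1 x hx)) hne
    · exact h1
  obtain ⟨s, hs, hs1⟩ := IsFour.exists_ne hE
  obtain ⟨t, ht, ht1, hts⟩ : ∃ t ∈ E, t ≠ 1 ∧ t ≠ s := by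
    by_contra hc'
    push Not at hc'
    have h4 := hE.2
    rw [← SetLike.coe_sort_coe, Nat.card_coe_set_eq] at h4
    have : (E : Set G).ncard ≤ ({1, s} : Set G).ncard := Set.ncard_le_ncard (fun x hx => by
      by_cases h1 : x = 1
      · exact Or.inl h1
      · exact Or.inr (hc' x hx h1)) (Set.toFinite _)
    rw [Set.ncard_pair hs1.symm] at this
    omega
  have hst : s * t ≠ 1 := fun e => hts (by
    rw [eq_inv_of_mul_eq_one_right e, inv_eq_of_mul_eq_one_right (hE.mul_self hs)])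
  obtain ⟨x, hx, hne⟩ := hX.moves (s * t) (hEH (mul_mem hs ht)) (hE.order (mul_mem hs ht) hst)
  refine hne (mul_inv_eq_iff_eq_mul.1 ?_)
  rw [show s * t * x * (s * t)⁻¹ = s * (t * x * t⁻¹) * s⁻¹ by group, key t ht ht1 x hx,
    key s hs hs1 _ (inv_mem hx), inv_inv]

theorem conj_pow_zpow {e v : G} (i : ℤ) (h : e * v * e⁻¹ = v ∨ e * v * e⁻¹ = v⁻¹) :
    e * v ^ i * e⁻¹ = v ^ i ∨ e * v ^ i * e⁻¹ = (v ^ i)⁻¹ := by
  rw [← conj_zpow]
  rcases h with h | h <;> rw [h]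
  · exact Or.inl rfl
  · exact Or.inr (inv_zpow v i)

theorem Eig.le_normalizer {E : Subgroup G} {v : G} (hv : Eig E v) : E ≤ normalizer (zpowers v : Set G) :=
  SEBrick.le_normalizer_of fun e he x hx => by
    obtain ⟨i, rfl⟩ := hx
    rcases conj_pow_zpow i (hv e he) with h | h <;> rw [h]
    · exact ⟨i, rfl⟩
    · exact ⟨-i, zpow_neg v i⟩

/-- The elements of `E` acting with the same sign on two vectors. -/
theorem exists_kernel_four {E : Subgroup G} (hE : SEBrick.IsFour E) (h8 : 8 ≤ Nat.card E) {v w : G}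
    (hv : Eig E v) (hw : Eig E w) : ∃ K ≤ E, SEBrick.IsFour K ∧
      ∀ e ∈ K, (e * v * e⁻¹ = v ∧ e * w * e⁻¹ = w) ∨ (e * v * e⁻¹ = v⁻¹ ∧ e * w * e⁻¹ = w⁻¹) := by
  classical
  let P : G → Prop := fun e => (e * v * e⁻¹ = v ∧ e * w * e⁻¹ = w) ∨ (e * v * e⁻¹ = v⁻¹ ∧ e * w * e⁻¹ = w⁻¹)
  have hm : ∀ e f x : G, e * f * x * (e * f)⁻¹ = e * (f * x * f⁻¹) * e⁻¹ := fun e f x => by group
  have hinv : ∀ e x : G, e * x⁻¹ * e⁻¹ = (e * x * e⁻¹)⁻¹ := fun e x => by group
  have hmul : ∀ e f, P e → P f → P (e * f) := by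
    intro e f he hf
    rcases he with ⟨a, b⟩ | ⟨a, b⟩ <;> rcases hf with ⟨c, d⟩ | ⟨c, d⟩
    · exact Or.inl ⟨by rw [hm, c, a], by rw [hm, d, b]⟩
    · exact Or.inr ⟨by rw [hm, c, hinv, a], by rw [hm, d, hinv, b]⟩
    · exact Or.inr ⟨by rw [hm, c, a], by rw [hm, d, b]⟩
    · exact Or.inl ⟨by rw [hm, c, hinv, a, inv_inv], by rw [hm, d, hinv, b, inv_inv]⟩
  have hmix : ∀ e, ¬ P e → e ∈ E →
      (e * v * e⁻¹ = v ∧ e * w * e⁻¹ = w⁻¹) ∨ (e * v * e⁻¹ = v⁻¹ ∧ e * w * e⁻¹ = w) := fun e he heE => by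
    rcases hv e heE with a | a <;> rcases hw e heE with b | b
    · exact absurd (Or.inl ⟨a, b⟩) he
    · exact Or.inl ⟨a, b⟩
    · exact Or.inr ⟨a, b⟩
    · exact absurd (Or.inr ⟨a, b⟩) he
  have hout : ∀ e f, e ∈ E → f ∈ E → ¬ P e → ¬ P f → P (e * f) := by
    intro e f he hf hne hnf
    rcases hmix e hne he with ⟨a, b⟩ | ⟨a, b⟩ <;> rcases hmix f hnf hf with ⟨c, d⟩ | ⟨c, d⟩
    · exact Or.inl ⟨by rw [hm, c, a], by rw [hm, d, hinv, b, inv_inv]⟩
    · exact Or.inr ⟨by rw [hm, c, hinv, a], by rw [hm, d, b]⟩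
    · exact Or.inr ⟨by rw [hm, c, a], by rw [hm, d, hinv, b]⟩
    · exact Or.inl ⟨by rw [hm, c, hinv, a, inv_inv], by rw [hm, d, b]⟩
  let K : Subgroup G :=
    { carrier := {e | e ∈ E ∧ P e}
      one_mem' := ⟨E.one_mem, Or.inl ⟨by simp, by simp⟩⟩
      mul_mem' := fun {a b} ha hb => ⟨E.mul_mem ha.1 hb.1, hmul a b ha.2 hb.2⟩
      inv_mem' := fun {a} ha => by rw [inv_eq_of_mul_eq_one_right (hE.mul_self ha.1)]; exact ha }
  have hKE : K ≤ E := fun e he => he.1
  refine ⟨K, hKE, ⟨⟨.of_setLike_mul_comm fun a ha b hb => hE.comm ha.1 hb.1, fun a ha => hE.1.2 a ha.1⟩, ?_⟩,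
    fun e he => he.2⟩
  have h2 : Nat.card E ≤ 2 * Nat.card K := by
    by_cases hall : E ≤ K
    · have := card_le_of_le hall
      omega
    obtain ⟨e₀, he₀, he₀K⟩ := SetLike.not_le_iff_exists.1 hall
    have hne₀ : ¬ P e₀ := fun h => he₀K ⟨he₀, h⟩
    rw [← SetLike.coe_sort_coe E, ← SetLike.coe_sort_coe K, Nat.card_coe_set_eq, Nat.card_coe_set_eq]
    have h1 : (E : Set G).ncard ≤ ((K : Set G) ∪ (fun e => e₀ * e) '' (K : Set G)).ncard := by
      refine Set.ncard_le_ncard (fun e he => ?_) (Set.toFinite _)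
      by_cases hP : P e
      · exact Or.inl ⟨he, hP⟩
      · refine Or.inr ⟨e₀ * e, ⟨E.mul_mem he₀ he, hout e₀ e he₀ he hne₀ hP⟩, ?_⟩
        show e₀ * (e₀ * e) = e
        rw [← mul_assoc, hE.mul_self he₀, one_mul]
    have h3 := Set.ncard_union_le (K : Set G) ((fun e => e₀ * e) '' (K : Set G))
    have h4 := Set.ncard_image_le (f := fun e => e₀ * e) (Set.toFinite (K : Set G))
    omega
  omega

namespace Min

variable (M : Min H)
include M

theorem false_of_abelian_four {S : Subgroup G} (hS : Syl H S) (hab : ∀ x ∈ S, ∀ y ∈ S, x * y = y * x)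
    (h4 : Nat.card hS.omega ≤ 4) : False := by
  classical
  have hcore : ∀ t ∈ H, orderOf t = 2 → ∀ x : G, Odd (orderOf x) → x * t = t * x → x ∈ oc H := by
    intro t₁ ht₁ ht₁o x₁ hx₁ hc₁
    obtain ⟨g, hg, hgS⟩ := hS.conj_into (zpowers t₁) (zpowers_le.2 ht₁)
      (IsPGroup.of_card (n := 1) (by rw [Nat.card_zpowers, ht₁o, pow_one]))
    set t := g * t₁ * g⁻¹ with ht
    set x := g * x₁ * g⁻¹ with hx
    have htS : t ∈ S := hgS t₁ (mem_zpowers t₁)
    have hto : orderOf t = 2 := by rw [ht, Invol.order_conj, ht₁o]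
    have hxo : Odd (orderOf x) := by rwa [hx, Invol.order_conj]
    have hxt : x * t = t * x := by
      calc x * t = g * (x₁ * t₁) * g⁻¹ := by rw [hx, ht]; group
        _ = g * (t₁ * x₁) * g⁻¹ := by rw [hc₁]
        _ = _ := by rw [hx, ht]; group
    have hxH : x ∈ H := Invol.se_centralizer_le M.se hto (hS.le htS) (mem_centralizer_singleton_iff.2 hxt)
    suffices hxW : x ∈ oc H by
      have := (mem_normalizer_iff''.1 (oc_normal H hg) x).1 hxW
      rwa [show g⁻¹ * x * g = x₁ by rw [hx]; group] at this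
    obtain ⟨w, hw, n, hnH, hnN, hxwn⟩ := hS.decomp x hxH
    obtain ⟨k, m, hm, hkm⟩ := Nat.exists_eq_two_pow_mul_odd (orderOf_pos n).ne'
    obtain ⟨j, hj⟩ := exists_pow_eq_self_of_coprime (show Nat.Coprime (2 ^ k) (orderOf x) from
      coprime_two_pow hxo)
    set n₀ := n ^ (2 ^ k * j) with hn₀
    have hn₀H : n₀ ∈ H := pow_mem hnH _
    have hn₀N : n₀ ∈ normalizer (S : Set G) := pow_mem hnN _
    have hn₀o : Odd (orderOf n₀) := by
      rw [hn₀, pow_mul]
      refine Odd.of_dvd_nat ?_ (orderOf_pow_dvd j)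
      rw [orderOf_pow_of_dvd (pow_ne_zero k two_ne_zero) (hkm ▸ dvd_mul_right _ _), hkm,
        Nat.mul_div_cancel_left m (Nat.two_pow_pos k)]
      exact hm
    haveI hocn : ((oc H).subgroupOf H).Normal := normal_subgroupOf_of_le_normalizer (oc_normal H)
    let π := QuotientGroup.mk' ((oc H).subgroupOf H)
    have hπx : π ⟨n₀, hn₀H⟩ = π ⟨x, hxH⟩ := by
      have e : π ⟨x, hxH⟩ = π ⟨n, hnH⟩ := by
        have e1 : (⟨x, hxH⟩ : H) = ⟨w, oc_le H hw⟩ * ⟨n, hnH⟩ := Subtype.ext hxwn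
        rw [e1, map_mul, show π ⟨w, oc_le H hw⟩ = 1 from (QuotientGroup.eq_one_iff _).2 hw, one_mul]
      have hx' : (⟨x, hxH⟩ : H) ^ (2 ^ k * j) = ⟨x, hxH⟩ := Subtype.ext (by
        rw [Subgroup.coe_pow, pow_mul]; exact hj)
      rw [show (⟨n₀, hn₀H⟩ : H) = ⟨n, hnH⟩ ^ (2 ^ k * j) from Subtype.ext hn₀, map_pow, ← e, ← map_pow, hx']
    suffices hn₀W : n₀ ∈ oc H by
      have h1 : π ⟨x, hxH⟩ = 1 := hπx ▸ (QuotientGroup.eq_one_iff _).2 hn₀W
      exact mem_subgroupOf.1 ((QuotientGroup.eq_one_iff (N := (oc H).subgroupOf H) _).1 h1)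
    -- `n₀` fixes `t` and so `omega`
    have hn₀t : n₀ * t * n₀⁻¹ = t := by
      have h1 : π (⟨n₀, hn₀H⟩ * ⟨t, hS.le htS⟩ * ⟨n₀, hn₀H⟩⁻¹ * ⟨t, hS.le htS⟩⁻¹) = 1 := by
        rw [map_mul, map_mul, map_mul, map_inv, map_inv, hπx, ← map_mul, ← map_inv, ← map_inv, ← map_mul,
          ← map_mul, show (⟨x, hxH⟩ : H) * ⟨t, hS.le htS⟩ * ⟨x, hxH⟩⁻¹ * ⟨t, hS.le htS⟩⁻¹ = 1 from Subtype.ext (by
            show x * t * x⁻¹ * t⁻¹ = 1
            rw [hxt, mul_inv_cancel_right, mul_inv_cancel]), map_one]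
      exact mul_inv_eq_one.1 (eq_one_of_two_of_odd hS.two (oc_odd H)
        (mul_mem (SEBrick.conj_mem_of hn₀N htS) (inv_mem htS))
        (mem_subgroupOf.1 ((QuotientGroup.eq_one_iff (N := (oc H).subgroupOf H) _).1 h1)))
    have hΩ : ∀ e ∈ hS.omega, n₀ * e * n₀⁻¹ = e := by
      intro e he
      by_contra hne
      have he1 : e ≠ 1 := fun h => hne (by rw [h]; group)
      have het : e ≠ t := fun h => hne (by rw [h]; exact hn₀t)
      have htΩ := hS.mem_omega htS hto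
      have ht1 : t ≠ 1 := fun h => by rw [h, orderOf_one] at hto; omega
      have hte : t * e ≠ 1 := fun h => het (by
        rw [eq_inv_of_mul_eq_one_right h, Invol.inv_self hto])
      have hset : ∀ z ∈ hS.omega, z = 1 ∨ z = t ∨ z = e ∨ z = t * e := by
        intro z hz
        by_contra! hc
        obtain ⟨c1, c2, c3, c4⟩ := hc
        have hsub : ({1, t, e, t * e, z} : Finset G).card ≤ Nat.card hS.omega := by
          rw [← Nat.card_eq_finsetCard]
          refine Nat.card_le_card_of_injective (fun y => (⟨(y : G), ?_⟩ : hS.omega)) (fun a b h => Subtype.ext (congrArg (fun q : hS.omega => (q : G)) h))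
          have hy := y.2
          simp only [Finset.mem_insert, Finset.mem_singleton] at hy
          rcases hy with h | h | h | h | h <;> rw [h]
          · exact one_mem _
          · exact htΩ
          · exact he
          · exact mul_mem htΩ he
          · exact hz
        have hte1 : t * e ≠ t := fun h => he1 (mul_eq_left.1 h)
        have hte2 : t * e ≠ e := fun h => ht1 (mul_eq_right.1 h)
        rw [Finset.card_insert_of_notMem (by simp [ht1.symm, he1.symm, hte.symm, c1.symm]),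
          Finset.card_insert_of_notMem (by simp [het.symm, hte1.symm, c2.symm]),
          Finset.card_insert_of_notMem (by simp [hte2.symm, c3.symm]),
          Finset.card_insert_of_notMem (by simp [c4.symm]), Finset.card_singleton] at hsub
        omega
      have hne' : n₀ * e * n₀⁻¹ = t * e := by
        rcases hset _ (SEBrick.conj_mem_of (hS.omega_normal hn₀N) he) with h | h | h | h
        · exact absurd (mul_eq_left.1 (mul_inv_eq_one.1 h)) he1
        · refine absurd (mul_left_cancel (a := n₀) (mul_right_cancel (h.trans hn₀t.symm))) het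
        · exact absurd h hne
        · exact h
      have h2 : n₀ * (n₀ * e * n₀⁻¹) * n₀⁻¹ = e := by
        rw [hne', show n₀ * (t * e) * n₀⁻¹ = n₀ * t * n₀⁻¹ * (n₀ * e * n₀⁻¹) by group, hn₀t, hne', ← mul_assoc,
          Invol.mul_self hto, one_mul]
      obtain ⟨q, hq⟩ := hn₀o
      have hev : ∀ q : ℕ, n₀ ^ (2 * q) * e * (n₀ ^ (2 * q))⁻¹ = e := by
        intro q
        induction q with
        | zero => simp
        | succ q ih =>
          calc n₀ ^ (2 * (q + 1)) * e * (n₀ ^ (2 * (q + 1)))⁻¹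
              = n₀ * (n₀ * (n₀ ^ (2 * q) * e * (n₀ ^ (2 * q))⁻¹) * n₀⁻¹) * n₀⁻¹ := by
                rw [show 2 * (q + 1) = 2 * q + 1 + 1 by ring, pow_succ', pow_succ']; group
            _ = e := by rw [ih, h2]
      refine hne ?_
      conv_lhs => rw [← hev q]
      rw [show n₀ * (n₀ ^ (2 * q) * e * (n₀ ^ (2 * q))⁻¹) * n₀⁻¹ = n₀ ^ (2 * q + 1) * e * (n₀ ^ (2 * q + 1))⁻¹ by
        rw [pow_succ']; group, ← hq, pow_orderOf_eq_one, one_mul, inv_one, mul_one]
    -- so it centralises the abelian Sylow subgroup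
    refine hS.comp n₀ hn₀H hn₀o fun s hs => ?_
    set c := n₀ * s * n₀⁻¹ * s⁻¹ with hc
    have hcS : c ∈ S := mul_mem (SEBrick.conj_mem_of hn₀N hs) (inv_mem hs)
    have hss : n₀ * (s * s) * n₀⁻¹ = s * s := hΩ _ ⟨mul_mem hs hs, hS.sq s hs⟩
    have hc2 : c * c = 1 := by
      have hcomm : Commute (n₀ * s * n₀⁻¹) s⁻¹ := hab _ (SEBrick.conj_mem_of hn₀N hs) _ (inv_mem hs)
      calc c * c = n₀ * s * n₀⁻¹ * (s⁻¹ * (n₀ * s * n₀⁻¹)) * s⁻¹ := by rw [hc]; group
        _ = n₀ * (s * s) * n₀⁻¹ * (s * s)⁻¹ := by rw [← hcomm.eq]; group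
        _ = 1 := by rw [hss, mul_inv_cancel]
    have hfix : n₀ * c * n₀⁻¹ = c := hΩ c ⟨hcS, hc2⟩
    have hk : ∀ q : ℕ, n₀ ^ q * s * (n₀ ^ q)⁻¹ = c ^ q * s := by
      intro q
      induction q with
      | zero => simp
      | succ q ih =>
        have hcomm : Commute c n₀ := (mul_inv_eq_iff_eq_mul.1 hfix).symm
        calc n₀ ^ (q + 1) * s * (n₀ ^ (q + 1))⁻¹ = n₀ * (n₀ ^ q * s * (n₀ ^ q)⁻¹) * n₀⁻¹ := by
              rw [pow_succ']; group
          _ = n₀ * c ^ q * n₀⁻¹ * (n₀ * s * n₀⁻¹) := by rw [ih]; group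
          _ = c ^ q * (c * s) := by
              rw [← (hcomm.pow_left q).eq, mul_inv_cancel_right, show c * s = n₀ * s * n₀⁻¹ by rw [hc]; group]
          _ = c ^ (q + 1) * s := by rw [pow_succ, mul_assoc (c ^ q) c s]
    have h1 := (hk (orderOf n₀)).symm
    rw [pow_orderOf_eq_one, one_mul, inv_one, mul_one, mul_eq_right] at h1
    obtain ⟨q, hq⟩ := hn₀o
    rw [hq, pow_succ, pow_mul, pow_two, hc2, one_pow, one_mul] at h1
    rw [h1]
    exact one_mem _
  obtain ⟨E, hEH, hE⟩ := M.four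
  have hyp : SEBrick.Hyp H (oc H) := ⟨M.se, oc_le H, fun a ha w hw => SEBrick.conj_mem_of (oc_normal H ha) hw,
    oc_odd H, hcore, E, hEH, hE⟩
  exact M.W_ne (le_bot_iff.1 (M.ocore ▸ SEBrick.goal CenNilp.rankTwoCase SEBrick.movingCase G H (oc H) hyp))

/-- The block. -/
theorem exists_block (h2 : 2 ≤ (fitPrimes H).card) {r : ℕ} [hr : Fact r.Prime] (hr2 : r ≠ 2) {X : Subgroup G}
    (hX : Moved H r X) :
    ∃ B : Subgroup G, B ≤ X ∧ IsMulCommutative B ∧ ¬ IsCyclic B ∧ ∀ y ∈ B, y ≠ 1 → centralizer ({y} : Set G) ≤ H := by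
  obtain ⟨S, hS⟩ := M.toHyp.exists_syl
  set Ω := hS.omega with hΩdef
  have hΩ := hS.four M.toHyp
  have hΩH := hS.omega_le_H
  set P := coreAt r H with hP
  have hPp : IsPGroup r P := coreAt_isPGroup r H
  have hPH : P ≤ H := coreAt_le r H
  have good : ∀ y ∈ X, y ≠ 1 → ∀ K : Subgroup G, SEBrick.IsFour K → K ≤ H → K ≤ normalizer (zpowers y : Set G) →
      centralizer ({y} : Set G) ≤ H := fun y hy hy1 K hK hKH hKy => M.cent_le h2 hr2 (hX.le hy) hy1 hK hKH hKy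
  -- a pair of eigenvectors with commuting span of exponent `r`
  have mkB : ∀ v w : G, v ∈ X → w ∈ X → v ^ r = 1 → w ^ r = 1 → v ≠ 1 → w ∉ zpowers v → v * w = w * v →
      (∀ y, (∃ i j : ℤ, y = v ^ i * w ^ j) → y ≠ 1 → centralizer ({y} : Set G) ≤ H) →
      ∃ B : Subgroup G, B ≤ X ∧ IsMulCommutative B ∧ ¬ IsCyclic B ∧
        ∀ y ∈ B, y ≠ 1 → centralizer ({y} : Set G) ≤ H := by
    intro v w hv hw hvr hwr hv1 hwv hvw hgood
    have hcl : ∀ y ∈ closure ({v, w} : Set G), ∃ i j : ℤ, y = v ^ i * w ^ j := fun y hy => by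
      refine closure_induction (p := fun y _ => ∃ i j : ℤ, y = v ^ i * w ^ j) ?_ ⟨0, 0, by simp⟩ ?_ ?_ hy
      · rintro x (rfl | rfl)
        · exact ⟨1, 0, by simp⟩
        · exact ⟨0, 1, by simp⟩
      · rintro _ _ _ _ ⟨i, j, rfl⟩ ⟨k, l, rfl⟩
        refine ⟨i + k, j + l, ?_⟩
        rw [zpow_add, zpow_add, mul_assoc (v ^ i) (w ^ j), ← mul_assoc (w ^ j) (v ^ k),
          ((show Commute v w from hvw).zpow_zpow k j).symm.eq]
        group
      · rintro _ _ ⟨i, j, rfl⟩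
        refine ⟨-i, -j, ?_⟩
        rw [mul_inv_rev, zpow_neg, zpow_neg]
        exact (((show Commute v w from hvw).zpow_zpow i j).inv_inv).symm.eq
    refine ⟨closure {v, w}, (closure_le _).2 (by rintro x (rfl | rfl) <;> assumption),
      isMulCommutative_closure (by
        rintro a (rfl | rfl) b (rfl | rfl)
        · rfl
        · exact hvw
        · exact hvw.symm
        · rfl), fun hc => ?_, fun y hy => hgood y (hcl y hy)⟩
    obtain ⟨⟨g, hg⟩, hgen⟩ := hc.exists_generator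
    have hgr : g ^ r = 1 := by
      obtain ⟨i, j, rfl⟩ := hcl g hg
      rw [((show Commute v w from hvw).zpow_zpow i j).mul_pow, ← zpow_natCast, ← zpow_mul, mul_comm, zpow_mul,
        zpow_natCast, hvr, one_zpow, one_mul, ← zpow_natCast, ← zpow_mul, mul_comm, zpow_mul, zpow_natCast, hwr,
        one_zpow]
    have hle : closure ({v, w} : Set G) ≤ zpowers g := fun y hy => by
      obtain ⟨i, hi⟩ := hgen ⟨y, hy⟩
      exact ⟨i, congrArg Subtype.val hi⟩
    refine hwv ((Subgroup.eq_of_le_of_card_ge (zpowers_le.2 (hle (subset_closure (Or.inl rfl)))) ?_).ge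
      (hle (subset_closure (Or.inr rfl))))
    rw [Nat.card_zpowers, Nat.card_zpowers, orderOf_eq_prime hvr hv1]
    exact Nat.le_of_dvd hr.out.pos (orderOf_dvd_of_pow_eq_one hgr)
  obtain ⟨v, w, hv, hw, hvr, hwr, hv1, hwv, hvc, hve, hwe, hcase⟩ := exists_seed hr2 hΩ hPp hX.le
    (hPH.trans hX.norm) (hX.not_cyclic hr2 M.toHyp) (hΩH.trans (coreAt_normal r H)) (hΩH.trans hX.norm)
  have hvw : v * w = w * v := hvc w (hX.le hw)
  have hmem : ∀ i j : ℤ, v ^ i * w ^ j ∈ X := fun i j => mul_mem (zpow_mem hv i) (zpow_mem hw j)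
  have heig : ∀ (x : G) (i : ℤ), Eig Ω x → Eig Ω (x ^ i) := fun x i hx e he => conj_pow_zpow i (hx e he)
  have hsame : ∀ (K : Subgroup G), SEBrick.IsFour K → K ≤ H → ∀ a b : G, a * b = b * a → (∀ i j : ℤ, a ^ i * b ^ j ∈ X) →
      (∀ e ∈ K, (e * a * e⁻¹ = a ∧ e * b * e⁻¹ = b) ∨ (e * a * e⁻¹ = a⁻¹ ∧ e * b * e⁻¹ = b⁻¹)) →
      ∀ y, (∃ i j : ℤ, y = a ^ i * b ^ j) → y ≠ 1 → centralizer ({y} : Set G) ≤ H := by
    rintro K hK hKH a b hab hX' hs _ ⟨i, j, rfl⟩ hy1
    refine good _ (hX' i j) hy1 K hK hKH (Eig.le_normalizer fun e he => ?_)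
    rcases hs e he with ⟨h1, h2⟩ | ⟨h1, h2⟩
    · exact Or.inl (by rw [show e * (a ^ i * b ^ j) * e⁻¹ = e * a ^ i * e⁻¹ * (e * b ^ j * e⁻¹) by group,
        ← conj_zpow, ← conj_zpow, h1, h2])
    · refine Or.inr ?_
      rw [show e * (a ^ i * b ^ j) * e⁻¹ = e * a ^ i * e⁻¹ * (e * b ^ j * e⁻¹) by group,
        ← conj_zpow, ← conj_zpow, h1, h2, inv_zpow, inv_zpow, mul_inv_rev]
      exact (((show Commute a b from hab).zpow_zpow i j).inv_inv).eq
  rcases hcase with hwc | ⟨p, hp, hpw⟩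
  swap
  · refine mkB v w hv hw hvr hwr hv1 hwv hvw ?_
    rintro y ⟨i, j, rfl⟩ hy1
    by_cases hj : (r : ℤ) ∣ j
    · obtain ⟨q, rfl⟩ := hj
      have hwq : w ^ ((r : ℤ) * q) = 1 := by rw [zpow_mul, zpow_natCast, hwr, one_zpow]
      rw [hwq, mul_one] at hy1 ⊢
      exact good _ (zpow_mem hv i) hy1 Ω hΩ hΩH (heig v i hve).le_normalizer
    · obtain ⟨k, hk⟩ : ∃ k : ℕ, (k : ℤ) * j ≡ i [ZMOD r] := by
        have h1 : ((j : ZMod r)) ≠ 0 := fun h => hj ((ZMod.intCast_zmod_eq_zero_iff_dvd j r).1 h)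
        refine ⟨((i : ZMod r) * (j : ZMod r)⁻¹).val, ?_⟩
        rw [← ZMod.intCast_eq_intCast_iff]
        push_cast
        rw [ZMod.natCast_val, ZMod.cast_id, mul_assoc, inv_mul_cancel₀ h1, mul_one]
      have hconj : ∀ q : ℕ, p ^ q * w * (p ^ q)⁻¹ = w * v ^ q := by
        intro q
        induction q with
        | zero => simp
        | succ q ih =>
          have hc : Commute v p := hvc p hp
          calc p ^ (q + 1) * w * (p ^ (q + 1))⁻¹ = p * (p ^ q * w * (p ^ q)⁻¹) * p⁻¹ := by rw [pow_succ']; group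
            _ = p * w * p⁻¹ * (p * v ^ q * p⁻¹) := by rw [ih]; group
            _ = w * v * v ^ q := by rw [hpw, ← (hc.pow_left q).eq, mul_inv_cancel_right]
            _ = _ := by rw [pow_succ', mul_assoc]
      have hy : v ^ i * w ^ j = p ^ k * w ^ j * (p ^ k)⁻¹ := by
        rw [← conj_zpow, hconj k, ((show Commute w v from hvw.symm).pow_right k).mul_zpow, ← zpow_natCast,
          ← zpow_mul, show v ^ ((k : ℤ) * j) = v ^ i from zpow_eq_zpow_iff_modEq.2
            (by rw [orderOf_eq_prime hvr hv1]; exact hk)]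
        exact ((show Commute v w from hvw).zpow_zpow i j).eq
      rw [hy] at hy1 ⊢
      have hwj1 : w ^ j ≠ 1 := fun h => hy1 (by rw [h]; group)
      intro g hg
      have hpH : p ^ k ∈ H := pow_mem (hPH hp) k
      have hg' : (p ^ k)⁻¹ * g * p ^ k ∈ centralizer ({w ^ j} : Set G) := by
        rw [mem_centralizer_singleton_iff] at hg ⊢
        calc (p ^ k)⁻¹ * g * p ^ k * w ^ j = (p ^ k)⁻¹ * (g * (p ^ k * w ^ j * (p ^ k)⁻¹)) * p ^ k := by group
          _ = (p ^ k)⁻¹ * (p ^ k * w ^ j * (p ^ k)⁻¹ * g) * p ^ k := by rw [hg]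
          _ = _ := by group
      have := H.mul_mem (H.mul_mem hpH (good _ (zpow_mem hw j) hwj1 Ω hΩ hΩH (heig w j hwe).le_normalizer hg'))
        (H.inv_mem hpH)
      rwa [show p ^ k * ((p ^ k)⁻¹ * g * p ^ k) * (p ^ k)⁻¹ = g by group] at this
  · by_cases h8 : 8 ≤ Nat.card Ω
    · obtain ⟨K, hKΩ, hK, hKs⟩ := exists_kernel_four hΩ h8 hve hwe
      exact mkB v w hv hw hvr hwr hv1 hwv hvw (hsame K hK (hKΩ.trans hΩH) v w hvw hmem hKs)
    -- a pair with one character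
    by_cases hpair : ∃ a b : G, a ∈ X ∧ b ∈ X ∧ a ^ r = 1 ∧ b ^ r = 1 ∧ a ≠ 1 ∧ b ∉ zpowers a ∧ a * b = b * a ∧
        ∀ e ∈ Ω, (e * a * e⁻¹ = a ∧ e * b * e⁻¹ = b) ∨ (e * a * e⁻¹ = a⁻¹ ∧ e * b * e⁻¹ = b⁻¹)
    · obtain ⟨a, b, ha, hb, har, hbr, ha1, hba, hab, hs⟩ := hpair
      exact mkB a b ha hb har hbr ha1 hba hab
        (hsame Ω hΩ hΩH a b hab (fun i j => mul_mem (zpow_mem ha i) (zpow_mem hb j)) hs)
    exfalso
    set Z := omegaMod hr.out hr2 P X ⊥ hX.le (fun z hz => by rw [mem_bot.1 hz]; simp)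
      (fun z hz p _ => by rw [mem_bot.1 hz]; simp) with hZ
    have hZc : ∀ x ∈ Z, ∀ a ∈ P, x * a = a * x := fun x hx a ha =>
      mul_inv_eq_iff_eq_mul.1 (mul_inv_eq_one.1 (mem_bot.1 (hx.2.2 a ha)))
    have hZn : H ≤ normalizer (Z : Set G) := omegaMod_normal (coreAt_normal r H) hX.norm
      (SEBrick.le_normalizer_of fun _ _ z hz => by rw [mem_bot.1 hz]; simp)
    have hline : ∀ a ∈ Z, Eig Ω a → a ≠ 1 → ∀ s ∈ S, s * a * s⁻¹ ∈ zpowers a := by
      intro a ha hae ha1 s hs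
      by_contra hn
      refine hpair ⟨a, s * a * s⁻¹, ha.1, SEBrick.conj_mem_of (hX.norm (hS.le hs)) ha.1, ha.2.1,
        by rw [conj_pow, ha.2.1]; group, ha1, hn, hZc a ha _ (hX.le (SEBrick.conj_mem_of (hX.norm (hS.le hs)) ha.1)),
        fun e he => ?_⟩
      have hc : e * s = s * e := hS.cen e he.1 he.2 s hs
      have e1 : e * (s * a * s⁻¹) * e⁻¹ = s * (e * a * e⁻¹) * s⁻¹ := by
        rw [show e * (s * a * s⁻¹) * e⁻¹ = e * s * a * (e * s)⁻¹ by group, hc]; group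
      rcases hae e he with h | h
      · exact Or.inl ⟨h, by rw [e1, h]⟩
      · exact Or.inr ⟨h, by rw [e1, h]; group⟩
    have hab : ∀ x ∈ S, ∀ y ∈ S, x * y = y * x := by
      intro x hx y hy
      by_contra hne
      set c := x * y * x⁻¹ * y⁻¹ with hc
      have hc1 : c ≠ 1 := fun h => hne (mul_inv_eq_iff_eq_mul.1 (mul_inv_eq_one.1 h))
      have hcS : c ∈ S := mul_mem (mul_mem (mul_mem hx hy) (inv_mem hx)) (inv_mem hy)
      have hc2 : c * c = 1 := by
        haveI := M.solv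
        exact congrArg Subtype.val (M.shape.comm_sq (S := S.subgroupOf H) hS.two.comap_subtype
          (x := ⟨x, hS.le hx⟩) (y := ⟨y, hS.le hy⟩) hx hy)
      have hcZ : Z ≤ centralizer ({c} : Set G) := by
        refine SEBrick.eigen_generate (Z := ⊥) hΩ (SEBrick.odd_card_of_orders fun m hm hm2 => ?_)
          (fun e he m hm => SEBrick.conj_mem_of (hZn (hΩH he)) hm)
          (fun e _ z hz => by rw [mem_bot.1 hz]; simp)
          (fun a ha b hb => by rw [hZc a ha b (hX.le hb.1)]; simp)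
          (fun a _ z hz => by rw [mem_bot.1 hz]; simp) bot_le fun a ha hae => ?_
        · have := orderOf_dvd_of_pow_eq_one hm.2.1
          rw [hm2] at this
          exact hr2 ((Nat.prime_dvd_prime_iff_eq Nat.prime_two hr.out).1 this).symm
        · by_cases ha1 : a = 1
          · rw [ha1]; exact one_mem _
          have hae' : Eig Ω a := fun e he => (hae e he).imp (fun h => mul_inv_eq_one.1 (mem_bot.1 h))
            (fun h => eq_inv_of_mul_eq_one_left (mem_bot.1 h))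
          obtain ⟨i, hi⟩ := hline a ha hae' ha1 x⁻¹ (inv_mem hx)
          obtain ⟨j, hj⟩ := hline a ha hae' ha1 y⁻¹ (inv_mem hy)
          have hi' : x⁻¹ * a * x⁻¹⁻¹ = a ^ i := hi.symm
          have hj' : y⁻¹ * a * y⁻¹⁻¹ = a ^ j := hj.symm
          rw [mem_centralizer_singleton_iff]
          have hxy : x⁻¹ * (y⁻¹ * a * y⁻¹⁻¹) * x⁻¹⁻¹ = y⁻¹ * (x⁻¹ * a * x⁻¹⁻¹) * y⁻¹⁻¹ := by
            rw [hi', hj', ← conj_zpow, ← conj_zpow, hi', hj', ← zpow_mul, ← zpow_mul, mul_comm]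
          have e : c * a * c⁻¹ = a := by
            calc c * a * c⁻¹ = x * y * (x⁻¹ * (y⁻¹ * a * y⁻¹⁻¹) * x⁻¹⁻¹) * (x * y)⁻¹ := by rw [hc]; group
              _ = x * y * (y⁻¹ * (x⁻¹ * a * x⁻¹⁻¹) * y⁻¹⁻¹) * (x * y)⁻¹ := by rw [hxy]
              _ = a := by group
          exact (mul_inv_eq_iff_eq_mul.1 e).symm
      have hco : orderOf c = 2 := Invol.order_two_of_sq hc2 hc1
      have hcent : ∀ e ∈ Ω, e ≠ 1 → ∀ z ∈ Z, e * z * e⁻¹ = z := by
        intro e he he1 z hz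
        obtain ⟨g, hg, hge⟩ := M.toHyp.invol_conj hco (hS.le hcS) (hΩ.order he he1) (hΩH he)
        have h1 := mem_centralizer_singleton_iff.1 (hcZ ((mem_normalizer_iff''.1 (hZn hg) z).1 hz))
        rw [← hge]
        calc g * c * g⁻¹ * z * (g * c * g⁻¹)⁻¹ = g * (c * (g⁻¹ * z * g)) * c⁻¹ * g⁻¹ := by group
          _ = g * (g⁻¹ * z * g * c) * c⁻¹ * g⁻¹ := by rw [← h1]
          _ = z := by group
      have hvZ : v ∈ Z := ⟨hv, hvr, fun a ha => mem_bot.2 (by rw [hvc a ha]; group)⟩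
      have hwZ : w ∈ Z := ⟨hw, hwr, fun a ha => mem_bot.2 (by rw [hwc a ha]; group)⟩
      refine hpair ⟨v, w, hv, hw, hvr, hwr, hv1, hwv, hvw, fun e he => Or.inl ?_⟩
      by_cases he1 : e = 1
      · rw [he1]; simp
      · exact ⟨hcent e he he1 v hvZ, hcent e he he1 w hwZ⟩
    refine M.false_of_abelian_four hS hab ?_
    haveI : Fact (Nat.Prime 2) := ⟨Nat.prime_two⟩
    obtain ⟨n, hn⟩ := IsPGroup.iff_card.1 hΩ.isPGroup
    have h8' : Nat.card Ω < 8 := by omega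
    rw [hn] at h8'
    have : n < 3 := (Nat.pow_lt_pow_iff_right (by norm_num)).1 (show 2 ^ n < 2 ^ 3 from h8')
    show Nat.card Ω ≤ 4
    rw [hn]
    exact (Nat.pow_le_pow_right (by norm_num) (show n ≤ 2 by omega)).trans (by norm_num)

end Min

end Cfsg.Agent.SESolv
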