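import Cfsg.Agent.Lib.SESolv.QuadCore
import Cfsg.Agent.Lib.PStable.AutFree
import Cfsg.Agent.Lib.Solvable.ScnCentralizer
import Cfsg.Agent.Lib.Involutions.StronglyEmbedded

/-!
Solvable groups of shape as in `SESolv.Shape` with one class of involutions are stable at all odd primes.
-/

set_option autoImplicit false
set_option linter.style.haveILetI false
set_option linter.unusedSectionVars false

namespace Cfsg.Agent.SESolv

open Cfsg Subgroup
open scoped commutatorElement

variable {X : Type*} [Group X] [Finite X] [Group.IsSolvable X]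

/-- If the 2-elements of a group square to one, it has no section `SL₂(3)` on a subgroup. -/
theorem false_of_sq_one {R : Type*} [Group R] [Finite R] (h : ∀ q : R, (∃ n, q ^ 2 ^ n = 1) → q * q = 1)
    (K : Subgroup R) (ψ : K →* Matrix.SpecialLinearGroup (Fin 2) (ZMod 3)) (hψ : Function.Surjective ψ) :
    False := by
  let J : Matrix.SpecialLinearGroup (Fin 2) (ZMod 3) := ⟨!![0, 1; 2, 0], by decide⟩
  obtain ⟨k, hk⟩ := hψ J
  obtain ⟨e, m, hm, hme⟩ := Nat.exists_eq_two_pow_mul_odd (orderOf_pos k).ne'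
  have h2 : ((k : R) ^ m) ^ 2 ^ e = 1 := by
    rw [← pow_mul, mul_comm, ← hme, ← Subgroup.coe_pow, pow_orderOf_eq_one, Subgroup.coe_one]
  have h3 : (k ^ m) * (k ^ m) = 1 := Subtype.ext (h _ ⟨e, h2⟩)
  have h4 := congrArg ψ h3
  rw [map_mul, map_pow, map_one, hk, ← pow_two, ← pow_mul] at h4
  have hJ4 : J ^ 4 = 1 := by decide
  have hJ2 : J ^ 2 ≠ 1 := by decide
  obtain ⟨j, hj⟩ := hm
  refine hJ2 ?_
  rw [hj, show (2 * j + 1) * 2 = 4 * j + 2 by ring, pow_add, pow_mul, hJ4, one_pow, one_mul] at h4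
  exact h4

/-- The stability. -/
theorem isQuad_of_shape (hX : Shape X)
    (hconj : ∀ s t : X, orderOf s = 2 → orderOf t = 2 → IsConj s t)
    (hfour : ∃ s t : X, orderOf s = 2 ∧ orderOf t = 2 ∧ s ≠ t ∧ s * t = t * s)
    {p : ℕ} [hp : Fact p.Prime] (hp2 : p ≠ 2) : ZJ.IsQuad p X := by
  rcases Nat.lt_or_ge p 5 with hp5 | hp5
  swap
  · exact ScnCentralizer.isQuad_of_solvable hp5
  obtain rfl : p = 3 := by
    have := hp.out.two_le
    by_contra h3
    have h4 : p = 4 := by omega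
    exact absurd (h4 ▸ hp.out) (by decide)
  by_contra hns
  simp only [ZJ.IsQuad, not_forall] at hns
  obtain ⟨B, hBn, a, hB, -, hq, hna⟩ := hns
  have hnaB : a ∉ ZJ.stab 3 B := hna
  obtain ⟨Y, ⟨hYn, hYB, hYa⟩, hYmin⟩ := Set.exists_min_image
    {Y : Subgroup X | ∃ _ : Y.Normal, Y ≤ B ∧ a ∉ ZJ.stab 3 Y} (fun Y => Nat.card Y)
    (Set.toFinite _) ⟨B, hBn, le_rfl, hnaB⟩
  haveI := hYn
  have hY1 : Y ≠ ⊥ := by
    intro h
    refine hYa ?_
    rw [ZJ.stab, Subgroup.mem_comap]
    have h1 : QuotientGroup.mk' (Subgroup.centralizer (Y : Set X)) a = 1 := by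
      refine (QuotientGroup.eq_one_iff _).2 fun y hy => ?_
      rw [h, SetLike.mem_coe, Subgroup.mem_bot] at hy
      rw [hy, one_mul, mul_one]
    rw [h1]; exact one_mem _
  have hYp : IsPGroup 3 Y := hB.to_le hYB
  obtain ⟨N₀, hN₀n, hN₀Y, hY₀c, hY₀e⟩ := PStable.exists_elementary_factor hYp hY1
  obtain ⟨N, hN₀N, ⟨hNn, hNY⟩, hNmax⟩ := Finite.exists_le_maximal
    (p := fun N : Subgroup X => N.Normal ∧ N < Y) ⟨hN₀n, hN₀Y⟩
  haveI := hNn
  have hYc : ∀ u ∈ Y, ∀ v ∈ Y, ⁅u, v⁆ ∈ N := fun u hu v hv => hN₀N (hY₀c u hu v hv)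
  have hYe : ∀ u ∈ Y, u ^ 3 ∈ N := fun u hu => hN₀N (hY₀e u hu)
  have haN : a ∈ ZJ.stab 3 N := by
    by_contra h
    exact absurd (hYmin N ⟨hNn, hNY.le.trans hYB, h⟩)
      (not_le.2 (Set.ncard_lt_ncard (SetLike.coe_ssubset_coe.2 hNY) (Set.toFinite _)))
  set f := QuotientGroup.mk' N with hf
  have hker : ∀ g, f g = 1 ↔ g ∈ N := fun g => QuotientGroup.eq_one_iff g
  set V := Y.map f with hV
  haveI : V.Normal := hYn.map f (QuotientGroup.mk'_surjective N)
  have hVc : ∀ u v : V, u * v = v * u := by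
    rintro ⟨_, u, hu, rfl⟩ ⟨_, v, hv, rfl⟩
    apply Subtype.ext
    change f u * f v = f v * f u
    rw [← commutatorElement_eq_one_iff_mul_comm, ← map_commutatorElement, hker]
    exact hYc u hu v hv
  letI : CommGroup V := { (inferInstance : Group V) with mul_comm := hVc }
  have hexp : ∀ v : V, v ^ 3 = 1 := by
    rintro ⟨_, u, hu, rfl⟩
    exact Subtype.ext (by rw [SubmonoidClass.coe_pow, ← map_pow, Subgroup.coe_one, hker]; exact hYe u hu)
  set ρ₀ : X →* MulAut V := (MulAut.conjNormal (H := V)).comp f with hρ₀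
  have hρv : ∀ (g : X) (v : V), (ρ₀ g v : X ⧸ N) = f g * v * (f g)⁻¹ := fun g v => by
    rw [hρ₀, MonoidHom.comp_apply, MulAut.conjNormal_apply]
  set q := ρ₀.rangeRestrict with hqdef
  have hqs : Function.Surjective q := ρ₀.rangeRestrict_surjective
  have hquad : ∀ v, ρ₀.range.subtype (q a) (ρ₀.range.subtype (q a) v * v⁻¹) =
      ρ₀.range.subtype (q a) v * v⁻¹ := by
    intro v
    show ρ₀ a (ρ₀ a v * v⁻¹) = ρ₀ a v * v⁻¹
    obtain ⟨_, y, hy, rfl⟩ := v
    apply Subtype.ext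
    simp only [hρv, Subgroup.coe_mul, Subgroup.coe_inv, ← map_inv, ← map_mul]
    have h1 : ⁅a * y * a⁻¹ * y⁻¹, a⁆ = 1 := by
      rw [← Subgroup.mem_bot, ← hq]
      refine Subgroup.commutator_mem_commutator ?_ (Subgroup.mem_zpowers a)
      rw [show a * y * a⁻¹ * y⁻¹ = ⁅y, a⁆⁻¹ by rw [commutatorElement_def]; group]
      exact Subgroup.inv_mem _ (Subgroup.commutator_mem_commutator (hYB hy) (Subgroup.mem_zpowers a))
    rw [commutatorElement_eq_one_iff_mul_comm] at h1
    congr 1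
    rw [← h1, mul_inv_cancel_right]
  have hqa : q a ∉ Cfsg.pCore 3 ρ₀.range := by
    intro hmem
    refine hYa ?_
    set P := ZJ.stab 3 N ⊓ (Cfsg.pCore 3 ρ₀.range).comap q with hP
    haveI : P.Normal := by
      haveI := (Cfsg.pCore_normal 3 ρ₀.range).comap q
      exact Subgroup.normal_inf_normal _ _
    refine (show P ≤ ZJ.stab 3 Y from ?_) ⟨haN, hmem⟩
    set r := QuotientGroup.mk' (Subgroup.centralizer (Y : Set X)) with hr
    rw [ZJ.stab, ← Subgroup.map_le_iff_le_comap]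
    refine PBasic.le_pCore (Subgroup.Normal.map inferInstance _ (QuotientGroup.mk'_surjective _))
      (PBasic.isPGroup_iff_forall_coprime.2 fun y ho => ?_)
    obtain ⟨x, hx, hxy⟩ := y.2
    obtain ⟨u, v, huv, -, hv, ⟨k, hk⟩, hvo⟩ := PBasic.exists_pPart_mul (p := 3) x
    have hvX : v ∈ P := Subgroup.zpowers_le.2 hx hv
    have hqv : q v = 1 := PBasic.eq_one_of_isPGroup_of_coprime (PBasic.pCore_isPGroup 3 _) hvX.2
      (Nat.Coprime.coprime_dvd_left (orderOf_map_dvd q v) hvo)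
    have hvY : v ∈ ZJ.stab 3 Y := by
      refine ZJNPC.mem_stab_of_factor hYp hNY.le hvX.1 fun w hw => ?_
      have h1 : ρ₀ v = 1 := congrArg Subtype.val hqv
      have h2 : (ρ₀ v ⟨f w, Subgroup.mem_map_of_mem f hw⟩ : X ⧸ N) = f w := by
        rw [h1]; rfl
      rw [hρv] at h2
      rw [← hker, map_commutatorElement, commutatorElement_eq_one_iff_mul_comm]
      exact mul_inv_eq_iff_eq_mul.1 h2
    have hrv : r v = 1 := PBasic.eq_one_of_isPGroup_of_coprime (PBasic.pCore_isPGroup 3 _) hvY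
      (Nat.Coprime.coprime_dvd_left (orderOf_map_dvd r v) hvo)
    have hyu : (y : X ⧸ Subgroup.centralizer (Y : Set X)) = r u := by
      rw [← hxy, ← huv, map_mul, hrv, mul_one]
    apply Subtype.ext
    rw [Subgroup.coe_one, hyu, ← orderOf_eq_one_iff]
    refine Nat.eq_one_of_dvd_coprimes (a := 3 ^ k) (b := orderOf (y : X ⧸ Subgroup.centralizer (Y : Set X)))
      ?_ (hk ▸ orderOf_map_dvd r u) (hyu ▸ dvd_rfl)
    rw [Subgroup.orderOf_coe]
    exact Nat.Coprime.pow_left k ho.symm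
  -- the factor is irreducible, so the 3-core of the image is trivial
  have hR : Cfsg.pCore 3 ρ₀.range = ⊥ := by
    set O := Cfsg.pCore 3 ρ₀.range with hO
    haveI := Cfsg.pCore_normal 3 ρ₀.range
    rw [eq_bot_iff]
    intro o ho
    let U : Subgroup X :=
      { carrier := {g | g ∈ Y ∧ ∀ o ∈ O, ∀ v : V, (v : X ⧸ N) = f g → (o : MulAut V) v = v}
        one_mem' := ⟨Y.one_mem, fun o _ v hv => by
          rw [show v = 1 from Subtype.ext (hv.trans (map_one f)), map_one]⟩
        mul_mem' := fun {g h} hg hh => ⟨Y.mul_mem hg.1 hh.1, fun o ho v hv => by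
          have e : v = ⟨f g, mem_map_of_mem f hg.1⟩ * ⟨f h, mem_map_of_mem f hh.1⟩ :=
            Subtype.ext (hv.trans (map_mul f g h))
          rw [e, map_mul, hg.2 o ho _ rfl, hh.2 o ho _ rfl]⟩
        inv_mem' := fun {g} hg => ⟨Y.inv_mem hg.1, fun o ho v hv => by
          have e : v = (⟨f g, mem_map_of_mem f hg.1⟩ : V)⁻¹ := Subtype.ext (hv.trans (map_inv f g))
          rw [e, map_inv, hg.2 o ho _ rfl]⟩ }
    haveI hUn : U.Normal := ⟨fun g hg x => ⟨hYn.conj_mem g hg.1 x, fun o ho v hv => by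
      have hox : (q x)⁻¹ * o * q x ∈ O := by simpa using (Cfsg.pCore_normal 3 ρ₀.range).conj_mem o ho (q x)⁻¹
      have h := hg.2 _ hox ⟨f g, mem_map_of_mem f hg.1⟩ rfl
      have e : v = ρ₀ x ⟨f g, mem_map_of_mem f hg.1⟩ := Subtype.ext (hv.trans (by rw [hρv, map_mul, map_mul, map_inv]))
      rw [e]
      conv_rhs => rw [← h]
      show (o : MulAut V) (ρ₀ x _) = (ρ₀ x * ((ρ₀ x)⁻¹ * (o : MulAut V) * ρ₀ x)) _
      rw [mul_assoc (ρ₀ x)⁻¹, mul_inv_cancel_left]
      rfl⟩⟩
    have hNU : N ≤ U := fun g hg => ⟨hNY.le hg, fun o ho v hv => by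
      rw [show v = 1 from Subtype.ext (hv.trans ((hker g).2 hg)), map_one]⟩
    have hUY : U = Y := by
      by_contra hne
      have hlt : U < Y := lt_of_le_of_ne (fun g hg => hg.1) hne
      have hUN : U = N := le_antisymm (hNmax ⟨hUn, hlt⟩ hNU) hNU
      have hVp : IsPGroup 3 V := fun v => ⟨1, by rw [pow_one]; exact hexp v⟩
      haveI : Nontrivial V := by
        rw [Subgroup.nontrivial_iff_ne_bot]
        intro h
        obtain ⟨y, hyY, hyN⟩ := SetLike.exists_of_lt hNY
        exact hyN ((hker y).1 (Subgroup.mem_bot.1 (h ▸ mem_map_of_mem f hyY)))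
      letI : MulAction O V :=
        { smul := fun o v => (o : MulAut V) v
          one_smul := fun v => rfl
          mul_smul := fun a b v => rfl }
      have hOp : IsPGroup 3 O := PBasic.pCore_isPGroup 3 ρ₀.range
      have h3 : 3 ∣ Nat.card V := hVp.card_eq_or_dvd.resolve_left Finite.one_lt_card.ne'
      obtain ⟨v, hv, hv1⟩ := hOp.exists_fixed_point_of_prime_dvd_card_of_fixed_point V h3
        (a := 1) (fun o => map_one ((o : ρ₀.range) : MulAut V))
      obtain ⟨y, hy, hyv⟩ := v.2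
      have hyU : y ∈ U := ⟨hy, fun o ho w hw => by
        rw [show w = v from Subtype.ext (hw.trans hyv)]
        exact hv ⟨o, ho⟩⟩
      exact hv1 (Subtype.ext (by rw [Subgroup.coe_one, ← hyv, (hker y).2 (hUN ▸ hyU)]))
    apply Subtype.ext
    refine MulEquiv.ext fun v => ?_
    obtain ⟨y, hy, hyv⟩ := v.2
    exact (hUY.ge hy).2 o ho v hyv.symm
  -- involutions: all in the kernel, or none
  by_cases hkin : ∃ t : X, orderOf t = 2 ∧ ρ₀ t = 1
  · obtain ⟨t, ht, ht1⟩ := hkin
    have hall : ∀ s : X, s * s = 1 → ρ₀ s = 1 := by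
      intro s hs
      by_cases hs1 : s = 1
      · rw [hs1, map_one]
      obtain ⟨c, rfl⟩ := isConj_iff.1 (hconj t s ht (Invol.order_two_of_sq hs hs1))
      rw [map_mul, map_mul, ht1, mul_one, map_inv, mul_inv_cancel]
    obtain ⟨K, ψ, -, -, -, hψ, -⟩ :=
      PStable.exists_natural_section hp2 hexp ρ₀.range.subtype ρ₀.range.subtype_injective hquad hqa
    refine false_of_sq_one (fun r hr => ?_) K ψ hψ
    obtain ⟨n, hn⟩ := hr
    obtain ⟨T, hT, hTr⟩ := exists_lift_two q (S := Subgroup.zpowers r)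
      (fun x => by
        obtain ⟨i, hi⟩ := Subgroup.mem_zpowers_iff.1 x.2
        exact ⟨n, Subtype.ext (by
          rw [Subgroup.coe_pow, ← hi, ← zpow_natCast, zpow_comm, zpow_natCast, hn, one_zpow, Subgroup.coe_one])⟩)
      (by rw [q.range_eq_top_of_surjective hqs]; exact le_top)
    obtain ⟨x, hx, hxr⟩ : r ∈ T.map q := hTr ▸ mem_zpowers r
    rw [← hxr, ← map_mul]
    exact Subtype.ext (hall _ ((hX T hT).1 x hx))
  · push Not at hkin
    have hodd : Odd (Nat.card q.ker) := by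
      rw [← Nat.not_even_iff_odd]
      intro he
      obtain ⟨t, ht, ht2⟩ := Invol.exists_invol he
      exact hkin t ht2 (congrArg Subtype.val (show q t = 1 from ht))
    haveI : Group.IsSolvable ρ₀.range := Group.isSolvable_of_surjective hqs
    have hlift : ∀ s : ρ₀.range, orderOf s = 2 → ∃ t : X, orderOf t = 2 ∧ q t = s := by
      intro s hs
      have hS : IsPGroup 2 (Subgroup.zpowers s) := IsPGroup.of_card (n := 1) (by
        rw [Nat.card_zpowers, hs, pow_one])
      obtain ⟨T, hT, hTs⟩ := exists_lift_two q hS (by rw [q.range_eq_top_of_surjective hqs]; exact le_top)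
      obtain ⟨x, hx, hxs⟩ : s ∈ T.map q := hTs ▸ mem_zpowers s
      refine ⟨x, Invol.order_two_of_sq (injOn_of_two q hodd hT (mul_mem hx hx) T.one_mem (by
        rw [map_mul, hxs, map_one, Invol.mul_self hs])) fun h => ?_, hxs⟩
      rw [h, map_one] at hxs
      rw [← hxs, orderOf_one] at hs
      omega
    have hne : ∀ t : X, orderOf t = 2 → q t ≠ 1 := fun t ht h => hkin t ht (congrArg Subtype.val h)
    have ho2 : ∀ t : X, orderOf t = 2 → orderOf (q t) = 2 := fun t ht =>
      Invol.order_two_of_sq (by rw [← map_mul, Invol.mul_self ht, map_one]) (hne t ht)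
    obtain ⟨s, t, hs, ht, hst, hcomm⟩ := hfour
    refine hqa ?_
    have h1 : q a = 1 := quadratic_eq_one (hX.of_surjective_odd q hqs hodd) ρ₀.range.subtype
      ρ₀.range.subtype_injective hexp hR ?_ ⟨q s, q t, ho2 s hs, ho2 t ht, fun h => ?_,
        by rw [← map_mul, hcomm, map_mul]⟩ hquad
    · rw [h1]; exact one_mem _
    · intro u v hu hv
      obtain ⟨u', hu', rfl⟩ := hlift u hu
      obtain ⟨v', hv', rfl⟩ := hlift v hv
      obtain ⟨c, rfl⟩ := isConj_iff.1 (hconj u' v' hu' hv')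
      exact isConj_iff.2 ⟨q c, by simp⟩
    · refine hne (s * t) (Invol.order_two_of_sq ?_ fun e => hst ?_) (by
        rw [map_mul, ← h, ← map_mul, Invol.mul_self hs, map_one])
      · rw [← mul_assoc, mul_assoc s t s, ← hcomm, ← mul_assoc, Invol.mul_self hs, one_mul, Invol.mul_self ht]
      · rw [eq_inv_of_mul_eq_one_left e, Invol.inv_self ht]

end Cfsg.Agent.SESolv
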