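import Cfsg.Agent.Lib.SESolv.Endgame
import Cfsg.Agent.Lib.SESolv.Quad
import Cfsg.Agent.Lib.PLocal.ZJClosed
import Cfsg.Agent.Lib.PStable.Involved

/-!
One prime only: a Sylow subgroup of a normal subgroup of `H` has its normaliser in `H`.
-/

set_option autoImplicit false
set_option linter.style.haveILetI false
set_option linter.unusedSectionVars false

namespace Cfsg.Agent.SESolv

open Cfsg Subgroup MulAction

universe u

variable {G : Type u} [Group G] [Finite G] {H : Subgroup G}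

/-- Solvable subgroups without cores at other primes. -/
theorem centralizer_core_le {D : Subgroup G} [Group.IsSolvable D] {r : ℕ}
    (h : ∀ q : ℕ, q.Prime → q ≠ r → coreAt q D = ⊥) :
    centralizer (Cfsg.pCore r D : Set D) ≤ Cfsg.pCore r D := by
  have hle : Cfsg.fittingSubgroup D ≤ Cfsg.pCore r D := by
    rw [FittingCores.fitting_eq_iSup_pCore]
    refine iSup_le fun q => ?_
    by_cases hqr : (q : ℕ) = r
    · rw [hqr]
    · have := h q q.2 hqr
      rw [coreAt, Subgroup.map_eq_bot_iff_of_injective _ D.subtype_injective] at this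
      rw [this]
      exact bot_le
  exact (Subgroup.centralizer_le (SetLike.coe_subset_coe.2 hle)).trans (FittingCores.centralizer_fitting_le.trans hle)

/-- `H` is stable. -/
theorem Hyp.isQuad (h : Hyp H) {r : ℕ} [Fact r.Prime] (hr2 : r ≠ 2) : ZJ.IsQuad r H := by
  haveI := h.solv
  refine isQuad_of_shape h.shape (fun s t hs ht => ?_) ?_ hr2
  · obtain ⟨g, hg, e⟩ := h.invol_conj (s := (s : G)) (t := (t : G)) (by rw [Subgroup.orderOf_coe, hs]) s.2
      (by rw [Subgroup.orderOf_coe, ht]) t.2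
    exact isConj_iff.2 ⟨⟨g, hg⟩, Subtype.ext e⟩
  · obtain ⟨E, hEH, hE⟩ := h.four
    obtain ⟨a, ha, ha1⟩ := IsFour.exists_ne hE
    obtain ⟨b, hb, hb1, hba⟩ : ∃ b ∈ E, b ≠ 1 ∧ b ≠ a := by
      by_contra hc
      push Not at hc
      have h4 := hE.2
      rw [← SetLike.coe_sort_coe, Nat.card_coe_set_eq] at h4
      have : (E : Set G).ncard ≤ ({1, a} : Set G).ncard := Set.ncard_le_ncard (fun x hx => by
        by_cases h1 : x = 1
        · exact Or.inl h1
        · exact Or.inr (hc x hx h1)) (Set.toFinite _)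
      rw [Set.ncard_pair ha1.symm] at this
      omega
    refine ⟨⟨a, hEH ha⟩, ⟨b, hEH hb⟩, ?_, ?_, fun e => hba (congrArg Subtype.val e).symm, Subtype.ext (hE.comm ha hb)⟩
    · rw [Subgroup.orderOf_mk]; exact hE.order ha ha1
    · rw [Subgroup.orderOf_mk]; exact hE.order hb hb1

namespace Min

variable (M : Min H)
include M

theorem norm_le_of_sylow {r : ℕ} [hr : Fact r.Prime] (hr2 : r ≠ 2)
    (hF : ∀ q : ℕ, q.Prime → q ≠ r → coreAt q H = ⊥) {Q N : Subgroup G} (hNH : N ≤ H)
    (hNn : H ≤ normalizer (N : Set G)) (hQN : Functors.IsSylowIn r Q N) (hQ1 : Q ≠ ⊥) :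
    normalizer (Q : Set G) ≤ H := by
  haveI := M.solv
  have hQH : Q ≤ H := hQN.le.trans hNH
  obtain ⟨T, hT⟩ := (hQN.isPGroup.comap_subtype (K := H)).exists_le_sylow
  have hmap : (Q.subgroupOf H).map H.subtype = Q := Subgroup.map_subgroupOf_eq_of_le hQH
  have hTN : (T : Subgroup H).map H.subtype ⊓ N = Q :=
    (hQN.eq_of_le ((T.isPGroup'.map _).to_le inf_le_left) (le_inf (hmap ▸ map_mono hT) hQN.le) inf_le_right).symm
  have hclosed : Cfsg.IsStronglyClosed (Q.subgroupOf H) (T : Subgroup H) := by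
    refine ⟨hT, fun d hd g hg => mem_subgroupOf.2 (hTN.le ⟨mem_map_of_mem H.subtype hg, ?_⟩)⟩
    exact SEBrick.conj_mem_of (hNn g.2) (hQN.le (mem_subgroupOf.1 hd))
  set Z := ZJ.zCore r False Q with hZ
  have hnorm : (ZJ.zCore r False (Q.subgroupOf H)).Normal :=
    ZJClosed.zCore_normal hr2 (M.toHyp.isQuad hr2) (centralizer_core_le hF) T hclosed False
  have hZmap : (ZJ.zCore r False (Q.subgroupOf H)).map H.subtype = Z := by
    rw [ZJ.zCore_map H.subtype H.subtype_injective.injOn, hmap]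
  have hZQ : Z ≤ Q := (ZJ.zCore_le_zJ Q).trans (ZJ.zJ_le Q)
  have hZn : H ≤ normalizer (Z : Set G) := hZmap ▸ le_normalizer_map hnorm
  have hZW : Z ≤ oc H := (le_coreAt (hZQ.trans hQH) (hQN.isPGroup.to_le hZQ) hZn).trans (M.coreAt_le_oc r hr.out)
  rw [← M.norm hZW (ZJ.zCore_ne_bot hQN.isPGroup hQ1) hZn]
  exact (ZJ.normalizer_le_normalizer_zJ Q).trans (ZJ.normalizer_zJ_le_normalizer_zCore Q)

end Min

end Cfsg.Agent.SESolv
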