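import Cfsg.Agent.Lib.SESolv.Local
import Cfsg.Agent.Lib.SEBrick.Reduce
import Cfsg.Agent.Lib.Functors.Conj

/-!
Orbits of involutions under odd groups; fixed points in invariant Sylow subgroups.
-/

set_option autoImplicit false
set_option linter.style.haveILetI false
set_option linter.unusedSectionVars false

namespace Cfsg.Agent.SESolv

open Cfsg Subgroup

universe u

variable {G : Type u} [Group G] [Finite G] {H : Subgroup G}

/-- The conjugates of `x` under `K`. -/
def conjSet (K : Subgroup G) (x : G) : Set G := (fun k => k * x * k⁻¹) '' (K : Set G)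

theorem conjSet_card (K : Subgroup G) (x : G) :
    (conjSet K x).ncard * Nat.card ↥(K ⊓ centralizer ({x} : Set G)) = Nat.card K := by
  set C := (K ⊓ centralizer ({x} : Set G)).subgroupOf K
  have hC : Nat.card C = Nat.card ↥(K ⊓ centralizer ({x} : Set G)) :=
    Nat.card_congr (subgroupOfEquivOfLe inf_le_left).toEquiv
  rw [← hC, ← Nat.card_coe_set_eq, card_eq_card_quotient_mul_card_subgroup C]
  congr 1
  have hiff : ∀ a b : K, (a : G) * x * (a : G)⁻¹ = (b : G) * x * (b : G)⁻¹ ↔ a⁻¹ * b ∈ C := fun a b => by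
    rw [mem_subgroupOf, mem_inf, mem_centralizer_singleton_iff]
    constructor
    · intro h
      refine ⟨(a⁻¹ * b).2, ?_⟩
      calc ((a⁻¹ * b : K) : G) * x = (a : G)⁻¹ * ((b : G) * x * (b : G)⁻¹) * b := by push_cast; group
        _ = (a : G)⁻¹ * ((a : G) * x * (a : G)⁻¹) * b := by rw [h]
        _ = _ := by push_cast; group
    · rintro ⟨-, h⟩
      push_cast at h
      calc (a : G) * x * (a : G)⁻¹ = (a : G) * (x * ((a : G)⁻¹ * b)) * (b : G)⁻¹ := by group
        _ = (a : G) * ((a : G)⁻¹ * b * x) * (b : G)⁻¹ := by rw [h]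
        _ = _ := by group
  let f : K ⧸ C → conjSet K x := Quotient.lift
    (fun k : K => (⟨(k : G) * x * (k : G)⁻¹, k, k.2, rfl⟩ : conjSet K x))
    fun a b h => Subtype.ext ((hiff a b).2 (QuotientGroup.leftRel_apply.1 h))
  refine (Nat.card_congr (Equiv.ofBijective f ⟨?_, ?_⟩)).symm
  · intro a b h
    induction a using QuotientGroup.induction_on with
    | _ a =>
      induction b using QuotientGroup.induction_on with
      | _ b => exact QuotientGroup.eq.2 ((hiff a b).1 (congrArg Subtype.val h))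
  · rintro ⟨_, k, hk, rfl⟩
    exact ⟨((⟨k, hk⟩ : K) : K ⧸ C), rfl⟩

/-- The fixed points of an invariant Sylow subgroup of an odd group. -/
theorem fixed_sylow {r : ℕ} [hr : Fact r.Prime] {K S : Subgroup G} {i : G} (hK : Odd (Nat.card K))
    (hi : orderOf i = 2) (hiK : i ∈ normalizer (K : Set G)) (hS : Functors.IsSylowIn r S K)
    (hiS : i ∈ normalizer (S : Set G)) :
    Functors.IsSylowIn r (S ⊓ centralizer ({i} : Set G)) (K ⊓ centralizer ({i} : Set G)) := by
  set C := centralizer ({i} : Set G) with hC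
  set A := zpowers i with hA
  have hcop : (Nat.card A).Coprime (Nat.card K) := by
    rw [Nat.card_zpowers, hi]; exact Nat.coprime_two_left.2 hK
  have hAsol : Group.IsSolvable A := Group.isSolvable_of_comm fun a b => mul_comm' a b
  obtain ⟨T⟩ : Nonempty (Sylow r ↥(K ⊓ C)) := inferInstance
  set T' := (T : Subgroup ↥(K ⊓ C)).map (K ⊓ C).subtype with hT'
  have hT'le : T' ≤ K ⊓ C := map_subtype_le _
  have hAT : A ≤ normalizer (T' : Set G) := zpowers_le.2 (SEBrick.mem_normalizer_of fun x hx => by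
    have h1 : x * i = i * x := mem_centralizer_singleton_iff.1 (hT'le hx).2
    rw [← h1, mul_inv_cancel_right]
    exact hx)
  obtain ⟨P, hTP, hAP⟩ := CoprimeAct.exists_invariant_sylow_ge (zpowers_le.2 hiK) hcop (Or.inl hAsol)
    (U := T') (hT'le.trans inf_le_left) (T.isPGroup'.map _) hAT
  obtain ⟨Q, hQ⟩ := hS.exists_sylow
  have hQmap : (Q : Subgroup K).map K.subtype = S := by rw [hQ]; exact map_subgroupOf_eq_of_le hS.le
  obtain ⟨d, hd, hdP⟩ := CoprimeAct.invariant_sylow_conj (zpowers_le.2 hiK) hcop (Or.inl hAsol) P Q hAP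
    (by rw [hQmap]; exact zpowers_le.2 hiS)
  have hdC : (d : G) ∈ C := centralizer_le (Set.singleton_subset_iff.2 (mem_zpowers i)) hd
  have hle : T'.map (MulAut.conj (d : G)).toMonoidHom ≤ S ⊓ C := by
    rintro _ ⟨x, hx, rfl⟩
    refine ⟨?_, C.mul_mem (C.mul_mem hdC (hT'le hx).2) (C.inv_mem hdC)⟩
    obtain ⟨y, hy, e⟩ := hTP hx
    have e' : x = (y : G) := e.symm
    rw [← hQmap, ← hdP]
    exact ⟨d * y * d⁻¹, ⟨y, hy, rfl⟩, by rw [e']; rfl⟩
  have h1 : Nat.card T' ≤ Nat.card ↥(S ⊓ C) := by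
    rw [← card_map_of_injective (K := T') (f := (MulAut.conj (d : G)).toMonoidHom) (MulAut.conj (d : G)).injective]
    exact card_le_of_le hle
  have hsylT : Functors.IsSylowIn r T' (K ⊓ C) := Functors.isSylowIn_map_subtype T
  obtain ⟨R, hR, hle'⟩ := Functors.exists_isSylowIn_ge (p := r) (hS.isPGroup.to_le inf_le_left)
    (inf_le_inf_right C hS.le : S ⊓ C ≤ K ⊓ C)
  obtain ⟨e, -, heR⟩ := Functors.exists_conj_eq_of_isSylowIn hsylT hR
  have h2 : Nat.card R = Nat.card T' := by
    rw [← heR]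
    exact (card_map_of_injective (K := R) (f := Functors.cj e) (Functors.cj_injective e)).symm
  have : S ⊓ C = R := Subgroup.eq_of_le_of_card_ge hle' (h2 ▸ h1)
  rw [this]
  exact hR

/-- The `r`-part of an orbit. -/
theorem sylow_orbit {r : ℕ} [hr : Fact r.Prime] {K S : Subgroup G} {i : G} (hK : Odd (Nat.card K))
    (hi : orderOf i = 2) (hiK : i ∈ normalizer (K : Set G)) (hS : Functors.IsSylowIn r S K)
    (hiS : i ∈ normalizer (S : Set G)) :
    r ^ (conjSet K i).ncard.factorization r * Nat.card ↥(S ⊓ centralizer ({i} : Set G)) = Nat.card S := by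
  have hf := fixed_sylow hK hi hiK hS hiS
  obtain ⟨Q, hQ⟩ := hS.exists_sylow
  obtain ⟨Q', hQ'⟩ := hf.exists_sylow
  have e1 := Q.card_eq_multiplicity
  have e2 := Q'.card_eq_multiplicity
  rw [hQ, Nat.card_congr (subgroupOfEquivOfLe hS.le).toEquiv] at e1
  rw [hQ', Nat.card_congr (subgroupOfEquivOfLe hf.le).toEquiv] at e2
  rw [e1, e2, ← pow_add]
  congr 1
  have h := conjSet_card K i
  have hne : (conjSet K i).ncard ≠ 0 := fun h0 => by
    rw [h0, zero_mul] at h
    exact Nat.card_pos.ne' h.symm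
  rw [← h, Nat.factorization_mul hne Nat.card_pos.ne']
  rfl

/-- An element of odd order that is a commutator with an involution of `H` lies in the odd core. -/
theorem Hyp.odd_comm_mem (h : Hyp H) {e x : G} (he : e ∈ H) (he2 : e * e = 1) (hx : x ∈ H)
    (hodd : Odd (orderOf (x * e * x⁻¹ * e⁻¹))) : x * e * x⁻¹ * e⁻¹ ∈ oc H := by
  set f := x * e * x⁻¹ with hf
  have hff : f * f = 1 := by rw [hf, show x * e * x⁻¹ * (x * e * x⁻¹) = x * (e * e) * x⁻¹ by group, he2]; group
  have h1 : f * e * f⁻¹ * e⁻¹ ∈ oc H :=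
    h.comm_mod (H.mul_mem (H.mul_mem hx he) (H.inv_mem hx)) he hff (n := 1) (by rw [pow_one, pow_two, he2])
  have h2 : (f * e⁻¹) ^ 2 ∈ oc H := by
    have hei : e⁻¹ = e := inv_eq_of_mul_eq_one_right he2
    have hfi : f⁻¹ = f := inv_eq_of_mul_eq_one_right hff
    rw [hfi, hei] at h1
    rw [pow_two, hei, ← mul_assoc]
    exact h1
  obtain ⟨k, hk⟩ := exists_pow_eq_self_of_coprime (x := f * e⁻¹) (n := 2) (Nat.coprime_two_left.2 hodd)
  exact hk ▸ pow_mem h2 k

end Cfsg.Agent.SESolv
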