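import Cfsg.Agent.Lib.SESolv.Seal
import Cfsg.Agent.Lib.SESolv.Orbit
import Cfsg.Agent.Lib.BrauerSuzuki.Main

/-!
The endgame: two-point stabilisers with a largest `r`-part.
-/

set_option autoImplicit false
set_option linter.style.haveILetI false
set_option linter.unusedSectionVars false

namespace Cfsg.Agent.SESolv

open Cfsg Subgroup MulAction

universe u

variable {G : Type u} [Group G] [Finite G] {H : Subgroup G}

/-- Swappers are conjugate under the two-point stabiliser. -/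
theorem swap_conjSet (h : Cfsg.IsStronglyEmbedded H) {b : G ⧸ H} (hb : b ≠ base H) {u : G} (hu : orderOf u = 2)
    (hu1 : u • base H = b) :
    (conjSet (twoPt H b) u).ncard = Nat.card {t : G // orderOf t = 2 ∧ t ∈ H} := by
  have hu2 : u • b = base H := by rw [← hu1, ← mul_smul, Invol.mul_self hu, one_smul]
  rw [← Invol.card_swapInv h (Ne.symm hb), ← Nat.card_coe_set_eq]
  refine Nat.card_congr (Equiv.subtypeEquivRight fun v => ⟨?_, fun hv => ?_⟩)
  · rintro ⟨d, hd, rfl⟩
    refine ⟨by rw [Invol.order_conj, hu], ?_⟩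
    rw [mul_smul, mul_smul, inv_smul_eq_iff.2 (mem_stab_base.2 hd.1).symm, hu1]
    exact hd.2
  · obtain ⟨hv, hv1⟩ := hv
    have hv2 : v • b = base H := by
      change v • base H = b at hv1
      rw [← hv1, ← mul_smul, Invol.mul_self hv, one_smul]
    have huv : u * v ∈ twoPt H b := by
      refine ⟨mem_stab_base.1 ?_, ?_⟩
      · rw [mul_smul, hv1]; exact hu2
      · show (u * v) • b = b
        rw [mul_smul, hv2, hu1]
    obtain ⟨d, hd, hdu⟩ := SEBrick.conj_of_odd' hu hv (SEBrick.odd_order (twoPt_odd h hb) huv)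
    exact ⟨d, zpowers_le.2 huv hd, hdu⟩

/-- The involutions of `H` are one class. -/
theorem Hyp.invol_conjSet (h : Hyp H) {i : G} (hi : orderOf i = 2) (hiH : i ∈ H) :
    (conjSet H i).ncard = Nat.card {t : G // orderOf t = 2 ∧ t ∈ H} := by
  rw [← Nat.card_coe_set_eq]
  refine Nat.card_congr (Equiv.subtypeEquivRight fun v => ⟨?_, fun hv => ?_⟩)
  · rintro ⟨d, hd, rfl⟩
    exact ⟨by rw [Invol.order_conj, hi], H.mul_mem (H.mul_mem hd hiH) (H.inv_mem hd)⟩
  · obtain ⟨g, hg, hgi⟩ := h.invol_conj hi hiH hv.1 hv.2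
    exact ⟨g, hg, hgi⟩

/-- The set product of two subgroups filling a third. -/
theorem exists_mul_of_card {R C S : Subgroup G} (hR : R ≤ S) (hC : C ≤ S)
    (h : Nat.card S * Nat.card ↥(R ⊓ C) ≤ Nat.card R * Nat.card C) {x : G} (hx : x ∈ S) :
    ∃ a ∈ R, ∃ c ∈ C, x = a * c := by
  set T : Set S := {z | ∃ a ∈ R, ∃ c ∈ C, (z : G) = a * c} with hT
  suffices hTu : T = Set.univ by
    have : (⟨x, hx⟩ : S) ∈ T := hTu ▸ Set.mem_univ _
    exact this
  let f : R × C → T := fun z =>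
    ⟨⟨(z.1 : G) * z.2, S.mul_mem (hR z.1.2) (hC z.2.2)⟩, z.1, z.1.2, z.2, z.2.2, rfl⟩
  classical
  haveI := Fintype.ofFinite (R × C)
  haveI := Fintype.ofFinite T
  have hle : Nat.card (R × C) ≤ Nat.card T * Nat.card ↥(R ⊓ C) := by
    rw [← Nat.card_prod]
    have hch : ∀ z : T, ∃ a : R, ∃ c : C, ((z : S) : G) = a * c := fun z => by
      obtain ⟨a, ha, c, hc, e⟩ := z.2
      exact ⟨⟨a, ha⟩, ⟨c, hc⟩, e⟩
    choose fa fc hf using hch
    refine Nat.card_le_card_of_injective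
      (fun z => (f z, (⟨(fa (f z) : G)⁻¹ * z.1, R.mul_mem (R.inv_mem (fa (f z)).2) z.1.2, ?_⟩ : ↥(R ⊓ C)))) ?_
    · have e : (z.1 : G) * z.2 = fa (f z) * fc (f z) := hf (f z)
      have : (fa (f z) : G)⁻¹ * z.1 = fc (f z) * (z.2 : G)⁻¹ := by
        calc (fa (f z) : G)⁻¹ * z.1 = (fa (f z) : G)⁻¹ * ((z.1 : G) * z.2) * (z.2 : G)⁻¹ := by group
          _ = _ := by rw [e]; group
      rw [this]
      exact C.mul_mem (fc (f z)).2 (C.inv_mem z.2.2)
    · intro z z' hzz
      obtain ⟨h1, h2⟩ := Prod.ext_iff.1 hzz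
      have h2' := congrArg (fun q : ↥(R ⊓ C) => (q : G)) h2
      simp only at h1 h2'
      rw [h1] at h2'
      have ha : z.1 = z'.1 := Subtype.ext (mul_left_cancel h2')
      have hb : (z.1 : G) * z.2 = z'.1 * z'.2 := congrArg (fun q : T => ((q : S) : G)) h1
      rw [ha] at hb
      exact Prod.ext ha (Subtype.ext (mul_left_cancel hb))
  rw [Nat.card_prod] at hle
  refine Set.eq_univ_of_univ_subset ?_
  refine (Set.eq_of_subset_of_ncard_le (Set.subset_univ T) ?_ (Set.toFinite _)).ge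
  rw [Set.ncard_univ, ← Nat.card_coe_set_eq]
  exact Nat.le_of_mul_le_mul_right (h.trans hle) Nat.card_pos

namespace Min

variable (M : Min H)
include M

/-- An involution of `H` normalising a large `r`-subgroup moves the `r`-core into it. -/
theorem commutator_mem {r : ℕ} [hr : Fact r.Prime] (hr2 : r ≠ 2) {R : Subgroup G} {i : G} (hR : IsPGroup r R)
    (hRH : R ≤ H) (hi : orderOf i = 2) (hiH : i ∈ H) (hiR : i ∈ normalizer (R : Set G))
    (hbig : r ^ (Nat.card {t : G // orderOf t = 2 ∧ t ∈ H}).factorization r *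
      Nat.card ↥(R ⊓ centralizer ({i} : Set G)) ≤ Nat.card R) :
    ∀ x ∈ coreAt r H, x * i * x⁻¹ * i⁻¹ ∈ R := by
  set W := oc H with hW
  set C := centralizer ({i} : Set G) with hC
  set K := W ⊔ R with hK
  have hWn : R ≤ normalizer (W : Set G) := hRH.trans (oc_normal H)
  have hKH : K ≤ H := sup_le (oc_le H) hRH
  have hKodd : Odd (Nat.card K) := by
    refine SEBrick.odd_card_of_orders fun a ha ha2 => ?_
    obtain ⟨w, hw, ρ, hρ, rfl⟩ := (SolvBasic.mem_sup_iff_of_le_normalizer hWn).1 ha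
    haveI := normal_subgroupOf_of_le_normalizer (oc_normal H)
    set π := QuotientGroup.mk' ((oc H).subgroupOf H)
    have e : π ⟨w * ρ, hKH ha⟩ = π ⟨ρ, hRH hρ⟩ := by
      rw [show (⟨w * ρ, hKH ha⟩ : H) = ⟨w, oc_le H hw⟩ * ⟨ρ, hRH hρ⟩ from rfl, map_mul,
        show π ⟨w, oc_le H hw⟩ = 1 from (QuotientGroup.eq_one_iff _).2 hw, one_mul]
    have h1 : π ⟨w * ρ, hKH ha⟩ ^ 2 = 1 := by
      rw [← map_pow, show (⟨w * ρ, hKH ha⟩ : H) ^ 2 = 1 from Subtype.ext (by
        rw [Subgroup.coe_pow, Subgroup.coe_one, ← ha2]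
        exact pow_orderOf_eq_one _), map_one]
    have h2 : Odd (orderOf (π ⟨ρ, hRH hρ⟩)) :=
      (show Odd (orderOf (⟨ρ, hRH hρ⟩ : H)) by
        rw [Subgroup.orderOf_mk]; exact SEBrick.odd_order (rpow_odd hr.out hr2 hR) hρ).of_dvd_nat
        (orderOf_map_dvd π _)
    rw [← e] at h2
    have h3 : π ⟨w * ρ, hKH ha⟩ = 1 := orderOf_eq_one_iff.1
      (Nat.eq_one_of_dvd_coprimes (Nat.coprime_two_left.2 h2) (orderOf_dvd_of_pow_eq_one h1) dvd_rfl)
    have h4 := SEBrick.odd_order (oc_odd H) (mem_subgroupOf.1 ((QuotientGroup.eq_one_iff _).1 h3))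
    rw [ha2] at h4
    exact absurd h4 (by decide)
  have hcomW : ∀ ρ ∈ R, ρ * i * ρ⁻¹ * i⁻¹ ∈ W := fun ρ hρ => by
    refine M.toHyp.odd_comm_mem hiH (Invol.mul_self hi) (hRH hρ) (SEBrick.odd_order (rpow_odd hr.out hr2 hR) ?_)
    rw [show ρ * i * ρ⁻¹ * i⁻¹ = ρ * (i * ρ⁻¹ * i⁻¹) by group]
    exact mul_mem hρ (SEBrick.conj_mem_of hiR (inv_mem hρ))
  have hiK : i ∈ normalizer (K : Set G) := SEBrick.mem_normalizer_of fun a ha => by
    obtain ⟨w, hw, ρ, hρ, rfl⟩ := (SolvBasic.mem_sup_iff_of_le_normalizer hWn).1 ha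
    rw [show i * (w * ρ) * i⁻¹ = i * w * i⁻¹ * (i * ρ * i⁻¹) by group]
    exact mul_mem (mem_sup_left (SEBrick.conj_mem_of (oc_normal H hiH) hw))
      (mem_sup_right (SEBrick.conj_mem_of hiR hρ))
  haveI hcyc : IsMulCommutative (zpowers i) := inferInstance
  obtain ⟨S₀, hRS, hiS⟩ := CoprimeAct.exists_invariant_sylow_ge (zpowers_le.2 hiK)
    (by rw [Nat.card_zpowers, hi]; exact Nat.coprime_two_left.2 hKodd)
    (Or.inl (Group.isSolvable_of_comm fun a b => mul_comm' a b)) (U := R) le_sup_right hR (zpowers_le.2 hiR)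
  set S := (S₀ : Subgroup K).map K.subtype with hS
  have hsyl : Functors.IsSylowIn r S K := Functors.isSylowIn_map_subtype S₀
  -- the `K`-orbit is the `W`-orbit
  have horb : conjSet K i = conjSet W i := by
    refine Set.Subset.antisymm ?_ (Set.image_mono (SetLike.coe_subset_coe.2 le_sup_left))
    rintro _ ⟨a, ha, rfl⟩
    obtain ⟨w, hw, ρ, hρ, rfl⟩ := (SolvBasic.mem_sup_iff_of_le_normalizer hWn).1 ha
    have hodd : Odd (orderOf (ρ * i * ρ⁻¹ * i)) := by
      have := SEBrick.odd_order (oc_odd H) (hcomW ρ hρ)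
      rwa [Invol.inv_self hi] at this
    obtain ⟨d, hd, hdi⟩ := SEBrick.conj_of_odd' ((Invol.order_conj ρ i).trans hi) hi hodd
    have hdW : d ∈ W := zpowers_le.2 (by have := hcomW ρ hρ; rwa [Invol.inv_self hi] at this) hd
    refine ⟨w * d⁻¹, W.mul_mem hw (W.inv_mem hdW), ?_⟩
    show w * d⁻¹ * i * (w * d⁻¹)⁻¹ = w * ρ * i * (w * ρ)⁻¹
    calc w * d⁻¹ * i * (w * d⁻¹)⁻¹ = w * (d⁻¹ * (d * (ρ * i * ρ⁻¹) * d⁻¹) * d) * w⁻¹ := by rw [hdi]; group
      _ = _ := by group
  -- it divides the number of involutions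
  have hdvd : (conjSet W i).ncard ∣ Nat.card {t : G // orderOf t = 2 ∧ t ∈ H} := by
    rw [← M.toHyp.invol_conjSet hi hiH]
    have hW' := conjSet_card W i
    have hH' := conjSet_card H i
    set W' := W.subgroupOf H
    haveI : W'.Normal := normal_subgroupOf_of_le_normalizer (oc_normal H)
    set C' := C.subgroupOf H with hC'
    have e0 : ∀ A : Subgroup G, A ≤ H → Nat.card (A.subgroupOf H) = Nat.card A := fun A hA =>
      Nat.card_congr (subgroupOfEquivOfLe hA).toEquiv
    have e1 : Nat.card C' = Nat.card ↥(H ⊓ C) := by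
      rw [hC', ← inf_subgroupOf_left]
      exact e0 _ inf_le_left
    have e2 : Nat.card ↥(C' ⊓ W') = Nat.card ↥(W ⊓ C) := by
      rw [inf_comm, hC', show W' ⊓ C.subgroupOf H = (W ⊓ C).subgroupOf H from rfl]
      exact e0 _ (inf_le_left.trans (oc_le H))
    have e3 := SolvBasic.card_sup_mul_card_inf (N := W') (H := C') Subgroup.le_normalizer_of_normal
    have h3 : Nat.card ↥(W' ⊔ C') ∣ Nat.card H := Subgroup.card_subgroup_dvd_card _
    rw [← hH', ← e1] at h3
    rw [inf_comm, e2, e0 W (oc_le H), ← hW'] at e3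
    have h4 : Nat.card ↥(W' ⊔ C') = (conjSet W i).ncard * Nat.card C' := by
      refine Nat.eq_of_mul_eq_mul_right (m := Nat.card ↥(W ⊓ C)) Nat.card_pos ?_
      rw [e3]; ring
    rw [h4] at h3
    exact Nat.dvd_of_mul_dvd_mul_right Nat.card_pos h3
  have hSC := sylow_orbit hKodd hi hiK hsyl (hiS (mem_zpowers i))
  rw [horb] at hSC
  have hn0 : Nat.card {t : G // orderOf t = 2 ∧ t ∈ H} ≠ 0 := by
    haveI : Nonempty {t : G // orderOf t = 2 ∧ t ∈ H} := ⟨⟨i, hi, hiH⟩⟩
    exact Nat.card_pos.ne'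
  have hW0 : (conjSet W i).ncard ≠ 0 := fun h0 => hn0 (by rw [h0] at hdvd; exact Nat.eq_zero_of_zero_dvd hdvd)
  have hpow : r ^ (conjSet W i).ncard.factorization r ≤
      r ^ (Nat.card {t : G // orderOf t = 2 ∧ t ∈ H}).factorization r :=
    Nat.pow_le_pow_right hr.out.pos ((Nat.factorization_le_iff_dvd hW0 hn0).2 hdvd r)
  have hcard : Nat.card S * Nat.card ↥(R ⊓ (S ⊓ C)) ≤ Nat.card R * Nat.card ↥(S ⊓ C) := by
    rw [show R ⊓ (S ⊓ C) = R ⊓ C by rw [← inf_assoc, inf_eq_left.2 hRS], ← hSC]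
    refine le_trans (le_of_eq ?_) (Nat.mul_le_mul_right _ (le_trans (Nat.mul_le_mul_right _ hpow) hbig))
    ring
  intro x hx
  have hPK : coreAt r H ≤ K := (M.coreAt_le_oc r hr.out).trans le_sup_left
  have hxS : x ∈ S := by
    have hle := hsyl.eq_of_le ((coreAt_isPGroup r H).to_sup_of_normal_left' hsyl.isPGroup
      ((hsyl.le.trans hKH).trans (coreAt_normal r H))) le_sup_right (sup_le hPK hsyl.le)
    exact hle.ge (mem_sup_left hx)
  obtain ⟨a, ha, c, hc, rfl⟩ := exists_mul_of_card hRS inf_le_left hcard hxS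
  have hci : c * i = i * c := mem_centralizer_singleton_iff.1 hc.2
  rw [show a * c * i * (a * c)⁻¹ * i⁻¹ = a * (c * i) * c⁻¹ * a⁻¹ * i⁻¹ by group, hci,
    show a * (i * c) * c⁻¹ * a⁻¹ * i⁻¹ = a * (i * a⁻¹ * i⁻¹) by group]
  exact mul_mem ha (SEBrick.conj_mem_of hiR (inv_mem ha))

/-- If the normaliser of `R` has rank one and large `r`-subgroups fix one point only, an involution of `H`
normalises `R`, conjugate there to the given one. -/
theorem exists_invol_of_rankOne {r : ℕ} [hr : Fact r.Prime] (hr2 : r ≠ 2) {R R' : Subgroup G} {u : G}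
    (hu : orderOf u = 2) (huR : u ∈ normalizer (R : Set G))
    (hfour : ¬ ∃ E : Subgroup G, SEBrick.IsFour E ∧ E ≤ normalizer (R : Set G))
    (hR' : R' ≤ H ⊓ normalizer (R : Set G)) (hR'p : IsPGroup r R') (hlt : R < R')
    (hmax : ∀ T : Subgroup G, R' ≤ T → IsPGroup r T → ∀ c : G ⧸ H, c ≠ base H → ¬ T ≤ twoPt H c) :
    ∃ i g : G, orderOf i = 2 ∧ i ∈ H ∧ g ∈ normalizer (R : Set G) ∧ g * u * g⁻¹ = i := by
  classical
  set L := normalizer (R : Set G) with hL
  obtain ⟨Rp, hRp', ⟨hRpH, hRpp⟩, hRpmax⟩ := Finite.exists_le_maximal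
    (p := fun T : Subgroup G => T ≤ H ⊓ L ∧ IsPGroup r T) (a := R') ⟨hR', hR'p⟩
  have hnormH : ∀ x ∈ normalizer (Rp : Set G), x ∈ H := fun x hx => by
    by_contra hxH
    have hc : x • base H ≠ base H := fun e => hxH (mem_stab_base.1 e)
    refine hmax Rp hRp' hRpp _ hc (le_inf (hRpH.trans inf_le_left) fun y hy => ?_)
    have hy' : x⁻¹ * y * x ∈ Rp := (mem_normalizer_iff''.1 hx y).1 hy
    have := conj_stab (g := x) (c := base H) (mem_stab_base.2 (hRpH.trans inf_le_left hy'))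
    show y • (x • base H) = x • base H
    rwa [show x * (x⁻¹ * y * x) * x⁻¹ = y by group] at this
  have hRpL : Functors.IsSylowIn r Rp L := by
    obtain ⟨T, hT, hRT⟩ := Functors.exists_isSylowIn_ge (p := r) hRpp (hRpH.trans inf_le_right)
    rcases eq_or_lt_of_le hRT with e | hlt
    · rwa [e]
    exfalso
    have h1 := Functors.lt_inf_normalizer_of_lt hT.isPGroup hlt
    obtain ⟨x, hx, hxR⟩ := SetLike.exists_of_lt h1
    refine hxR (hRpmax (y := T ⊓ normalizer (Rp : Set G)) ⟨le_inf (fun y hy => hnormH y hy.2)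
      (inf_le_left.trans hT.le), hT.isPGroup.to_le inf_le_left⟩ h1.le hx)
  have hrank : BrauerSuzuki.RankOne L := by
    intro a a' ha ha' hcomm
    by_contra hne
    refine hfour ⟨closure {(a : G), (a' : G)}, ⟨⟨?_, ?_⟩, ?_⟩, (closure_le _).2 (by
      rintro x (rfl | rfl)
      · exact a.2
      · exact a'.2)⟩
    · exact isMulCommutative_closure (by
        rintro x (rfl | rfl) y (rfl | rfl)
        · rfl
        · exact congrArg Subtype.val hcomm.eq
        · exact congrArg Subtype.val hcomm.symm.eq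
        · rfl)
    · haveI : IsMulCommutative (closure ({(a : G), (a' : G)} : Set G)) := isMulCommutative_closure (by
        rintro x (rfl | rfl) y (rfl | rfl)
        · rfl
        · exact congrArg Subtype.val hcomm.eq
        · exact congrArg Subtype.val hcomm.symm.eq
        · rfl)
      intro x hx
      refine closure_induction (p := fun x _ => x ^ 2 = 1) ?_ (one_pow 2) ?_ ?_ hx
      · rintro y (rfl | rfl)
        · rw [pow_two]; exact congrArg Subtype.val (Invol.mul_self ha)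
        · rw [pow_two]; exact congrArg Subtype.val (Invol.mul_self ha')
      · intro y z hy hz ey ez
        rw [(show Commute y z from setLike_mul_comm hy hz).mul_pow, ey, ez, one_mul]
      · intro y _ ey
        rw [inv_pow, ey, inv_one]
    · have hinj : Function.Injective (fun z : ({1, a, a', a * a'} : Finset L) =>
          (⟨((z : L) : G), by
            have hz := z.2
            simp only [Finset.mem_insert, Finset.mem_singleton] at hz
            rcases hz with h | h | h | h <;> rw [h]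
            · exact one_mem _
            · exact subset_closure (Or.inl rfl)
            · exact subset_closure (Or.inr rfl)
            · exact mul_mem (subset_closure (Or.inl rfl)) (subset_closure (Or.inr rfl))⟩ :
          closure ({(a : G), (a' : G)} : Set G))) := fun z z' h =>
        Subtype.ext (Subtype.ext (congrArg (fun q : closure ({(a : G), (a' : G)} : Set G) => (q : G)) h))
      refine le_trans ?_ (Nat.card_le_card_of_injective _ hinj)
      rw [Nat.card_eq_finsetCard]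
      have a1 : a ≠ 1 := fun e => by rw [e, orderOf_one] at ha; omega
      have a1' : a' ≠ 1 := fun e => by rw [e, orderOf_one] at ha'; omega
      have h4 : a * a' ≠ 1 := fun e => hne (by rw [eq_inv_of_mul_eq_one_left e, Invol.inv_self ha'])
      rw [Finset.card_insert_of_notMem (by simp [a1.symm, a1'.symm, h4.symm]),
        Finset.card_insert_of_notMem (by simp [hne, a1']),
        Finset.card_insert_of_notMem (by simp [a1]), Finset.card_singleton]
  have hz := BrauerSuzuki.inZStar L hrank ⟨u, huR⟩ (by rwa [Subgroup.orderOf_mk])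
  set K := oc L with hK
  have hKu : ∀ g ∈ L, g * u * g⁻¹ * u⁻¹ ∈ K := fun g hg => ⟨_, hz ⟨g, hg⟩, rfl⟩
  set A := K ⊔ Rp with hA
  have hRpn : Rp ≤ normalizer (K : Set G) := (hRpH.trans inf_le_right).trans (oc_normal L)
  have hAodd : Odd (Nat.card A) := by
    have h1 := SolvBasic.card_sup_mul_card_inf (N := K) (H := Rp) hRpn
    exact Odd.of_dvd_nat ((oc_odd L).mul (rpow_odd hr.out hr2 hRpp)) ⟨_, h1.symm⟩
  have huA : u ∈ normalizer (A : Set G) := SEBrick.mem_normalizer_of fun x hx => by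
    obtain ⟨k, hk, ρ, hρ, rfl⟩ := (SolvBasic.mem_sup_iff_of_le_normalizer hRpn).1 hx
    have hρL : ρ ∈ L := hRpH.trans inf_le_right hρ
    rw [show u * (k * ρ) * u⁻¹ = u * k * u⁻¹ * (ρ * u * ρ⁻¹ * u⁻¹)⁻¹ * ρ by group]
    exact mul_mem (mul_mem (mem_sup_left (SEBrick.conj_mem_of (oc_normal L huR) hk))
      (inv_mem (mem_sup_left (hKu ρ hρL)))) (mem_sup_right hρ)
  have hRpA : Functors.IsSylowIn r Rp A :=
    hRpL.of_le le_sup_right (sup_le (oc_le L) (hRpH.trans inf_le_right))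
  obtain ⟨S₀, hS₀⟩ := CoprimeAct.exists_invariant_sylow (zpowers_le.2 huA)
    (by rw [Nat.card_zpowers, hu]; exact Nat.coprime_two_left.2 hAodd)
    (Or.inl (Group.isSolvable_of_comm fun a b => mul_comm' a b)) r
  obtain ⟨m, hm, hmS⟩ := Functors.exists_conj_eq_of_isSylowIn hRpA (Functors.isSylowIn_map_subtype S₀)
  have hmL : m ∈ L := sup_le (oc_le L) (hRpH.trans inf_le_right) hm
  refine ⟨m * u * m⁻¹, m, by rw [Invol.order_conj, hu], hnormH _ (SEBrick.mem_normalizer_of fun x hx => ?_), hmL, rfl⟩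
  rw [← hmS] at hx ⊢
  obtain ⟨y, hy, rfl⟩ := hx
  refine ⟨u * y * u⁻¹, SEBrick.conj_mem_of (hS₀ (mem_zpowers u)) hy, ?_⟩
  show m * (u * y * u⁻¹) * m⁻¹ = m * u * m⁻¹ * (m * y * m⁻¹) * (m * u * m⁻¹)⁻¹
  group

/-- The common end of both cases. -/
theorem false_of_key {r : ℕ} [hr : Fact r.Prime] (hr2 : r ≠ 2)
    (hmov : ∀ t ∈ H, orderOf t = 2 → ∃ x ∈ coreAt r H, t * x ≠ x * t) (hkey : Key H r) : False := by
  classical
  haveI : Finite (G ⧸ H) := inferInstance
  obtain ⟨g₀, hg₀⟩ : ∃ g : G, g ∉ H := by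
    by_contra hc
    push Not at hc
    exact M.se.1 ((eq_top_iff' H).2 hc)
  obtain ⟨b, hb, hbmax⟩ := Set.exists_max_image {b : G ⧸ H | b ≠ base H}
    (fun b => (Nat.card (twoPt H b)).factorization r) (Set.toFinite _)
    ⟨(g₀ : G ⧸ H), fun e => hg₀ (mk_eq_base.1 e)⟩
  replace hb : b ≠ base H := hb
  obtain ⟨u, hu, hu1, hu2⟩ := exists_swapper M.se hb.symm
  have huD := swapper_normalizes hu1 hu2
  have hDodd := twoPt_odd M.se hb
  obtain ⟨R₀, hR₀⟩ := CoprimeAct.exists_invariant_sylow (zpowers_le.2 huD)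
    (by rw [Nat.card_zpowers, hu]; exact Nat.coprime_two_left.2 hDodd)
    (Or.inl (Group.isSolvable_of_comm fun a b => mul_comm' a b)) r
  set R := (R₀ : Subgroup (twoPt H b)).map (twoPt H b).subtype with hR
  have hRsyl : Functors.IsSylowIn r R (twoPt H b) := Functors.isSylowIn_map_subtype R₀
  have hRcard : Nat.card R = r ^ (Nat.card (twoPt H b)).factorization r := by
    rw [hR, card_map_of_injective (Subgroup.subtype_injective _), R₀.card_eq_multiplicity]
  have hRmax : ∀ c : G ⧸ H, c ≠ base H → ∀ T : Subgroup G, T ≤ twoPt H c → IsPGroup r T →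
      Nat.card T ≤ Nat.card R := fun c hc T hT hTp => by
    obtain ⟨n, hn⟩ := IsPGroup.iff_card.1 hTp
    rw [hn, hRcard]
    refine Nat.pow_le_pow_right hr.out.pos (le_trans ?_ (hbmax c hc))
    exact (hr.out.pow_dvd_iff_le_factorization Nat.card_pos.ne').1 (hn ▸ card_dvd_of_le hT)
  have hRH : R ≤ H := hRsyl.le.trans inf_le_left
  have hRb : R ≤ stabilizer G b := hRsyl.le.trans inf_le_right
  have hRp : IsPGroup r R := hRsyl.isPGroup
  have huR : u ∈ normalizer (R : Set G) := hR₀ (mem_zpowers u)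
  have hbigu := sylow_orbit hDodd hu huD hRsyl huR
  rw [swap_conjSet M.se hb hu hu1] at hbigu
  -- an involution of `H` normalising `R` as `u` does
  suffices hsuff : ∃ i g : G, orderOf i = 2 ∧ i ∈ H ∧ g ∈ normalizer (R : Set G) ∧ g * u * g⁻¹ = i by
    obtain ⟨i, g, hi, hiH, hg, hgi⟩ := hsuff
    have hiR : i ∈ normalizer (R : Set G) := hgi ▸ mul_mem (mul_mem hg huR) (inv_mem hg)
    have hcardC : Nat.card ↥(R ⊓ centralizer ({i} : Set G)) = Nat.card ↥(R ⊓ centralizer ({u} : Set G)) := by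
      refine Nat.card_congr (Equiv.subtypeEquiv (MulAut.conj g).symm.toEquiv fun x => ?_)
      show x ∈ R ⊓ centralizer ({i} : Set G) ↔ g⁻¹ * x * g ∈ R ⊓ centralizer ({u} : Set G)
      rw [mem_inf, mem_inf, mem_centralizer_singleton_iff, mem_centralizer_singleton_iff,
        ← mem_normalizer_iff''.1 hg x, ← hgi]
      refine and_congr_right fun _ => ⟨fun h => ?_, fun h => ?_⟩
      · calc g⁻¹ * x * g * u = g⁻¹ * (x * (g * u * g⁻¹)) * g := by group
          _ = g⁻¹ * (g * u * g⁻¹ * x) * g := by rw [h]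
          _ = _ := by group
      · calc x * (g * u * g⁻¹) = g * (g⁻¹ * x * g * u) * g⁻¹ := by group
          _ = g * (u * (g⁻¹ * x * g)) * g⁻¹ := by rw [h]
          _ = _ := by group
    have hcomm := M.commutator_mem hr2 hRp hRH hi hiH hiR (by rw [hcardC, hbigu])
    set gens : Set G := {y | ∃ x ∈ coreAt r H, ∃ t ∈ H, orderOf t = 2 ∧ x * t * x⁻¹ * t⁻¹ = y} with hgens
    have hXP : closure gens ≤ coreAt r H := (closure_le _).2 (by
      rintro _ ⟨x, hx, t, ht, -, rfl⟩
      rw [show x * t * x⁻¹ * t⁻¹ = x * (t * x⁻¹ * t⁻¹) by group]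
      exact mul_mem hx (SEBrick.conj_mem_of (coreAt_normal r H ht) (inv_mem hx)))
    have hXn : H ≤ normalizer (closure gens : Set G) := SEBrick.le_normalizer_of fun a ha y hy =>
      (show (closure gens).map (MulAut.conj a).toMonoidHom ≤ closure gens by
        rw [MonoidHom.map_closure, closure_le]
        rintro _ ⟨_, ⟨x, hx, t, ht, ht2, rfl⟩, rfl⟩
        refine subset_closure ⟨a * x * a⁻¹, SEBrick.conj_mem_of (coreAt_normal r H ha) hx, a * t * a⁻¹,
          H.mul_mem (H.mul_mem ha ht) (H.inv_mem ha), by rw [Invol.order_conj, ht2], ?_⟩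
        show a * x * a⁻¹ * (a * t * a⁻¹) * (a * x * a⁻¹)⁻¹ * (a * t * a⁻¹)⁻¹ = a * (x * t * x⁻¹ * t⁻¹) * a⁻¹
        group) ⟨y, hy, rfl⟩
    refine hkey _ ⟨hXP, hXn, fun t ht ht2 => ?_⟩ b hb ((closure_le _).2 ?_)
    · by_contra! hc
      obtain ⟨x, hx, hne⟩ := hmov t ht ht2
      have hd : x * t * x⁻¹ * t⁻¹ ∈ closure gens := subset_closure ⟨x, hx, t, ht, ht2, rfl⟩
      have hco : (orderOf (x * t * x⁻¹ * t⁻¹)).Coprime 2 :=
        Nat.coprime_two_right.2 (SEBrick.odd_order (rpow_odd hr.out hr2 (coreAt_isPGroup r H)) (hXP hd))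
      have h1 := AxB.fixed_of_conj_eq_mul (q := x⁻¹) (x := t) (d := x * t * x⁻¹ * t⁻¹) (n := 2)
        (hc _ hd) (by group)
        (by rw [pow_two, Invol.mul_self ht2]) hco
      exact hne (mul_inv_eq_iff_eq_mul.1 (mul_inv_eq_one.1 h1)).symm
    · rintro _ ⟨x, hx, t, ht, ht2, rfl⟩
      obtain ⟨d, hd, rfl⟩ := twoPt_trans M.se hb hi hiH ht2 ht
      have hx' : d⁻¹ * x * d ∈ coreAt r H := (mem_normalizer_iff''.1 (coreAt_normal r H hd.1) x).1 hx
      rw [SetLike.mem_coe, show x * (d * i * d⁻¹) * x⁻¹ * (d * i * d⁻¹)⁻¹ =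
        d * (d⁻¹ * x * d * i * (d⁻¹ * x * d)⁻¹ * i⁻¹) * d⁻¹ by group]
      exact mul_mem (mul_mem hd.2 (hRb (hcomm _ hx'))) (inv_mem hd.2)
  by_cases hR1 : R = ⊥
  · -- then any involution serves
    obtain ⟨i, hiH, hi⟩ := Invol.exists_invol M.se.2.1
    obtain ⟨g, hg⟩ := isConj_iff.1 (Invol.se_isConj M.se hu hi)
    exact ⟨i, g, hi, hiH, by rw [hR1]; exact SEBrick.mem_normalizer_of (fun x hx => by simp [mem_bot.1 hx]), hg⟩
  set L := normalizer (R : Set G) with hL
  have huH : u ∉ H := fun h => hb (by rw [← hu1]; exact mem_stab_base.2 h)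
  by_cases hfour : ∃ E : Subgroup G, SEBrick.IsFour E ∧ E ≤ L
  · exfalso
    obtain ⟨E, hE, hEL⟩ := hfour
    obtain ⟨c, hEc⟩ := exists_fix_four M.se hE
    have hRc : R ≤ stabilizer G c := odd_fix_of_four M.se (rpow_odd hr.out hr2 hRp) hE hEc hEL
    have hLc : L ≤ stabilizer G c := M.norm_le_stab hr2 hkey hmov hRc hRp hR1 hE hEc hEL
    have hca : c ≠ base H := fun e => huH (mem_stab_base.1 (e ▸ hLc huR))
    have hRD : R ≤ twoPt H c := le_inf hRH hRc
    obtain ⟨v, hv, hv1, hv2⟩ := exists_swapper M.se hca.symm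
    have hsyl : Functors.IsSylowIn r R (twoPt H c) := by
      obtain ⟨T, hT, hRT⟩ := Functors.exists_isSylowIn_ge (p := r) hRp hRD
      rwa [Subgroup.eq_of_le_of_card_ge hRT (hRmax c hca T hT.le hT.isPGroup)]
    obtain ⟨d, hd, hdv⟩ := frattini_elem hsyl (swapper_normalizes hv1 hv2)
    have h1 : (d * v) • c = c := hLc hdv
    rw [mul_smul, hv2, mem_stab_base.2 hd.1] at h1
    exact hca h1.symm
  -- rank one
  have hPR : ¬ coreAt r H ≤ R := fun hle => hkey _ (M.core_moved hmov) b hb (hle.trans hRb)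
  have hRlt : R < H ⊓ L ⊓ (coreAt r H ⊔ R) := by
    have hlt : R < coreAt r H ⊔ R := lt_of_le_of_ne le_sup_right fun e => hPR (e ▸ le_sup_left)
    have h1 := Functors.lt_inf_normalizer_of_lt
      ((coreAt_isPGroup r H).to_sup_of_normal_left' hRp (hRH.trans (coreAt_normal r H))) hlt
    refine lt_of_lt_of_le h1 (le_inf (le_inf (inf_le_left.trans (sup_le (coreAt_le r H) hRH)) inf_le_right) inf_le_left)
  exact M.exists_invol_of_rankOne hr2 hu huR hfour (inf_le_left.trans le_rfl)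
    (((coreAt_isPGroup r H).to_sup_of_normal_left' hRp (hRH.trans (coreAt_normal r H))).to_le inf_le_right)
    hRlt fun T hT hTp c hc hTc => absurd (hRmax c hc T hTc hTp)
      (not_le.2 (Set.ncard_lt_ncard (SetLike.coe_ssubset_coe.2 (lt_of_lt_of_le hRlt hT)) (Set.toFinite _)))

end Min

end Cfsg.Agent.SESolv
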