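import Cfsg.Agent.Lib.SESolv.Block

/-!
With two primes in the Fitting subgroup a moved normal subgroup fixes one point only.
-/

set_option autoImplicit false
set_option linter.style.haveILetI false
set_option linter.unusedSectionVars false

namespace Cfsg.Agent.SESolv

open Cfsg Subgroup MulAction

universe u

variable {G : Type u} [Group G] [Finite G] {H : Subgroup G}

theorem conj_le_normalizer {K N X : Subgroup G} (u : G) (hK : K ≤ N.map (MulAut.conj u).toMonoidHom)
    (hN : N ≤ normalizer (X : Set G)) : K ≤ normalizer ((X.map (MulAut.conj u).toMonoidHom : Subgroup G) : Set G) := by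
  refine SEBrick.le_normalizer_of fun k hk x hx => ?_
  obtain ⟨n, hn, rfl⟩ := hK hk
  obtain ⟨y, hy, rfl⟩ := hx
  exact ⟨n * y * n⁻¹, SEBrick.conj_mem_of (hN hn) hy, by simp [mul_assoc]⟩

/-- The normaliser of a conjugate of a normal subgroup of `H` in its odd core. -/
theorem Min.norm_conj (M : Min H) {X : Subgroup G} (hX : X ≤ oc H) (hX1 : X ≠ ⊥) (hn : H ≤ normalizer (X : Set G))
    {u : G} {b : G ⧸ H} (hu : u • base H = b) :
    normalizer ((X.map (MulAut.conj u).toMonoidHom : Subgroup G) : Set G) = stabilizer G b := by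
  rw [stab_smul hu, stab_base]
  refine le_antisymm (fun g hg => ⟨u⁻¹ * g * u, ?_, by simp [mul_assoc]⟩) (conj_le_normalizer u le_rfl hn)
  rw [← M.norm hX hX1 hn]
  refine SEBrick.mem_normalizer_of fun x hx => ?_
  obtain ⟨y, hy, e⟩ := SEBrick.conj_mem_of hg (mem_map_of_mem (MulAut.conj u).toMonoidHom hx)
  have e' : u * y * u⁻¹ = g * (u * x * u⁻¹) * g⁻¹ := e
  have e2 : u⁻¹ * g * u * x * (u⁻¹ * g * u)⁻¹ = y := by
    calc u⁻¹ * g * u * x * (u⁻¹ * g * u)⁻¹ = u⁻¹ * (g * (u * x * u⁻¹) * g⁻¹) * u := by group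
      _ = u⁻¹ * (u * y * u⁻¹) * u := by rw [e']
      _ = y := by group
  rw [e2]
  exact hy

theorem mem_twoPt {b : G ⧸ H} {x : G} : x ∈ twoPt H b ↔ x ∈ H ∧ x • b = b := Iff.rfl

theorem map_conj_self {K : Subgroup G} {u : G} (hu : u ∈ normalizer (K : Set G)) :
    K.map (MulAut.conj u).toMonoidHom = K :=
  AxB.map_conj_eq_of_mem_normalizer hu

/-- The two-point stabiliser is not the whole stabiliser. -/
theorem not_le_stab (h : Cfsg.IsStronglyEmbedded H) {b : G ⧸ H} (hb : b ≠ base H) : ¬ H ≤ stabilizer G b := fun hle => by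
  obtain ⟨t, htH, ht⟩ := Invol.exists_invol h.2.1
  exact hb (Invol.se_fix_unique h ht (hle htH) (mem_stab_base.2 htH))

/-- A subgroup of `H` normal in the stabiliser of `b` lies in the two-point stabiliser with its image. -/
theorem image_le_twoPt {X : Subgroup G} {u : G} {b : G ⧸ H} (hu : u • base H = b) (hu' : u • b = base H)
    (hX : X ≤ twoPt H b) : X.map (MulAut.conj u).toMonoidHom ≤ twoPt H b :=
  (map_mono hX).trans (map_conj_self (swapper_normalizes hu hu')).le

namespace Min

variable (M : Min H)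
include M

/-- The moved subgroup fixes no second point. -/
theorem key_multi (h2 : 2 ≤ (fitPrimes H).card) {r : ℕ} [hr : Fact r.Prime] (hr2 : r ≠ 2) {X : Subgroup G}
    (hX : Moved H r X) {b : G ⧸ H} (hb : b ≠ base H) : ¬ X ≤ stabilizer G b := by
  intro hXb
  haveI := M.solv
  obtain ⟨B, hBX, hBc, hBnc, hBgood⟩ := M.exists_block h2 hr2 hX
  obtain ⟨u, huo, hu1, hu2⟩ := exists_swapper M.se hb.symm
  set c := (MulAut.conj u).toMonoidHom with hc
  have hcinj : Function.Injective c := (MulAut.conj u).injective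
  have hXH : X ≤ H := hX.le.trans (coreAt_le r H)
  have hXD : X ≤ twoPt H b := le_inf hXH hXb
  have hX'D : X.map c ≤ twoPt H b := image_le_twoPt hu1 hu2 hXD
  have hX1 : X ≠ ⊥ := fun e => by
    obtain ⟨t, htH, ht⟩ := Invol.exists_invol M.se.2.1
    obtain ⟨x, hx, hne⟩ := hX.moves t htH ht
    rw [e, mem_bot] at hx
    exact hne (by rw [hx, mul_one, one_mul])
  have hXW : X ≤ oc H := hX.le.trans (M.coreAt_le_oc r hr.out)
  have hstabX : normalizer ((X.map c : Subgroup G) : Set G) = stabilizer G b := M.norm_conj hXW hX1 hX.norm hu1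
  -- the cores of other primes fix `b`
  have hB' : ∀ y ∈ B.map c, y ≠ 1 → centralizer ({y} : Set G) ≤ stabilizer G b := by
    rintro _ ⟨y, hy, rfl⟩ hy1 g hg
    rw [stab_smul hu1, stab_base]
    refine ⟨u⁻¹ * g * u, hBgood y hy (fun e => hy1 (by rw [e, map_one])) ?_, by simp [hc, mul_assoc]⟩
    have hg' : g * (u * y * u⁻¹) = u * y * u⁻¹ * g := mem_centralizer_singleton_iff.1 hg
    rw [mem_centralizer_singleton_iff]
    calc u⁻¹ * g * u * y = u⁻¹ * (g * (u * y * u⁻¹)) * u := by group
      _ = u⁻¹ * (u * y * u⁻¹ * g) * u := by rw [hg']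
      _ = _ := by group
  have hFb : ∀ q : ℕ, q.Prime → q ≠ r → coreAt q H ≤ twoPt H b := by
    intro q hq hqr
    haveI := Fact.mk hq
    refine le_inf (coreAt_le q H) ?_
    haveI := hBc
    haveI : IsMulCommutative (B.map c) := .of_setLike_mul_comm (by
      rintro _ ⟨x, hx, rfl⟩ _ ⟨y, hy, rfl⟩
      rw [← map_mul, ← map_mul, setLike_mul_comm hx hy])
    have hnc : ¬ IsCyclic (B.map c) := fun h => hBnc ((B.equivMapOfInjective c hcinj).isCyclic.2 h)
    have hBcH : B.map c ≤ H := ((map_mono hBX).trans hX'D).trans inf_le_left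
    have hcop : (Nat.card (B.map c)).Coprime (Nat.card (coreAt q H)) := by
      obtain ⟨n, hn⟩ := IsPGroup.iff_card.1 (((coreAt_isPGroup r H).to_le (hBX.trans hX.le)).map c)
      obtain ⟨m, hm⟩ := IsPGroup.iff_card.1 (coreAt_isPGroup q H)
      rw [hn, hm]
      exact Nat.Coprime.pow _ _ ((Nat.coprime_primes hr.out hq).2 hqr.symm)
    rw [← CoprimeAct.generated_by_centralizers hnc (hBcH.trans (coreAt_normal q H)) hcop]
    exact iSup₂_le fun y hy => inf_le_right.trans (hB' y hy.1 hy.2)
  have hFD : ∀ q : ℕ, q.Prime → q ≠ r → (coreAt q H).map c ≤ twoPt H b := fun q hq hqr =>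
    image_le_twoPt hu1 hu2 (hFb q hq hqr)
  have hnormF : ∀ q : ℕ, q.Prime → coreAt q H ≠ ⊥ →
      normalizer (((coreAt q H).map c : Subgroup G) : Set G) = stabilizer G b := fun q hq hne =>
    M.norm_conj (M.coreAt_le_oc q hq) hne (coreAt_normal q H) hu1
  -- another prime
  obtain ⟨q, hq, hqr⟩ : ∃ q ∈ fitPrimes H, q ≠ r := by
    by_contra! hc'
    have := Finset.card_le_card (t := {r}) (fun x hx => Finset.mem_singleton.2 (hc' x hx))
    rw [Finset.card_singleton] at this
    omega
  obtain ⟨hqp, hq1⟩ := mem_fitPrimes.1 hq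
  haveI := Fact.mk hqp
  have hcomm : ∀ y ∈ (coreAt q H).map c, ∀ x ∈ coreAt r H, y * x = x * y := by
    refine commute_core_of_normal (R := X.map c) (hX'D.trans inf_le_left)
      (((coreAt_isPGroup r H).to_le hX.le).map c) ((hFD q hqp hqr).trans inf_le_left)
      (((hFD q hqp hqr).trans inf_le_right).trans hstabX.ge) ?_ ?_
    · obtain ⟨m, hm⟩ := IsPGroup.iff_card.1 (coreAt_isPGroup q H)
      rw [card_map_of_injective hcinj, hm]
      exact ((Nat.coprime_primes hqp hr.out).2 hqr).pow_left m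
    · rw [hstabX, ← hnormF q hqp hq1]
      exact inf_le_right
  have hPb : coreAt r H ≤ stabilizer G b := by
    rw [← hnormF q hqp hq1]
    refine le_trans ?_ (centralizer_le_normalizer _)
    intro x hx
    exact mem_centralizer_iff.2 fun y hy => hcomm y hy x hx
  have hallD : ∀ p : ℕ, p.Prime → (coreAt p H).map c ≤ twoPt H b := fun p hp => by
    by_cases hpr : p = r
    · subst hpr; exact image_le_twoPt hu1 hu2 (le_inf (coreAt_le p H) hPb)
    · exact hFD p hp hpr
  have hle := family_le_coreAt (π := fitPrimes H) (fun p hp => (mem_fitPrimes.1 hp).1) h2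
    (fun p hp hpπ => by_contra fun hne => hpπ (mem_fitPrimes.2 ⟨hp, hne⟩))
    (Y := fun p => (coreAt p H).map c) (J := twoPt H b)
    (fun p hp => (hallD p (mem_fitPrimes.1 hp).1).trans inf_le_left) (fun p _ => (coreAt_isPGroup p H).map c)
    (fun p hp => by rw [hnormF p (mem_fitPrimes.1 hp).1 (mem_fitPrimes.1 hp).2]; rfl) q hq
  have heq : (coreAt q H).map c = coreAt q H :=
    Subgroup.eq_of_le_of_card_ge hle (by rw [card_map_of_injective hcinj])
  refine not_le_stab M.se hb ?_
  rw [← hnormF q hqp hq1, heq]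
  exact coreAt_normal q H

end Min

end Cfsg.Agent.SESolv
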