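import Cfsg.Agent.Lib.SESolv.OmegaLocal

/-!
The key lemma, one prime only.
-/

set_option autoImplicit false
set_option linter.style.haveILetI false
set_option linter.unusedSectionVars false

namespace Cfsg.Agent.SESolv

open Cfsg Subgroup MulAction

universe u

variable {G : Type u} [Group G] [Finite G] {H : Subgroup G}

namespace Min

variable (M : Min H)
include M

/-- A two-point stabiliser with a moved subgroup has no core at another prime. -/
theorem twoPt_core_eq_bot {r : ℕ} [hr : Fact r.Prime] (hF : ∀ q : ℕ, q.Prime → q ≠ r → coreAt q H = ⊥)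
    {X : Subgroup G} (hX : Moved H r X) (hX1 : X ≠ ⊥) {b : G ⧸ H} (hb : b ≠ base H) (hXb : X ≤ stabilizer G b)
    {q : ℕ} (hq : q.Prime) (hqr : q ≠ r) : coreAt q (twoPt H b) = ⊥ := by
  haveI := Fact.mk hq
  haveI := M.solv
  obtain ⟨u, -, hu1, hu2⟩ := exists_swapper M.se hb.symm
  set c := (MulAut.conj u).toMonoidHom with hc
  have hX'D : X.map c ≤ twoPt H b :=
    image_le_twoPt hu1 hu2 (le_inf (hX.le.trans (coreAt_le r H)) hXb)
  have hstab : normalizer ((X.map c : Subgroup G) : Set G) = stabilizer G b :=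
    M.norm_conj (hX.le.trans (M.coreAt_le_oc r hr.out)) hX1 hX.norm hu1
  set Y := coreAt q (twoPt H b) with hY
  obtain ⟨m, hm⟩ := IsPGroup.iff_card.1 (coreAt_isPGroup q (twoPt H b))
  have hcop : (Nat.card Y).Coprime r := by
    rw [hY, hm]; exact ((Nat.coprime_primes hq hr.out).2 hqr).pow_left m
  have hcomm := commute_core_of_normal (R := X.map c) (hX'D.trans inf_le_left)
    (((coreAt_isPGroup r H).to_le hX.le).map c) ((coreAt_le q _).trans inf_le_left)
    (((coreAt_le q _).trans inf_le_right).trans hstab.ge) hcop (by rw [hstab]; exact coreAt_normal q _)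
  refine (eq_bot_iff_forall _).2 fun y hy => ?_
  have hyH : y ∈ H := ((coreAt_le q _).trans inf_le_left) hy
  have h1 : (⟨y, hyH⟩ : H) ∈ Cfsg.pCore r H := centralizer_core_le hF (mem_centralizer_iff.2
    fun x hx => Subtype.ext (hcomm y hy x (mem_map_of_mem H.subtype hx)).symm)
  exact PBasic.eq_one_of_isPGroup_of_coprime (coreAt_isPGroup r H) (mem_map_of_mem H.subtype h1)
    (hcop.coprime_dvd_left (Subgroup.orderOf_dvd_natCard Y hy))

/-- With one prime, a moved subgroup fixes no second point. -/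
theorem key_one {r : ℕ} [hr : Fact r.Prime] (hr2 : r ≠ 2)
    (hF : ∀ q : ℕ, q.Prime → q ≠ r → coreAt q H = ⊥) : Key H r := by
  intro X hX b₀ hb₀ hXb₀
  classical
  haveI : Finite (G ⧸ H) := inferInstance
  haveI := M.solv
  obtain ⟨t₀, ht₀H, ht₀⟩ := Invol.exists_invol M.se.2.1
  have hX1 : X ≠ ⊥ := fun e => by
    obtain ⟨x, hx, hne⟩ := hX.moves t₀ ht₀H ht₀
    rw [e, mem_bot] at hx
    exact hne (by rw [hx, mul_one, one_mul])
  have hXH : X ≤ H := hX.le.trans (coreAt_le r H)
  have hXp : IsPGroup r X := (coreAt_isPGroup r H).to_le hX.le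
  obtain ⟨b, ⟨hb, hXb⟩, hbmax⟩ := Set.exists_max_image {b : G ⧸ H | b ≠ base H ∧ X ≤ stabilizer G b}
    (fun b => (Nat.card (twoPt H b)).factorization r) (Set.toFinite _) ⟨b₀, hb₀, hXb₀⟩
  obtain ⟨u, hu, hu1, hu2⟩ := exists_swapper M.se hb.symm
  have huH : u ∉ H := fun h => hb (by rw [← hu1]; exact mem_stab_base.2 h)
  set D := twoPt H b with hD
  have huD : u ∈ normalizer (D : Set G) := swapper_normalizes hu1 hu2
  have hDodd : Odd (Nat.card D) := twoPt_odd M.se hb
  obtain ⟨R₀, hR₀⟩ := CoprimeAct.exists_invariant_sylow (zpowers_le.2 huD)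
    (by rw [Nat.card_zpowers, hu]; exact Nat.coprime_two_left.2 hDodd)
    (Or.inl (Group.isSolvable_of_comm fun a b => mul_comm' a b)) r
  set R := (R₀ : Subgroup D).map D.subtype with hR
  have hRsyl : Functors.IsSylowIn r R D := Functors.isSylowIn_map_subtype R₀
  have hRcard : Nat.card R = r ^ (Nat.card D).factorization r := by
    rw [hR, card_map_of_injective (Subgroup.subtype_injective _), R₀.card_eq_multiplicity]
  have hRH : R ≤ H := hRsyl.le.trans inf_le_left
  have hRp : IsPGroup r R := hRsyl.isPGroup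
  have huR : u ∈ normalizer (R : Set G) := hR₀ (mem_zpowers u)
  have hXR : X ≤ R := by
    have h1 := hRsyl.eq_of_le (hXp.to_sup_of_normal_left' hRp (hRH.trans hX.norm)) le_sup_right
      (sup_le (le_inf hXH hXb) hRsyl.le)
    exact le_sup_left.trans h1.ge
  have hR1 : R ≠ ⊥ := fun e => hX1 (le_bot_iff.1 (e ▸ hXR))
  have hRmax : ∀ c : G ⧸ H, c ≠ base H → ∀ T : Subgroup G, R ≤ T → T ≤ twoPt H c → IsPGroup r T →
      Nat.card T ≤ Nat.card R := fun c hc T hRT hT hTp => by
    obtain ⟨n, hn⟩ := IsPGroup.iff_card.1 hTp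
    rw [hn, hRcard]
    refine Nat.pow_le_pow_right hr.out.pos (le_trans ?_ (hbmax c ⟨hc, (hXR.trans hRT).trans (hT.trans inf_le_right)⟩))
    exact (hr.out.pow_dvd_iff_le_factorization Nat.card_pos.ne').1 (hn ▸ card_dvd_of_le hT)
  -- `R` is no Sylow subgroup of `H`
  obtain ⟨T, hT, hRT⟩ := Functors.exists_isSylowIn_ge (p := r) hRp hRH
  have hlt : R < T := lt_of_le_of_ne hRT fun e =>
    huH (M.norm_le_of_sylow hr2 hF le_rfl le_normalizer (e ▸ hT) hR1 huR)
  have hlt' := Functors.lt_inf_normalizer_of_lt hT.isPGroup hlt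
  set L := normalizer (R : Set G) with hL
  obtain ⟨i, hi, hiH, hiR⟩ : ∃ i : G, orderOf i = 2 ∧ i ∈ H ∧ i ∈ L := by
    by_cases hfour : ∃ E : Subgroup G, SEBrick.IsFour E ∧ E ≤ L
    · obtain ⟨E, hE, hEL⟩ := hfour
      obtain ⟨e, he, he1⟩ := IsFour.exists_ne hE
      obtain ⟨c, hEc⟩ := exists_fix_four M.se hE
      by_cases hca : c = base H
      · exact ⟨e, hE.order he he1, mem_stab_base.1 (hca ▸ hEc he), hEL he⟩
      have hRc : R ≤ stabilizer G c := odd_fix_of_four M.se (rpow_odd hr.out hr2 hRp) hE hEc hEL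
      have hsyl : Functors.IsSylowIn r R (twoPt H c) := by
        obtain ⟨T', hT', hRT'⟩ := Functors.exists_isSylowIn_ge (p := r) hRp (le_inf hRH hRc)
        rwa [Subgroup.eq_of_le_of_card_ge hRT' (hRmax c hca T' hRT' hT'.le hT'.isPGroup)]
      obtain ⟨v, -, hv1, hv2⟩ := exists_swapper M.se (Ne.symm hca)
      obtain ⟨d, hd, hdv⟩ := frattini_elem hsyl (swapper_normalizes hv1 hv2)
      refine ⟨d * v * e * (d * v)⁻¹, by rw [Invol.order_conj, hE.order he he1], mem_stab_base.1 ?_,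
        mul_mem (mul_mem hdv (hEL he)) (inv_mem hdv)⟩
      have h1 := conj_stab (g := d * v) (c := c) (hEc he)
      rwa [mul_smul d v, hv2, mem_stab_base.2 hd.1] at h1
    · obtain ⟨i, g, hi, hiH, hg, hgi⟩ := M.exists_invol_of_rankOne hr2 hu huR hfour
        (R' := T ⊓ L) (inf_le_inf_right L hT.le) (hT.isPGroup.to_le inf_le_left) hlt'
        fun T' hT' hTp c hc hTc => absurd (hRmax c hc T' (hlt'.le.trans hT') hTc hTp)
          (not_le.2 (Set.ncard_lt_ncard (SetLike.coe_ssubset_coe.2 (lt_of_lt_of_le hlt' hT')) (Set.toFinite _)))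
      exact ⟨i, hi, hiH, hgi ▸ mul_mem (mul_mem hg huR) (inv_mem hg)⟩
  -- the characteristic subgroup of `R`
  haveI : Group.IsSolvable D := Group.isSolvable_of_isSolvable_injective
    (f := Subgroup.inclusion (inf_le_left : D ≤ H)) (Subgroup.inclusion_injective _)
  set Z := ZJ.zCore r False R with hZ
  have hDZ : D ≤ normalizer (Z : Set G) := by
    have h1 := ZJ.zCore_normal hr2 (PStable.isQuad_of_odd hr2 hDodd)
      (centralizer_core_le fun q hq hqr => M.twoPt_core_eq_bot hF hX hX1 hb hXb hq hqr) R₀ False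
    have h2 := le_normalizer_map h1
    rwa [ZJ.zCore_map D.subtype D.subtype_injective.injOn] at h2
  have hLZ : L ≤ normalizer (Z : Set G) :=
    (ZJ.normalizer_le_normalizer_zJ R).trans (ZJ.normalizer_zJ_le_normalizer_zCore R)
  obtain ⟨S, hS⟩ := M.toHyp.exists_syl
  have hZR : Z ≤ R := (ZJ.zCore_le_zJ R).trans (ZJ.zJ_le R)
  refine huH (M.norm_le_of_omega hr2 hF hS (hZR.trans hRH) (hRp.to_le hZR) (ZJ.zCore_ne_bot hRp hR1) ?_ (hLZ huR))
  intro x hx
  by_cases hx1 : x = 1
  · rw [hx1]; exact one_mem _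
  obtain ⟨d, hd, hdx⟩ := twoPt_trans M.se hb hi hiH (Invol.order_two_of_sq hx.2 hx1) (hS.omega_le_H hx)
  rw [← hdx]
  exact mul_mem (mul_mem (hDZ hd) (hLZ hiR)) (inv_mem (hDZ hd))

end Min

end Cfsg.Agent.SESolv
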