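import Cfsg.Agent.Lib.SESolv.Points
import Cfsg.Agent.Lib.SESolv.Bender

/-!
Cores inside subgroups, conjugates of cores, Bender's lemma inside `H`.
-/

set_option autoImplicit false
set_option linter.style.haveILetI false
set_option linter.unusedSectionVars false

namespace Cfsg.Agent.SESolv

open Cfsg Subgroup

universe u

variable {G : Type u} [Group G] [Finite G] {H : Subgroup G}

theorem normalizer_subgroupOf_eq {Y : Subgroup G} (hY : Y ≤ H) :
    normalizer ((Y.subgroupOf H : Subgroup H) : Set H) = (normalizer (Y : Set G)).subgroupOf H := by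
  ext g
  constructor
  · intro hg
    exact mem_subgroupOf.2 (SEBrick.mem_normalizer_of fun y hy =>
      mem_subgroupOf.1 (SEBrick.conj_mem_of (X := Y.subgroupOf H) hg (show (⟨y, hY hy⟩ : H) ∈ Y.subgroupOf H from hy)))
  · intro hg
    exact SEBrick.mem_normalizer_of fun y hy =>
      mem_subgroupOf.2 (SEBrick.conj_mem_of (X := Y) (mem_subgroupOf.1 hg) (mem_subgroupOf.1 hy))

/-- Elements normalising `Y` normalise its cores. -/
theorem normalizer_le_coreAt (p : ℕ) (Y : Subgroup G) :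
    normalizer (Y : Set G) ≤ normalizer (coreAt p Y : Set G) := by
  refine SEBrick.le_normalizer_of fun g hg x hx => ?_
  refine le_coreAt (Y := (coreAt p Y).map (MulAut.conj g).toMonoidHom) ?_ ((coreAt_isPGroup p Y).map _) ?_
    ⟨x, hx, rfl⟩
  · rintro _ ⟨y, hy, rfl⟩
    exact SEBrick.conj_mem_of hg (coreAt_le p Y hy)
  · refine SEBrick.le_normalizer_of fun a ha z hz => ?_
    obtain ⟨y, hy, rfl⟩ := hz
    refine ⟨g⁻¹ * a * g * y * (g⁻¹ * a * g)⁻¹,
      SEBrick.conj_mem_of (coreAt_normal p Y ((mem_normalizer_iff''.1 hg a).1 ha)) hy, ?_⟩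
    show g * (g⁻¹ * a * g * y * (g⁻¹ * a * g)⁻¹) * g⁻¹ = a * (g * y * g⁻¹) * a⁻¹
    group

theorem le_oc_of_coreAt {p : ℕ} (hp2 : p ≠ 2) [Fact p.Prime] {Y L : Subgroup G} (hYL : Y ≤ L)
    (hn : L ≤ normalizer (Y : Set G)) (hY : IsPGroup p Y) : Y ≤ oc L := by
  refine le_oc hYL ?_ hn
  obtain ⟨n, hn⟩ := IsPGroup.iff_card.1 hY
  rw [hn]
  exact ((Fact.out : p.Prime).odd_of_ne_two hp2).pow

/-- A normalised subgroup absorbs a subgroup whose normalising part it contains. -/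
theorem le_of_normalizer_inf_le {p : ℕ} [Fact p.Prime] {P Q : Subgroup G} (hP : IsPGroup p P) (hQ : IsPGroup p Q)
    (hQP : Q ≤ normalizer (P : Set G)) (h : P ⊓ normalizer (Q : Set G) ≤ Q) : P ≤ Q := by
  by_contra hne
  have hlt : Q < P ⊔ Q := lt_of_le_of_ne le_sup_right fun e => hne (e ▸ le_sup_left)
  have h1 := Functors.lt_inf_normalizer_of_lt (hP.to_sup_of_normal_left' hQ hQP) hlt
  obtain ⟨x, hx, hxQ⟩ := SetLike.exists_of_lt h1
  obtain ⟨y, hy, q, hq, rfl⟩ := (SolvBasic.mem_sup_iff_of_le_normalizer hQP).1 hx.1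
  have hyN : y ∈ normalizer (Q : Set G) := by
    have h2 : y * q ∈ normalizer (Q : Set G) := hx.2
    have := mul_mem h2 (inv_mem (le_normalizer hq))
    rwa [mul_inv_cancel_right] at this
  exact hxQ (mul_mem (h ⟨hy, hyN⟩) hq)

/-- An odd prime core of `H` inside a subgroup normalised by `H ⊓ L`. -/
theorem coreAt_le_coreAt {p : ℕ} {L Y : Subgroup G} (hY : Y ≤ H) (hP : coreAt p H ⊓ L ≤ Y) (hYL : Y ≤ L) :
    coreAt p H ⊓ L ≤ coreAt p Y :=
  le_coreAt hP ((coreAt_isPGroup p H).to_le inf_le_left)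
    (SEBrick.le_normalizer_of fun y hy x hx =>
      ⟨SEBrick.conj_mem_of (coreAt_normal p H (hY hy)) hx.1, L.mul_mem (L.mul_mem (hYL hy) hx.2) (L.inv_mem (hYL hy))⟩)

/-- Cores of different primes commute. -/
theorem coreAt_comm {p q : ℕ} [Fact p.Prime] [Fact q.Prime] (hpq : p ≠ q) {x y : G} (hx : x ∈ coreAt p H)
    (hy : y ∈ coreAt q H) : x * y = y * x := by
  have h1 : x * y * x⁻¹ * y⁻¹ ∈ coreAt q H :=
    mul_mem (SEBrick.conj_mem_of (coreAt_normal q H (coreAt_le p H hx)) hy) (inv_mem hy)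
  have h2 : x * y * x⁻¹ * y⁻¹ ∈ coreAt p H := by
    rw [show x * y * x⁻¹ * y⁻¹ = x * (y * x⁻¹ * y⁻¹) by group]
    exact mul_mem hx (SEBrick.conj_mem_of (coreAt_normal p H (coreAt_le q H hy)) (inv_mem hx))
  refine mul_inv_eq_iff_eq_mul.1 (mul_inv_eq_one.1 (PBasic.eq_one_of_isPGroup_of_coprime (coreAt_isPGroup p H) h2 ?_))
  obtain ⟨n, hn⟩ := IsPGroup.iff_card.1 (coreAt_isPGroup q H)
  have := Subgroup.orderOf_dvd_natCard (coreAt q H) h1
  rw [hn] at this
  exact (((Nat.coprime_primes Fact.out Fact.out).2 hpq.symm).pow_left n).coprime_dvd_left this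

/-- Subgroups prime to `r` normal in the normaliser in `H` of an `r`-subgroup centralise the `r`-core. -/
theorem commute_core_of_normal [Group.IsSolvable H] {r : ℕ} [Fact r.Prime] {R Y : Subgroup G} (hRH : R ≤ H)
    (hR : IsPGroup r R) (hYH : Y ≤ H) (hYR : Y ≤ normalizer (R : Set G)) (hY : (Nat.card Y).Coprime r)
    (hn : H ⊓ normalizer (R : Set G) ≤ normalizer (Y : Set G)) :
    ∀ y ∈ Y, ∀ x ∈ coreAt r H, y * x = x * y := by
  rintro y hy _ ⟨x, hx, rfl⟩
  set R' : Subgroup H := R.subgroupOf H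
  set N := normalizer (R' : Set H) with hN
  have hNeq : N = (normalizer (R : Set G)).subgroupOf H := normalizer_subgroupOf_eq hRH
  have hY' : Y.subgroupOf H ≤ N := fun z hz => by rw [hNeq]; exact mem_subgroupOf.2 (hYR (mem_subgroupOf.1 hz))
  have hn' : ((Y.subgroupOf H).subgroupOf N).Normal := by
    refine (normal_subgroupOf_iff_le_normalizer hY').2 ?_
    rw [normalizer_subgroupOf_eq hYH, hNeq]
    intro g hg
    exact mem_subgroupOf.2 (hn ⟨g.2, mem_subgroupOf.1 hg⟩)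
  have hyP : (⟨y, hYH hy⟩ : H) ∈ Cfsg.pPrimeCore r H :=
    pPrimeCore_normalizer_le (hR.comap_subtype (K := H))
      ⟨⟨⟨y, hYH hy⟩, hY' hy⟩, PBasic.le_pPrimeCore hn' (by
        rw [Nat.card_congr (subgroupOfEquivOfLe hY').toEquiv, Nat.card_congr (subgroupOfEquivOfLe hYH).toEquiv]
        exact hY) hy, rfl⟩
  haveI := Cfsg.pCore_normal r H
  haveI := FittingCores.pPrimeCore_normal (G := H) r
  have hd : Disjoint (Cfsg.pCore r H) (Cfsg.pPrimeCore r H) := by
    rw [disjoint_iff, eq_bot_iff_forall]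
    exact fun z hz => PBasic.eq_one_of_isPGroup_of_coprime (PBasic.pCore_isPGroup r H) hz.1
      (Nat.Coprime.coprime_dvd_left (Subgroup.orderOf_dvd_natCard _ hz.2) (PBasic.pPrimeCore_coprime r H))
  exact congrArg Subtype.val
    (Subgroup.commute_of_normal_of_disjoint _ _ inferInstance inferInstance hd x ⟨y, hYH hy⟩ hx hyP).eq.symm

/-- Bender's argument inside `H`. -/
theorem family_le_coreAt [Group.IsSolvable H] {π : Finset ℕ} (hπ : ∀ p ∈ π, p.Prime) (h2 : 2 ≤ π.card)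
    (hF : ∀ p : ℕ, p.Prime → p ∉ π → coreAt p H = ⊥) {Y : ℕ → Subgroup G} {J : Subgroup G}
    (hYH : ∀ p ∈ π, Y p ≤ H) (hY : ∀ p ∈ π, IsPGroup p (Y p))
    (hN : ∀ p ∈ π, H ⊓ normalizer (Y p : Set G) = J) : ∀ p ∈ π, Y p ≤ coreAt p H := by
  intro p hp y hy
  refine ⟨⟨y, hYH p hp hy⟩, ?_, rfl⟩
  refine family_le_pCore hπ h2 (fun q hq hqπ => ?_) (Y := fun p => (Y p).subgroupOf H) (J := J.subgroupOf H)
    (fun q hq => (hY q hq).comap_subtype) (fun q hq => ?_) p hp hy
  · have := hF q hq hqπ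
    rwa [coreAt, Subgroup.map_eq_bot_iff_of_injective _ H.subtype_injective] at this
  · rw [normalizer_subgroupOf_eq (hYH q hq), ← hN q hq, inf_subgroupOf_left]

end Cfsg.Agent.SESolv
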