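import Cfsg.Agent.Lib.SESolv.KeyOne

/-!
A solvable strongly embedded subgroup of restricted shape has its odd core inside the odd core of the group.
-/

set_option autoImplicit false
set_option linter.style.haveILetI false
set_option linter.unusedSectionVars false

namespace Cfsg.Agent.SESolv

open Cfsg Subgroup

universe u

theorem goal_of_card : ∀ (n : ℕ) (G : Type u) [Group G] [Finite G], Nat.card G = n → Goal G := by
  intro n
  induction n using Nat.strong_induction_on with
  | _ n ih =>
    intro G _ _ hn H h
    have hih : ∀ (K : Type u) [Group K] [Finite K], Nat.card K < Nat.card G → Goal K :=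
      fun K _ _ hK => ih _ (hn ▸ hK) K rfl
    by_contra hne
    have M : Min H := exists_min hih h hne
    obtain ⟨r, hr, hr2, hmov⟩ := M.exists_moved
    haveI := Fact.mk hr
    refine M.false_of_key hr2 hmov ?_
    by_cases h2 : 2 ≤ (fitPrimes H).card
    · exact fun X hX b hb => M.key_multi h2 hr2 hX hb
    · refine M.key_one hr2 fun q hq hqr => ?_
      by_contra hq1
      obtain ⟨t, htH, ht⟩ := Invol.exists_invol h.se.2.1
      refine h2 (two_le_fitPrimes hq hr hqr hq1 fun e => ?_)
      obtain ⟨x, hx, hne'⟩ := hmov t htH ht
      rw [e, mem_bot] at hx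
      exact hne' (by rw [hx, mul_one, one_mul])

/-- The odd core of the subgroup lies in the odd core of the group. -/
theorem oc_le_oddCore {G : Type u} [Group G] [Finite G] {H : Subgroup G} (h : Hyp H) :
    oc H ≤ Cfsg.oddCore G :=
  goal_of_card _ G rfl H h

/-- In a group with trivial odd core such a subgroup has trivial odd core. -/
theorem oc_eq_bot {G : Type u} [Group G] [Finite G] {H : Subgroup G} (h : Hyp H)
    (hO : Cfsg.oddCore G = ⊥) : oc H = ⊥ :=
  le_bot_iff.1 (hO ▸ oc_le_oddCore h)

end Cfsg.Agent.SESolv
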