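import Cfsg.Agent.Lib.SESolv.Overgroup
import Cfsg.Agent.Lib.Functors.SectionInduction
import Cfsg.Agent.Lib.SEBrick.Reduce
import Cfsg.Agent.S1225

/-!
A minimal counterexample: subgroups outside `H` and normalisers of normal subgroups of `H` inside its odd core.
-/

set_option autoImplicit false
set_option linter.style.haveILetI false
set_option linter.unusedSectionVars false

namespace Cfsg.Agent.SESolv

open Cfsg Subgroup

universe u

variable {G : Type u} [Group G] [Finite G] {H : Subgroup G}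

/-- A minimal counterexample. -/
structure Min (H : Subgroup G) : Prop extends Hyp H where
  ocore : Cfsg.oddCore G = ⊥
  W_ne : oc H ≠ ⊥
  ih : ∀ (K : Type u) [Group K] [Finite K], Nat.card K < Nat.card G → Goal K

/-- Odd subgroups normal in the intersection lie in the odd core of a subgroup with a four-group of `H`. -/
theorem le_oc_of_ih (ih : ∀ (K : Type u) [Group K] [Finite K], Nat.card K < Nat.card G → Goal K) (h : Hyp H)
    {L E Y : Subgroup G} (hL : L ≠ ⊤) (hE : SEBrick.IsFour E) (hEH : E ≤ H) (hEL : E ≤ L) (hLH : ¬ L ≤ H)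
    (hYH : Y ≤ H) (hYL : Y ≤ L) (hY : Odd (Nat.card Y)) (hn : H ⊓ L ≤ normalizer (Y : Set G)) : Y ≤ oc L := by
  have hle := ih L (Functors.card_lt_of_ne_top hL) _ (h.sub hE hEH hEL hLH)
  have h1 : Y.subgroupOf L ≤ oc (H.subgroupOf L) := by
    refine le_oc (fun y hy => hYH hy) (by rwa [Nat.card_congr (subgroupOfEquivOfLe hYL).toEquiv]) ?_
    refine SEBrick.le_normalizer_of fun g hg x hx => ?_
    exact mem_subgroupOf.2 (SEBrick.conj_mem_of (X := Y) (hn (show (g : G) ∈ H ⊓ L from ⟨hg, g.2⟩)) (show (x : G) ∈ Y from hx))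
  exact fun y hy => ⟨⟨y, hYL hy⟩, hle (h1 (show (⟨y, hYL hy⟩ : L) ∈ Y.subgroupOf L from hy)), rfl⟩

/-- The odd core of such a subgroup lies in `H`. -/
theorem oc_le_of_four (h : Hyp H) {L E : Subgroup G} (hE : SEBrick.IsFour E) (hEH : E ≤ H) (hEL : E ≤ L) :
    oc L ≤ H :=
  le_of_four h.se (oc_odd L) hE hEH (hEL.trans (oc_normal L))

theorem Min.normalizer_ne_top (M : Min H) {X : Subgroup G} (hX : X ≠ ⊥) (ho : Odd (Nat.card X)) :
    normalizer (X : Set G) ≠ ⊤ :=
  fun htop => hX (le_bot_iff.1 (M.ocore ▸ SEBrick.le_oddCore (normalizer_eq_top_iff.1 htop) ho))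

/-- The normaliser of a nontrivial normal subgroup of `H` inside its odd core is `H`. -/
theorem Min.norm (M : Min H) {X : Subgroup G} (hX : X ≤ oc H) (hX1 : X ≠ ⊥)
    (hn : H ≤ normalizer (X : Set G)) : normalizer (X : Set G) = H := by
  obtain ⟨E, hEH, hE⟩ := M.four
  have hXo := SEBrick.odd_of_le (oc_odd H) hX
  set L := normalizer (X : Set G) with hL
  have hLtop : L ≠ ⊤ := M.normalizer_ne_top hX1 hXo
  by_contra hne
  have hLH : ¬ L ≤ H := fun h => hne (le_antisymm h hn)
  have hW : oc L = oc H := by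
    refine le_antisymm (le_oc (oc_le_of_four M.toHyp hE hEH (hEH.trans hn)) (oc_odd L)
      (hn.trans (oc_normal L))) ?_
    exact le_oc_of_ih M.ih M.toHyp hLtop hE hEH (hEH.trans hn) hLH (oc_le H) ((oc_le H).trans hn) (oc_odd H)
      (inf_le_left.trans (oc_normal H))
  obtain ⟨hLse, hLconj⟩ := SEBrick.se_over M.se hn hLtop
  obtain ⟨t, htH, ht⟩ := Invol.exists_invol M.se.2.1
  obtain ⟨g, hg⟩ : ∃ g : G, g ∉ L := by
    by_contra hc
    push Not at hc
    exact hLtop ((eq_top_iff' L).2 hc)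
  set u := g * t * g⁻¹
  have hu : orderOf u = 2 := by rw [Invol.order_conj, ht]
  have huL : u ∉ L := fun h => hg (Invol.se_mem_of_conj hLse ht (hn htH) h)
  set D := L ⊓ L.map (MulAut.conj u).toMonoidHom with hD
  -- in the quotient by the odd core
  set N := (oc L).subgroupOf L with hN
  haveI : N.Normal := normal_subgroupOf_of_le_normalizer (oc_normal L)
  set f := QuotientGroup.mk' N with hf
  have hker : Odd (Nat.card f.ker) := by
    rw [hf, QuotientGroup.ker_mk', Nat.card_congr (subgroupOfEquivOfLe (oc_le L)).toEquiv]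
    exact oc_odd L
  have hkH : f.ker ≤ H.subgroupOf L := by
    rw [hf, QuotientGroup.ker_mk']
    exact comap_mono (oc_le_of_four M.toHyp hE hEH (hEH.trans hn))
  have h' := (M.toHyp.sub hE hEH (hEH.trans hn) hLH).map_quot f (QuotientGroup.mk'_surjective N) hker hkH
  have hoc : oc ((H.subgroupOf L).map f) = ⊥ := by
    rw [eq_bot_iff]
    intro q hq
    set Z : Subgroup L := (oc ((H.subgroupOf L).map f)).comap f with hZ
    have hZH : Z ≤ H.subgroupOf L := fun x hx => by
      obtain ⟨y, hy, e⟩ := oc_le _ (show f x ∈ oc ((H.subgroupOf L).map f) from hx)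
      have : y⁻¹ * x ∈ f.ker := by rw [MonoidHom.mem_ker, map_mul, map_inv, e, inv_mul_cancel]
      simpa using mul_mem hy (hkH this)
    have hZo : Odd (Nat.card Z) := by
      refine SEBrick.odd_card_of_orders fun x hx hx2 => ?_
      have h1 := SEBrick.odd_order (oc_odd ((H.subgroupOf L).map f)) (show f x ∈ _ from hx)
      rcases (Nat.dvd_prime Nat.prime_two).1 (hx2 ▸ orderOf_map_dvd f x) with h2 | h2
      · have h3 := SEBrick.odd_order hker (show x ∈ f.ker from orderOf_eq_one_iff.1 h2)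
        rw [hx2] at h3
        exact absurd h3 (by decide)
      · rw [h2] at h1
        exact absurd h1 (by decide)
    have hZn : H ≤ normalizer ((Z.map L.subtype : Subgroup G) : Set G) := by
      refine SEBrick.le_normalizer_of fun a ha x hx => ?_
      obtain ⟨y, hy, rfl⟩ := hx
      refine ⟨⟨a, hn ha⟩ * y * ⟨a, hn ha⟩⁻¹, ?_, rfl⟩
      show f (⟨a, hn ha⟩ * y * ⟨a, hn ha⟩⁻¹) ∈ oc _
      rw [map_mul, map_mul, map_inv]
      exact SEBrick.conj_mem_of (oc_normal _ (mem_map_of_mem f (show (⟨a, hn ha⟩ : L) ∈ H.subgroupOf L from ha))) hy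
    have hle : Z.map L.subtype ≤ oc H := le_oc (by rintro _ ⟨x, hx, rfl⟩; exact hZH hx)
      (by rwa [card_map_of_injective L.subtype_injective]) hZn
    obtain ⟨y, rfl⟩ := QuotientGroup.mk'_surjective N q
    rw [Subgroup.mem_bot, ← MonoidHom.mem_ker, QuotientGroup.ker_mk']
    show (y : G) ∈ oc L
    rw [hW]
    exact hle ⟨y, hq, rfl⟩
  refine false_of_odd_transitive h' hoc (D := (D.subgroupOf L).map f) ?_ ?_
  · refine Odd.of_dvd_nat ?_ (card_map_dvd _ f)
    rw [Nat.card_congr (subgroupOfEquivOfLe (inf_le_left : D ≤ L)).toEquiv]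
    exact hLse.2.2 u huL
  · intro s s' hs hs'
    obtain ⟨x, -, hx, rfl⟩ := exists_invol_lift f hker (L := ⊤)
      (by rw [← MonoidHom.range_eq_map]; exact MonoidHom.mem_range.2 (QuotientGroup.mk'_surjective N _)) hs
    obtain ⟨x', -, hx', rfl⟩ := exists_invol_lift f hker (L := ⊤)
      (by rw [← MonoidHom.range_eq_map]; exact MonoidHom.mem_range.2 (QuotientGroup.mk'_surjective N _)) hs'
    rw [← Subgroup.orderOf_coe] at hx hx'
    obtain ⟨d, hd, hdx⟩ := (S1225.result L hLse u hu huL (x : G) (x' : G) hx x.2 hx' x'.2).1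
    refine ⟨f ⟨d, hd.1⟩, mem_map_of_mem f (show (⟨d, hd.1⟩ : L) ∈ D.subgroupOf L from hd), ?_⟩
    rw [← map_inv, ← map_mul, ← map_mul]
    exact congrArg f (Subtype.ext hdx)

/-- A counterexample gives a minimal one. -/
theorem exists_min (ih : ∀ (K : Type u) [Group K] [Finite K], Nat.card K < Nat.card G → Goal K) (h : Hyp H)
    (hW : ¬ oc H ≤ Cfsg.oddCore G) : Min H := by
  have hO : Cfsg.oddCore G = ⊥ := by
    by_contra hne
    refine hW (h.le_oddCore_of_quotient (ih _ ?_))
    rw [card_eq_card_quotient_mul_card_subgroup (Cfsg.oddCore G)]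
    exact lt_mul_of_one_lt_right Nat.card_pos ((one_lt_card_iff_ne_bot _).2 hne)
  exact ⟨h, hO, fun e => hW (e ▸ bot_le), ih⟩

end Cfsg.Agent.SESolv
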