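import Cfsg.Agent.Lib.SESolv.Local

/-!
Subgroups outside `H` with a four-group of `H`; in the case of two primes in the Fitting subgroup.
-/

set_option autoImplicit false
set_option linter.style.haveILetI false
set_option linter.unusedSectionVars false

namespace Cfsg.Agent.SESolv

open Cfsg Subgroup

universe u

variable {G : Type u} [Group G] [Finite G] {H : Subgroup G}

/-- The primes of the Fitting subgroup of `H`. -/
noncomputable def fitPrimes (H : Subgroup G) : Finset ℕ :=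
  haveI := Classical.decPred fun p => coreAt p H ≠ ⊥
  (Nat.card G).primeFactors.filter fun p => coreAt p H ≠ ⊥

theorem prime_dvd_of_ne_bot {p : ℕ} (hp : p.Prime) {X : Subgroup G} (hX : IsPGroup p X) (h : X ≠ ⊥) :
    p ∣ Nat.card G := by
  haveI := Fact.mk hp
  rcases hX.card_eq_or_dvd with e | e
  · exact absurd (Subgroup.card_eq_one.1 e) h
  · exact e.trans (Subgroup.card_subgroup_dvd_card X)

theorem mem_fitPrimes {p : ℕ} : p ∈ fitPrimes H ↔ p.Prime ∧ coreAt p H ≠ ⊥ := by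
  simp only [fitPrimes, Finset.mem_filter, Nat.mem_primeFactors]
  exact ⟨fun h => ⟨h.1.1, h.2⟩, fun h => ⟨⟨h.1, prime_dvd_of_ne_bot h.1 (coreAt_isPGroup p H) h.2, Nat.card_pos.ne'⟩, h.2⟩⟩

theorem two_le_fitPrimes {p q : ℕ} (hp : p.Prime) (hq : q.Prime) (hpq : p ≠ q) (hp1 : coreAt p H ≠ ⊥)
    (hq1 : coreAt q H ≠ ⊥) : 2 ≤ (fitPrimes H).card := by
  refine le_trans (Finset.card_pair hpq).ge (Finset.card_le_card ?_)
  intro x hx
  rcases Finset.mem_insert.1 hx with rfl | hx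
  · exact mem_fitPrimes.2 ⟨hp, hp1⟩
  · exact Finset.mem_singleton.1 hx ▸ mem_fitPrimes.2 ⟨hq, hq1⟩

namespace Min

variable (M : Min H)
include M

/-- Odd normal subgroups of `H ⊓ L` lie in the odd core of `L`. -/
theorem le_oc_inter {L E Y : Subgroup G} (hL : L ≠ ⊤) (hE : SEBrick.IsFour E) (hEH : E ≤ H) (hEL : E ≤ L)
    (hLH : ¬ L ≤ H) (hYH : Y ≤ H) (hYL : Y ≤ L) (hY : Odd (Nat.card Y)) (hn : H ⊓ L ≤ normalizer (Y : Set G)) :
    Y ≤ oc L :=
  le_oc_of_ih M.ih M.toHyp hL hE hEH hEL hLH hYH hYL hY hn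

/-- The parts of the cores inside `L` lie in the cores of the odd core of `L`. -/
theorem core_inter_le {p : ℕ} [Fact p.Prime] {L E : Subgroup G} (hL : L ≠ ⊤) (hE : SEBrick.IsFour E)
    (hEH : E ≤ H) (hEL : E ≤ L) (hLH : ¬ L ≤ H) : coreAt p H ⊓ L ≤ coreAt p (oc L) := by
  refine coreAt_le_coreAt (oc_le_of_four M.toHyp hE hEH hEL) ?_ (oc_le L)
  refine M.le_oc_inter hL hE hEH hEL hLH (inf_le_left.trans (coreAt_le p H)) inf_le_right
    (SEBrick.odd_of_le (oc_odd H) (inf_le_left.trans (M.coreAt_le_oc p Fact.out)))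
    (SEBrick.le_normalizer_of fun a ha x hx => ⟨SEBrick.conj_mem_of (coreAt_normal p H ha.1) hx.1,
      L.mul_mem (L.mul_mem ha.2 hx.2) (L.inv_mem ha.2)⟩)

/-- With two primes, a proper subgroup with a four-group of `H` and all cores is in `H`. -/
theorem overFit (h2 : 2 ≤ (fitPrimes H).card) {L E : Subgroup G} (hL : L ≠ ⊤) (hE : SEBrick.IsFour E)
    (hEH : E ≤ H) (hEL : E ≤ L) (hcores : ∀ p : ℕ, p.Prime → coreAt p H ≤ L) : L ≤ H := by
  by_contra hLH
  obtain ⟨K, hLK, ⟨hK, hKH⟩, hKmax⟩ := Finite.exists_le_maximal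
    (p := fun K : Subgroup G => K ≠ ⊤ ∧ ¬ K ≤ H) (a := L) ⟨hL, hLH⟩
  have hEK := hEL.trans hLK
  set Y := oc K with hY
  have hYH : Y ≤ H := oc_le_of_four M.toHyp hE hEH hEK
  have hsub : ∀ p : ℕ, p.Prime → coreAt p H ≤ coreAt p Y := fun p hp => by
    haveI := Fact.mk hp
    exact (le_inf le_rfl ((hcores p hp).trans hLK)).trans (M.core_inter_le hK hE hEH hEK hKH)
  have hnorm : ∀ p : ℕ, p.Prime → coreAt p Y ≠ ⊥ → normalizer (coreAt p Y : Set G) = K := fun p hp hne => by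
    have hle : K ≤ normalizer (coreAt p Y : Set G) := (oc_normal K).trans (normalizer_le_coreAt p Y)
    refine le_antisymm (hKmax ⟨M.normalizer_ne_top hne ?_, fun h => hKH (hle.trans h)⟩ hle) hle
    exact SEBrick.odd_of_le (oc_odd K) (coreAt_le p Y)
  haveI := M.solv
  obtain ⟨p, hp⟩ : (fitPrimes H).Nonempty := Finset.card_pos.1 (by omega)
  obtain ⟨hpp, hp1⟩ := mem_fitPrimes.1 hp
  have hsub' : fitPrimes H ⊆ fitPrimes Y := fun q hq => by
    obtain ⟨hqp, hq1⟩ := mem_fitPrimes.1 hq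
    exact mem_fitPrimes.2 ⟨hqp, fun e => hq1 (le_bot_iff.1 (e ▸ hsub q hqp))⟩
  have hle := family_le_coreAt (π := fitPrimes Y) (fun q hq => (mem_fitPrimes.1 hq).1)
    (h2.trans (Finset.card_le_card hsub'))
    (fun q hq hqY => by_contra fun hne => hqY (hsub' (mem_fitPrimes.2 ⟨hq, hne⟩)))
    (Y := fun q => coreAt q Y) (J := H ⊓ K) (fun q _ => (coreAt_le q Y).trans hYH)
    (fun q _ => coreAt_isPGroup q Y)
    (fun q hq => by rw [hnorm q (mem_fitPrimes.1 hq).1 (mem_fitPrimes.1 hq).2]) p (hsub' hp)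
  have heq : coreAt p Y = coreAt p H := le_antisymm hle (hsub p hpp)
  refine hKH ?_
  have h1 := hnorm p hpp (heq ▸ hp1)
  rw [heq, M.norm (M.coreAt_le_oc p hpp) hp1 (coreAt_normal p H)] at h1
  rw [← h1]

/-- With two primes: the normaliser of an `r`-subgroup normalised by a four-group and by the other cores. -/
theorem norm_le_of_rest (h2 : 2 ≤ (fitPrimes H).card) {r : ℕ} [hr : Fact r.Prime] (hr2 : r ≠ 2) {Q E : Subgroup G}
    (hQH : Q ≤ H) (hQ : IsPGroup r Q) (hQ1 : Q ≠ ⊥) (hE : SEBrick.IsFour E) (hEH : E ≤ H)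
    (hEQ : E ≤ normalizer (Q : Set G))
    (hrest : ∀ p : ℕ, p.Prime → p ≠ r → coreAt p H ≤ normalizer (Q : Set G)) : normalizer (Q : Set G) ≤ H := by
  by_contra hQN
  obtain ⟨Q₁, hQQ₁, ⟨hQ₁H, hQ₁, ⟨E₁, hE₁, hE₁H, hE₁Q⟩, hrest₁, hQ₁N⟩, hmax⟩ := Finite.exists_le_maximal
    (p := fun Q : Subgroup G => Q ≤ H ∧ IsPGroup r Q ∧
      (∃ E, SEBrick.IsFour E ∧ E ≤ H ∧ E ≤ normalizer (Q : Set G)) ∧
      (∀ p : ℕ, p.Prime → p ≠ r → coreAt p H ≤ normalizer (Q : Set G)) ∧ ¬ normalizer (Q : Set G) ≤ H)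
    (a := Q) ⟨hQH, hQ, ⟨E, hE, hEH, hEQ⟩, hrest, hQN⟩
  have hQ₁1 : Q₁ ≠ ⊥ := fun e => hQ1 (le_bot_iff.1 (e ▸ hQQ₁))
  have hodd : Odd (Nat.card Q₁) := by
    obtain ⟨n, hn⟩ := IsPGroup.iff_card.1 hQ₁
    rw [hn]; exact (hr.out.odd_of_ne_two hr2).pow
  set L := normalizer (Q₁ : Set G) with hL
  have hLtop := M.normalizer_ne_top hQ₁1 hodd
  set Y := oc L with hY
  have hQY : Q₁ ≤ Y := le_oc_of_coreAt hr2 le_normalizer le_rfl hQ₁
  have hYn : L ≤ normalizer (coreAt r Y : Set G) := (oc_normal L).trans (normalizer_le_coreAt r Y)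
  have hQc : Q₁ ≤ coreAt r Y := le_coreAt hQY hQ₁ (oc_le L)
  have hYH : Y ≤ H := oc_le_of_four M.toHyp hE₁ hE₁H hE₁Q
  have heq : coreAt r Y = Q₁ := le_antisymm (hmax ⟨(coreAt_le r Y).trans hYH, coreAt_isPGroup r Y,
    ⟨E₁, hE₁, hE₁H, hE₁Q.trans hYn⟩, fun p hp hpr => (hrest₁ p hp hpr).trans hYn,
    fun h => hQ₁N (hYn.trans h)⟩ hQc) hQc
  have hP : coreAt r H ≤ Q₁ := le_of_normalizer_inf_le (coreAt_isPGroup r H) hQ₁
    (hQ₁H.trans (coreAt_normal r H)) ((M.core_inter_le hLtop hE₁ hE₁H hE₁Q hQ₁N).trans heq.le)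
  refine hQ₁N (M.overFit h2 hLtop hE₁ hE₁H hE₁Q fun p hp => ?_)
  by_cases hpr : p = r
  · subst hpr; exact hP.trans le_normalizer
  · exact hrest₁ p hp hpr

/-- With two primes: an element of the `r`-core whose span is normalised by a four-group has centraliser in `H`. -/
theorem cent_le (h2 : 2 ≤ (fitPrimes H).card) {r : ℕ} [hr : Fact r.Prime] (hr2 : r ≠ 2) {y : G} {E : Subgroup G}
    (hy : y ∈ coreAt r H) (hy1 : y ≠ 1) (hE : SEBrick.IsFour E) (hEH : E ≤ H)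
    (hEy : E ≤ normalizer (zpowers y : Set G)) : centralizer ({y} : Set G) ≤ H := by
  refine le_trans ?_ (M.norm_le_of_rest h2 hr2 ((zpowers_le.2 hy).trans (coreAt_le r H))
    ((coreAt_isPGroup r H).to_le (zpowers_le.2 hy)) (by simpa [Subgroup.zpowers_eq_bot] using hy1) hE hEH hEy
    fun p hp hpr x hx => ?_)
  · intro g hg
    refine SEBrick.mem_normalizer_of fun z hz => ?_
    obtain ⟨i, rfl⟩ := hz
    rw [((show Commute g y from mem_centralizer_singleton_iff.1 hg).zpow_right i).eq, mul_inv_cancel_right]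
    exact ⟨i, rfl⟩
  · haveI := Fact.mk hp
    refine SEBrick.mem_normalizer_of fun z hz => ?_
    rw [coreAt_comm hpr hx (zpowers_le.2 hy hz), mul_inv_cancel_right]
    exact hz

end Min

end Cfsg.Agent.SESolv
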