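import Cfsg.Agent.Lib.SESolv.Basic
import Cfsg.Agent.Lib.SERegular.FromSE
import Cfsg.Agent.Lib.OddChar.OddTheorem
import Cfsg.Agent.Lib.Functors.Conj

/-!
No group with a solvable strongly embedded subgroup without odd core has an odd subgroup transitive on its
involutions.
-/

set_option autoImplicit false
set_option linter.style.haveILetI false
set_option linter.unusedSectionVars false

namespace Cfsg.Agent.SESolv

open Cfsg Subgroup MulAction

universe u

variable {K : Type u} [Group K] [Finite K]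

/-- An abelian normal subgroup of a group of automorphisms transitive on the non-identity elements fixes none of
them, unless the element is trivial. -/
theorem fpf_of_transitive {U : Type*} [Group U] [Finite U] (A : Subgroup (MulAut U)) (N : Subgroup (MulAut U))
    (hN : N ≤ A) (hNA : ∀ a ∈ A, ∀ n ∈ N, a * n * a⁻¹ ∈ N) (hNc : ∀ a ∈ N, ∀ b ∈ N, a * b = b * a)
    (htr : ∀ x y : U, x ≠ 1 → y ≠ 1 → ∃ a ∈ A, a x = y) :
    ∀ n ∈ N, ∀ x : U, x ≠ 1 → n x = x → n = 1 := by
  let St : U → Set (MulAut U) := fun x => {n | n ∈ N ∧ n x = x}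
  have hst : ∀ x y : U, x ≠ 1 → y ≠ 1 → St x ⊆ St y → St y ⊆ St x := by
    intro x y hx hy hxy
    obtain ⟨a, ha, rfl⟩ := htr x y hx hy
    refine (Set.eq_of_subset_of_ncard_le hxy (le_of_eq ?_) (Set.toFinite _)).ge
    symm
    refine Set.ncard_congr (fun n _ => a * n * a⁻¹) (fun n hn => ⟨hNA a ha n hn.1, ?_⟩)
      (fun m n _ _ h => by simpa using h)
      (fun n hn => ⟨a⁻¹ * n * a, ⟨by simpa using hNA a⁻¹ (inv_mem ha) n hn.1, ?_⟩, by group⟩)
    · show a (n (a.symm (a x))) = a x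
      rw [a.symm_apply_apply, hn.2]
    · show a.symm (n (a x)) = x
      rw [hn.2, a.symm_apply_apply]
  -- all stabilisers agree
  have key : ∀ x y : U, x ≠ 1 → y ≠ 1 → St x ⊆ St y := by
    intro x y hx hy n hn
    by_contra hny
    have hxy : x * y ≠ 1 := fun e => hny ⟨hn.1, by
      rw [eq_inv_of_mul_eq_one_right e, map_inv, hn.2]⟩
    -- the moved part of `y` is fixed by the stabiliser of the product
    set z := y⁻¹ * n y with hz
    have hz1 : z ≠ 1 := fun e => hny ⟨hn.1, (inv_mul_eq_one.1 e).symm⟩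
    have hsub : St (x * y) ⊆ St z := by
      intro m hm
      refine ⟨hm.1, ?_⟩
      have e : z = (x * y)⁻¹ * n (x * y) := by rw [map_mul, hn.2, hz]; group
      rw [e, map_mul, map_inv, hm.2]
      congr 1
      show (m * n) (x * y) = n (x * y)
      rw [hNc m hm.1 n hn.1]
      show n (m (x * y)) = n (x * y)
      rw [hm.2]
    have hsuby : St y ⊆ St z := by
      intro m hm
      refine ⟨hm.1, ?_⟩
      rw [hz, map_mul, map_inv, hm.2]
      congr 1
      show (m * n) y = n y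
      rw [hNc m hm.1 n hn.1]
      show n (m y) = n y
      rw [hm.2]
    have h1 : St (x * y) ⊆ St y := fun m hm => hst y z hy hz1 hsuby (hsub hm)
    have h2 : St (x * y) ⊆ St x := by
      intro m hm
      refine ⟨hm.1, ?_⟩
      have h3 := hm.2
      rw [map_mul, (h1 hm).2, mul_left_inj] at h3
      exact h3
    exact hny (h1 (hst (x * y) x hxy hx h2 hn))
  intro n hn x hx hnx
  refine MulEquiv.ext fun y => ?_
  by_cases hy : y = 1
  · rw [hy, map_one, map_one]
  · exact (key x y hx hy ⟨hn, hnx⟩).2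

/-- A nontrivial core contains an involution unless it is odd. -/
theorem normalCore_odd {H : Subgroup K} (hH : Cfsg.IsStronglyEmbedded H) : Odd (Nat.card H.normalCore) := by
  refine SEBrick.odd_card_of_orders fun t ht ht2 => hH.1 ((eq_top_iff' H).2 fun g => ?_)
  exact Invol.se_mem_of_conj hH ht2 (H.normalCore_le ht)
    (H.normalCore_le ((Subgroup.normalCore_normal H).conj_mem t ht g))

/-- No odd subgroup is transitive on the involutions. -/
theorem false_of_odd_transitive {H : Subgroup K} (h : Hyp H) (hoc : oc H = ⊥) {D : Subgroup K}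
    (hD : Odd (Nat.card D))
    (htr : ∀ s t : K, orderOf s = 2 → orderOf t = 2 → ∃ d ∈ D, d * s * d⁻¹ = t) : False := by
  haveI := h.solv
  haveI : Fact (Nat.Prime 2) := ⟨Nat.prime_two⟩
  have hO : Cfsg.oddCore H = ⊥ := (Subgroup.map_eq_bot_iff_of_injective _ H.subtype_injective).1 hoc
  have hcore : H.normalCore = ⊥ := le_bot_iff.1 (hoc ▸ le_oc H.normalCore_le (normalCore_odd h.se)
    (by rw [normalizer_eq_top]; exact le_top))
  have hcomm : ∀ s t : K, s ∈ H → t ∈ H → orderOf s = 2 → orderOf t = 2 → s * t = t * s := by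
    intro s t hs ht hs2 ht2
    have h1 := comm_mod h.shape (t := (⟨s, hs⟩ : H)) (x := ⟨t, ht⟩) (n := 1)
      (Subtype.ext (Invol.mul_self hs2)) (Subtype.ext (by
        show t ^ 2 ^ 1 = 1
        rw [pow_one, pow_two, Invol.mul_self ht2]))
    rw [hO, Subgroup.mem_bot] at h1
    exact congrArg Subtype.val (mul_inv_eq_iff_eq_mul.1 (mul_inv_eq_one.1 h1))
  obtain ⟨E, hEH, hE⟩ := h.four
  have h2 : ∃ s t : K, s ∈ H ∧ t ∈ H ∧ orderOf s = 2 ∧ orderOf t = 2 ∧ s ≠ t := by
    obtain ⟨s, hs, hs1⟩ := IsFour.exists_ne hE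
    obtain ⟨t, ht, ht1, hts⟩ : ∃ t ∈ E, t ≠ 1 ∧ t ≠ s := by
      by_contra hc
      push Not at hc
      have h4 := hE.2
      rw [← SetLike.coe_sort_coe, Nat.card_coe_set_eq] at h4
      have : (E : Set K).ncard ≤ ({1, s} : Set K).ncard := Set.ncard_le_ncard (fun x hx => by
        by_cases h1 : x = 1
        · exact Or.inl h1
        · exact Or.inr (hc x hx h1)) (Set.toFinite _)
      rw [Set.ncard_pair hs1.symm] at this
      omega
    exact ⟨s, t, hEH hs, hEH ht, hE.order hs hs1, hE.order ht ht1, hts.symm⟩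
  obtain ⟨Q, hQH, hQn, hQ2, hQt, hQf⟩ := SERegular.exists_regular_of_se h.se hcore hcomm h2
    (SERegular.odd_of_solvable h.se hcomm h.solv)
  -- the involutions of `H`
  let U : Subgroup K :=
    { carrier := {x | x ∈ H ∧ x * x = 1}
      one_mem' := ⟨H.one_mem, one_mul 1⟩
      mul_mem' := by
        rintro x y ⟨hx, hx2⟩ ⟨hy, hy2⟩
        refine ⟨H.mul_mem hx hy, ?_⟩
        by_cases hx1 : x = 1
        · rw [hx1, one_mul, hy2]
        by_cases hy1 : y = 1
        · rw [hy1, mul_one, hx2]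
        rw [mul_assoc, ← mul_assoc y x y,
          ← hcomm x y hx hy (Invol.order_two_of_sq hx2 hx1) (Invol.order_two_of_sq hy2 hy1), mul_assoc x y y,
          hy2, mul_one, hx2]
      inv_mem' := fun {x} hx => ⟨H.inv_mem hx.1, by rw [← mul_inv_rev, hx.2, inv_one]⟩ }
  set A₀ := D ⊓ H with hA₀
  have hUn : A₀ ≤ normalizer (U : Set K) := SEBrick.le_normalizer_of fun a ha x hx =>
    ⟨H.mul_mem (H.mul_mem ha.2 hx.1) (H.inv_mem ha.2), by
      rw [show a * x * a⁻¹ * (a * x * a⁻¹) = a * (x * x) * a⁻¹ by group, hx.2]; group⟩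
  let φ : A₀ →* MulAut U :=
    (MulAut.conjNormal (H := U.subgroupOf (normalizer (U : Set K)))).comp (Subgroup.inclusion hUn) |> fun ψ =>
      (MulAut.congr (subgroupOfEquivOfLe (le_normalizer (H := U)))).toMonoidHom.comp ψ
  have hφ : ∀ (a : A₀) (x : U), ((φ a x : U) : K) = (a : K) * x * (a : K)⁻¹ := fun a x => rfl
  have htrU : ∀ x y : U, x ≠ 1 → y ≠ 1 → ∃ a ∈ φ.range, a x = y := by
    intro x y hx hy
    obtain ⟨d, hd, hdy⟩ := htr x y
      (Invol.order_two_of_sq x.2.2 fun e => hx (Subtype.ext e))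
      (Invol.order_two_of_sq y.2.2 fun e => hy (Subtype.ext e))
    have hdH : d ∈ H := Invol.se_mem_of_conj h.se
      (Invol.order_two_of_sq x.2.2 fun e => hx (Subtype.ext e)) x.2.1 (hdy.symm ▸ y.2.1)
    exact ⟨φ ⟨d, hd, hdH⟩, ⟨_, rfl⟩, Subtype.ext ((hφ _ x).trans hdy)⟩
  obtain ⟨s₀, t₀, hs₀H, ht₀H, hs₀, ht₀, hst₀⟩ := h2
  have hA₀odd : Odd (Nat.card A₀) := SEBrick.odd_of_le hD inf_le_left
  have hAodd : Odd (Nat.card φ.range) := hA₀odd.of_dvd_nat (card_dvd_of_surjective φ.rangeRestrict φ.rangeRestrict_surjective)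
  haveI : Group.IsSolvable φ.range := OddChar.oddSolvable _ hAodd
  haveI : Nontrivial φ.range := by
    obtain ⟨a, ha, hax⟩ := htrU ⟨s₀, hs₀H, Invol.mul_self hs₀⟩ ⟨t₀, ht₀H, Invol.mul_self ht₀⟩
      (fun e => by have := congrArg Subtype.val e; rw [show (s₀ : K) = 1 from this, orderOf_one] at hs₀; omega)
      (fun e => by have := congrArg Subtype.val e; rw [show (t₀ : K) = 1 from this, orderOf_one] at ht₀; omega)
    refine ⟨⟨⟨a, ha⟩, 1, fun e => ?_⟩⟩
    rw [show a = 1 from congrArg Subtype.val e] at hax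
    exact hst₀ (congrArg Subtype.val hax)
  obtain ⟨N, l, hl, hNn, hN, -, hNc, -, hNl, -⟩ :=
    SolvBasic.exists_minimal_normal_abelian (G := φ.range) (N := ⊤) inferInstance top_ne_bot
  haveI := Fact.mk hl
  have hfpf := fpf_of_transitive φ.range (N.map φ.range.subtype) (map_subtype_le _)
    (by
      rintro a ha _ ⟨n, hn, rfl⟩
      exact ⟨⟨a, ha⟩ * n * ⟨a, ha⟩⁻¹, hNn.conj_mem n hn _, rfl⟩)
    (by
      rintro _ ⟨a, ha, rfl⟩ _ ⟨b, hb, rfl⟩
      rw [← map_mul, ← map_mul]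
      haveI := hNc
      exact congrArg _ (setLike_mul_comm ha hb)) htrU
  obtain ⟨n, hn, hn1⟩ : ∃ n ∈ N, n ≠ 1 := by
    by_contra hc
    push Not at hc
    exact hN ((eq_bot_iff_forall N).2 hc)
  obtain ⟨j, hj⟩ := hNl ⟨n, hn⟩
  have hnj : (n : MulAut U) ^ l ^ j = 1 := by
    have h := congrArg (fun z : N => ((z : φ.range) : MulAut U)) hj
    simpa using h
  obtain ⟨y₀, hy₀⟩ := n.2
  -- the `l`-part of a preimage
  obtain ⟨y, v, hyv, hy_mem, hv_mem, ⟨i, hi⟩, hvo⟩ := PBasic.exists_pPart_mul (p := l) y₀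
  have hφv : φ v = 1 := by
    have h1 : φ v ∈ Subgroup.zpowers (φ y₀) := by
      obtain ⟨z, hz⟩ := hv_mem
      exact ⟨z, by rw [← hz, map_zpow]⟩
    obtain ⟨z, hz⟩ := h1
    have h2 : φ v ^ l ^ j = 1 := by
      rw [← hz, ← zpow_natCast, zpow_comm, zpow_natCast, hy₀, hnj, one_zpow]
    exact orderOf_eq_one_iff.1 (Nat.eq_one_of_dvd_coprimes ((hvo.coprime_dvd_left (orderOf_map_dvd φ v)).pow_right j)
      dvd_rfl (orderOf_dvd_of_pow_eq_one h2))
  have hφy : φ y = (n : MulAut U) := by rw [← hy₀, ← hyv, map_mul, hφv, mul_one]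
  have hne1 : (n : MulAut U) ≠ 1 := fun e => hn1 (Subtype.ext e)
  have hlodd : Odd l := by
    refine Nat.Prime.odd_of_ne_two hl fun e => ?_
    subst e
    have h1 : Even (Nat.card φ.range) := by
      rcases hNl.card_eq_or_dvd with h | h
      · exact absurd (Subgroup.card_eq_one.1 h) hN
      · exact even_iff_two_dvd.2 (h.trans (Subgroup.card_subgroup_dvd_card N))
    exact (Nat.not_even_iff_odd.2 hAodd) h1
  -- no element of `Q` commutes with `y`
  have hQy : ∀ q ∈ Q, (y : K) * q * (y : K)⁻¹ = q → q = 1 := by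
    intro q hq hqy
    by_contra hq1
    obtain ⟨m, hm⟩ := hQ2 ⟨q, hq⟩
    have hev : Even (Nat.card (Subgroup.zpowers q)) := by
      rw [Nat.card_zpowers]
      obtain ⟨i, -, hi⟩ := (Nat.dvd_prime_pow Nat.prime_two).1
        (orderOf_dvd_of_pow_eq_one (show q ^ 2 ^ m = 1 by simpa using congrArg Subtype.val hm))
      rw [hi, Nat.even_pow]
      exact ⟨even_two, fun h0 => hq1 (orderOf_eq_one_iff.1 (by rw [hi, h0, pow_zero]))⟩
    obtain ⟨w, hwq, hw⟩ := Invol.exists_invol hev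
    have hwy : (y : K) * w * (y : K)⁻¹ = w := by
      obtain ⟨z, rfl⟩ := hwq
      rw [← conj_zpow, hqy]
    have hwU : w ∈ U := ⟨hQH (Subgroup.zpowers_le.2 hq hwq), Invol.mul_self hw⟩
    have hwne : (⟨w, hwU⟩ : U) ≠ 1 := fun e => by
      rw [show w = 1 from congrArg Subtype.val e, orderOf_one] at hw; omega
    refine hne1 (hfpf n (mem_map_of_mem _ hn) ⟨w, hwU⟩ hwne ?_)
    rw [← hφy]
    exact Subtype.ext ((hφ y _).trans hwy)
  have hyH : (y : K) ∈ H := y.2.2
  -- a Sylow subgroup fixing exactly two points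
  set a : K ⧸ H := ((1 : K) : K ⧸ H) with ha
  have hfixa : ∀ g ∈ H, g • a = a := fun g hg => SEBrick.fix_base_iff.2 hg
  have hmem_of_fix : ∀ g : K, g • a = a → g ∈ H := fun g hg => SEBrick.fix_base_iff.1 hg
  have hne_base : ∀ g : K, g ∉ H → (g : K ⧸ H) ≠ a := fun g hg e => hg (by
    rw [ha, QuotientGroup.eq, mul_one, inv_mem_iff] at e; exact e)
  have hQtr : ∀ b c : K ⧸ H, b ≠ a → c ≠ a → ∃ q ∈ Q, q • b = c := by
    intro b c hb hc
    induction b using QuotientGroup.induction_on with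
    | _ g₁ =>
      induction c using QuotientGroup.induction_on with
      | _ g₂ =>
        have h1 : g₁ ∉ H := fun hg => hb (by rw [ha, QuotientGroup.eq]; simpa using inv_mem hg)
        have h2 : g₂ ∉ H := fun hg => hc (by rw [ha, QuotientGroup.eq]; simpa using inv_mem hg)
        obtain ⟨q, hq, hqg⟩ := hQt g₁ g₂ h1 h2
        refine ⟨q, hq, ?_⟩
        rw [MulAction.Quotient.smul_mk, smul_eq_mul, eq_comm, QuotientGroup.eq]
        exact hqg
  have hQfree : ∀ b : K ⧸ H, b ≠ a → ∀ q ∈ Q, q • b = b → q = 1 := by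
    intro b hb q hq hqb
    induction b using QuotientGroup.induction_on with
    | _ g =>
      exact hQf g (fun hg => hb (by rw [ha, QuotientGroup.eq]; simpa using inv_mem hg)) q hq (by rw [← mul_assoc]; exact SEBrick.fix_iff.1 hqb)
  obtain ⟨b, hb⟩ : ∃ b : K ⧸ H, b ≠ a := by
    obtain ⟨g, hg⟩ : ∃ g, g ∉ H := by
      by_contra hc
      push Not at hc
      exact h.se.1 ((eq_top_iff' H).2 hc)
    exact ⟨_, hne_base g hg⟩
  have hyp : IsPGroup l (Subgroup.zpowers (y : K)) :=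
    IsPGroup.of_card (n := i) (by rw [Nat.card_zpowers, Subgroup.orderOf_coe, hi])
  obtain ⟨P, hP⟩ := (hyp.comap_subtype (K := A₀)).exists_le_sylow
  set P' : Subgroup K := (P : Subgroup A₀).map A₀.subtype with hP'
  have hP'A : P' ≤ A₀ := map_subtype_le _
  have hyP : (y : K) ∈ P' := ⟨y, hP (show y ∈ (Subgroup.zpowers (y : K)).subgroupOf A₀ from mem_zpowers _), rfl⟩
  have hP'p : IsPGroup l P' := P.isPGroup'.map _
  -- a second fixed point
  obtain ⟨c, hca, hcP⟩ : ∃ c : K ⧸ H, c ≠ a ∧ ∀ g ∈ P', g • c = c := by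
    letI : MulAction P' {c : K ⧸ H // c ≠ a} :=
      { smul := fun g c => ⟨(g : K) • (c : K ⧸ H), fun e => c.2 (by
          have h1 := congrArg ((g : K)⁻¹ • ·) e
          simpa [inv_smul_smul, hfixa _ (H.inv_mem (hP'A g.2).2)] using h1)⟩
        one_smul := fun c => Subtype.ext (one_smul K (c : K ⧸ H))
        mul_smul := fun g g' c => Subtype.ext (mul_smul (g : K) (g' : K) (c : K ⧸ H)) }
    have hcard : Nat.card {c : K ⧸ H // c ≠ a} = Nat.card Q := by
      symm
      refine Nat.card_congr (Equiv.ofBijective (fun q : Q => ⟨(q : K) • b, fun e => hb (by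
        have h1 := congrArg ((q : K)⁻¹ • ·) e
        simpa [inv_smul_smul, hfixa _ (H.inv_mem (hQH q.2))] using h1)⟩) ⟨fun q q' e => ?_, fun c => ?_⟩)
      · have h1 : ((q' : K)⁻¹ * q) • b = b := by
          rw [mul_smul, show (q : K) • b = (q' : K) • b from congrArg Subtype.val e, inv_smul_smul]
        exact Subtype.ext (inv_mul_eq_one.1 (hQfree b hb _ (mul_mem (inv_mem q'.2) q.2) h1)).symm
      · obtain ⟨q, hq, hqc⟩ := hQtr b c hb c.2
        exact ⟨⟨q, hq⟩, Subtype.ext hqc⟩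
    have hnd : ¬ l ∣ Nat.card {c : K ⧸ H // c ≠ a} := by
      obtain ⟨m, hm⟩ := IsPGroup.iff_card.1 hQ2
      rw [hcard, hm]
      intro hd
      have h1 := (Nat.prime_dvd_prime_iff_eq hl Nat.prime_two).1 (hl.dvd_of_dvd_pow hd)
      rw [h1] at hlodd
      exact absurd hlodd (by decide)
    obtain ⟨⟨c, hca⟩, hc⟩ := hP'p.nonempty_fixed_point_of_prime_not_dvd_card _ hnd
    exact ⟨c, hca, fun g hg => congrArg Subtype.val (hc ⟨g, hg⟩)⟩
  have hfix2 : ∀ d : K ⧸ H, (∀ g ∈ P', g • d = d) → d = a ∨ d = c := by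
    intro d hd
    by_contra hne
    push Not at hne
    obtain ⟨hda, hdc⟩ := hne
    obtain ⟨q, hq, rfl⟩ := hQtr c d hca hda
    refine hdc ?_
    have hq' : (y : K) * q * (y : K)⁻¹ ∈ Q :=
      ((mem_normalizer_iff.1 ((normal_subgroupOf_iff_le_normalizer hQH).1 hQn hyH)) q).1 hq
    have hyq : ((y : K) * q * (y : K)⁻¹) • c = q • c := by
      rw [mul_smul, mul_smul, inv_smul_eq_iff.2 (hcP _ hyP).symm, hd _ hyP]
    have h1 : q⁻¹ * ((y : K) * q * (y : K)⁻¹) = 1 := hQfree c hca _ (mul_mem (inv_mem hq) hq')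
      (by rw [mul_smul, hyq, inv_smul_smul])
    rw [hQy q hq (inv_mul_eq_one.1 h1).symm, one_smul]
  -- an element moving `a` to `c` and normalising `P'`
  obtain ⟨d, hdD, hdc⟩ : ∃ d ∈ D, d • a = c := by
    obtain ⟨s, hs⟩ : ∃ s : K, orderOf s = 2 ∧ s • c = c := by
      induction c using QuotientGroup.induction_on with
      | _ g =>
        refine ⟨g * s₀ * g⁻¹, by rw [Invol.order_conj, hs₀], SEBrick.fix_iff.2 ?_⟩
        rwa [show g⁻¹ * (g * s₀ * g⁻¹) * g = s₀ by group]
    obtain ⟨d, hd, hds⟩ := htr s₀ s hs₀ hs.1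
    refine ⟨d, hd, Invol.se_fix_unique h.se hs.1 ?_ hs.2⟩
    rw [← hds, mul_smul, inv_smul_smul, mul_smul, hfixa _ hs₀H]
  set Dc := D ⊓ stabilizer K c with hDc
  have hA0Dc : A₀.map (MulAut.conj d).toMonoidHom = Dc := by
    refine le_antisymm ?_ ?_
    · rintro _ ⟨x, hx, rfl⟩
      refine ⟨D.mul_mem (D.mul_mem hdD hx.1) (D.inv_mem hdD), ?_⟩
      show (d * x * d⁻¹) • c = c
      rw [mul_smul, mul_smul, ← hdc, inv_smul_smul, hfixa x hx.2]
    · intro x hx
      refine ⟨d⁻¹ * x * d, ⟨D.mul_mem (D.mul_mem (D.inv_mem hdD) hx.1) hdD, hmem_of_fix _ ?_⟩, by simp [mul_assoc]⟩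
      rw [mul_smul, mul_smul, hdc, show x • c = c from hx.2, ← hdc, inv_smul_smul]
  have hP'Dc : P' ≤ Dc := fun x hx => ⟨(hP'A hx).1, hcP x hx⟩
  have hsy1 : Functors.IsSylowIn l (P'.map (MulAut.conj d).toMonoidHom) Dc :=
    hA0Dc ▸ (Functors.isSylowIn_map_subtype P).map_cj d
  have hsy2 : Functors.IsSylowIn l P' Dc := by
    refine ⟨hP'Dc, hP'p, ?_⟩
    have e1 := PBasic.card_mul_relIndex hsy1.1
    have e2 := PBasic.card_mul_relIndex hP'Dc
    rw [card_map_of_injective (MulAut.conj d).injective] at e1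
    rw [Nat.eq_of_mul_eq_mul_left Nat.card_pos (e2.trans e1.symm)]
    exact hsy1.2.2
  obtain ⟨e, he, heP⟩ := Functors.exists_conj_eq_of_isSylowIn hsy2 hsy1
  rw [Functors.map_map_cj] at heP
  have hg : e * d ∈ normalizer (P' : Set K) := Functors.map_cj_eq_iff.1 heP
  set g := e * d with hgdef
  have hgD : g ∈ D := D.mul_mem he.1 hdD
  have hga : g • a = c := by rw [hgdef, mul_smul, hdc]; exact he.2
  have hgc : g • c = a := by
    refine (hfix2 (g • c) fun x hx => ?_).resolve_right fun e => hca ?_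
    · have hx' : g⁻¹ * x * g ∈ P' := (mem_normalizer_iff''.1 hg x).1 hx
      calc x • (g • c) = g • ((g⁻¹ * x * g) • c) := by rw [← mul_smul, ← mul_smul]; congr 1; group
        _ = _ := by rw [hcP _ hx']
    · exact MulAction.injective g (e.trans hga.symm)
  obtain ⟨k, hk⟩ := SEBrick.odd_order hD hgD
  have hswap : ∀ m : ℕ, g ^ (2 * m + 1) • a = c := by
    intro m
    induction m with
    | zero => simpa using hga
    | succ m ih =>
      rw [show 2 * (m + 1) + 1 = 2 + (2 * m + 1) by ring, pow_add, mul_smul, ih, pow_two, mul_smul, hgc, hga]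
  have := hswap k
  rw [← hk, pow_orderOf_eq_one, one_smul] at this
  exact hca this.symm

end Cfsg.Agent.SESolv
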