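import Cfsg.Agent.Lib.SESolv.Shape
import Cfsg.Agent.Lib.PStable.NotStable

/-!
A faithful group of shape as in `SESolv.Shape` on an elementary abelian 3-group has no quadratic element.
-/

set_option autoImplicit false
set_option linter.style.haveILetI false
set_option linter.unusedSectionVars false

namespace Cfsg.Agent.SESolv

open Cfsg Subgroup

/-- Commuting units of equal square permuted cyclically by a quadratic element of order three, in characteristic
three. -/
theorem ring_cyclic_eq {A : Type*} [Ring A] (h3 : (3 : A) = 0) {α b c d s : A} (hα : IsUnit α)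
    (hq : (α - 1) * (α - 1) = 0) (hb : α * b = c * α) (hc : α * c = d * α) (hd : α * d = b * α)
    (hbc : b * c = c * b) (hcd : c * d = d * c) (hdb : d * b = b * d)
    (hbs : b * b = s) (hcs : c * c = s) (hds : d * d = s) (hs : IsUnit s) : b = c := by
  have hαα : α * α = α + α - 1 := by
    have h : α * α - (α + α - 1) = 0 := by rw [← hq]; noncomm_ring
    exact sub_eq_zero.1 h
  have shift : ∀ b c d : A, α * b = c * α → α * c = d * α → c * d = d * c → c * c = s → d * d = s →
      (d + c) * (d - b) = 0 := by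
    intro b c d hb hc hcd hcs hds
    have h1 : α * α * b = d * (α * α) := by rw [mul_assoc, hb, ← mul_assoc, hc, mul_assoc]
    rw [hαα] at h1
    have h2 : (α + α - 1) * b = c * α + c * α - b := by
      rw [sub_mul, add_mul, one_mul, hb]
    have h3 : d * (α + α - 1) = d * α + d * α - d := by noncomm_ring
    rw [h2, h3] at h1
    have h4 : d - b = (d - c) * α + (d - c) * α := by
      have : (d - b) - ((d - c) * α + (d - c) * α) =
          (c * α + c * α - b) - (d * α + d * α - d) := by noncomm_ring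
      rw [h1, sub_self] at this
      exact sub_eq_zero.1 this
    have h5 : (d + c) * (d - c) = 0 := by
      have : (d + c) * (d - c) = d * d - c * c + (c * d - d * c) := by noncomm_ring
      rw [this, hds, hcs, hcd]; noncomm_ring
    rw [h4, mul_add, ← mul_assoc, h5, zero_mul, add_zero]
  have e1 := shift b c d hb hc hcd hcs hds
  have e2 := shift c d b hc hd hdb hds hbs
  have e3 := shift d b c hd hb hbc hbs hcs
  have key : c * d - s = 0 := by
    have h : c * d - s = (3 : A) * (c * d - s) + ((b + d) * (b - c) + (c + b) * (c - d))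
        - (b * b - s) - (c * c - s) + (d * c - c * d) - (d * b - b * d) := by noncomm_ring
    rw [e2, e3, h3, hbs, hcs, hdb, ← hcd] at h
    simpa using h
  have hdc : d = c := by
    have h : s * (d - c) = 0 := by
      rw [← hcs, mul_assoc, mul_sub, sub_eq_zero.1 key, hcs, sub_self, mul_zero]
    exact sub_eq_zero.1 ((hs.mul_right_eq_zero).1 h)
  exact hα.mul_left_cancel (by rw [hb, hc, hdc])

variable {R : Type*} [Group R] {V : Type*} [CommGroup V]

/-- The elements mapping a subgroup into itself, as endomorphisms of it. -/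
theorem eq_on_invariant (hexp : ∀ v : V, v ^ 3 = 1) (ρ : R →* MulAut V) {α b c d : R} {U : Subgroup V}
    (hU : ∀ r ∈ ({α, b, c, d} : Set R), ∀ v ∈ U, ρ r v ∈ U) (hα3 : α ^ 3 = 1)
    (hq : ∀ v, ρ α (ρ α v * v⁻¹) = ρ α v * v⁻¹)
    (hb : α * b = c * α) (hc : α * c = d * α) (hd : α * d = b * α)
    (hbc : ∀ v ∈ U, ρ (b * c) v = ρ (c * b) v) (hcd : ∀ v ∈ U, ρ (c * d) v = ρ (d * c) v)
    (hdb : ∀ v ∈ U, ρ (d * b) v = ρ (b * d) v) {s : R} (hbs : b * b = s) (hcs : c * c = s) (hds : d * d = s)
    (hs : s * s = 1) : ∀ v ∈ U, ρ b v = ρ c v := by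
  let M : Submonoid R :=
    { carrier := {r | ∀ v ∈ U, ρ r v ∈ U}
      one_mem' := fun v hv => by simpa using hv
      mul_mem' := fun {x y} hx hy v hv => by rw [map_mul]; exact hx _ (hy v hv) }
  let φ : M →* AddMonoid.End (Additive U) :=
    { toFun := fun r => MonoidHom.toAdditive
        ({ toFun := fun v => ⟨ρ (r : R) (v : V), r.2 v v.2⟩
           map_one' := Subtype.ext (map_one (ρ (r : R)))
           map_mul' := fun v w => Subtype.ext (map_mul (ρ (r : R)) (v : V) w) } : U →* U)
      map_one' := DFunLike.ext _ _ fun v => Subtype.ext (show ρ 1 _ = _ by rw [map_one]; rfl)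
      map_mul' := fun x y => DFunLike.ext _ _ fun v => Subtype.ext (show ρ ((x : R) * y) _ = _ by rw [map_mul]; rfl) }
  have hφ : ∀ (x y : M), (∀ v ∈ U, ρ (x : R) v = ρ (y : R) v) → φ x = φ y := fun x y h =>
    DFunLike.ext _ _ fun v => Subtype.ext (h _ (Additive.toMul v).2)
  have ha : α ∈ M := hU α (by simp)
  have hbM : b ∈ M := hU b (by simp)
  have hcM : c ∈ M := hU c (by simp)
  have hdM : d ∈ M := hU d (by simp)
  set a' : M := ⟨α, ha⟩
  set b' : M := ⟨b, hbM⟩
  set c' : M := ⟨c, hcM⟩
  set d' : M := ⟨d, hdM⟩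
  have hh : ∀ x y : M, (x : R) = y → φ x = φ y := fun x y h => by rw [Subtype.ext h]
  have h3 : (3 : AddMonoid.End (Additive U)) = 0 := by
    refine DFunLike.ext _ _ fun v => ?_
    show ((3 : ℕ) : AddMonoid.End (Additive U)) v = 0
    rw [AddMonoid.End.natCast_apply]
    exact congrArg Additive.ofMul (Subtype.ext (by
      rw [SubmonoidClass.coe_pow, Subgroup.coe_one]; exact hexp _))
  have hsM : s ∈ M := hbs ▸ mul_mem hbM hbM
  set s' : M := ⟨s, hsM⟩
  have hunit : IsUnit (φ a') := by
    refine IsUnit.map φ ⟨⟨a', a' ^ 2, Subtype.ext ?_, Subtype.ext ?_⟩, rfl⟩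
    · show α * α ^ 2 = 1
      rw [← pow_succ', hα3]
    · show α ^ 2 * α = 1
      rw [← pow_succ, hα3]
  have hsu : IsUnit (φ s') := IsUnit.map φ ⟨⟨s', s', Subtype.ext hs, Subtype.ext hs⟩, rfl⟩
  have hsq : (φ a' - 1) * (φ a' - 1) = 0 := by
    refine DFunLike.ext _ _ fun v => ?_
    apply Additive.toMul.injective
    apply Subtype.ext
    show ρ α (ρ α (Additive.toMul v : U) / (Additive.toMul v : U) : V) /
      (ρ α (Additive.toMul v : U) / (Additive.toMul v : U) : V) = 1
    rw [div_eq_one, div_eq_mul_inv]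
    exact hq _
  have key := ring_cyclic_eq h3 hunit hsq (s := φ s')
    (b := φ b') (c := φ c') (d := φ d')
    (by rw [← map_mul, ← map_mul]; exact hh _ _ hb) (by rw [← map_mul, ← map_mul]; exact hh _ _ hc)
    (by rw [← map_mul, ← map_mul]; exact hh _ _ hd)
    (by rw [← map_mul, ← map_mul]; exact hφ _ _ hbc) (by rw [← map_mul, ← map_mul]; exact hφ _ _ hcd)
    (by rw [← map_mul, ← map_mul]; exact hφ _ _ hdb)
    (by rw [← map_mul]; exact hh _ _ hbs) (by rw [← map_mul]; exact hh _ _ hcs)
    (by rw [← map_mul]; exact hh _ _ hds) hsu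
  intro v hv
  exact congrArg Subtype.val (DFunLike.congr_fun key (Additive.ofMul (⟨v, hv⟩ : U)))

/-- Commuting involutory automorphisms of an abelian group without elements of order two are determined by
their fixed points. -/
theorem eq_of_fixed_eq [Finite V] (hodd : Odd (Nat.card V)) {v w : MulAut V} (hv : v * v = 1) (hw : w * w = 1)
    (hvw : v * w = w * v) (h : ∀ x, v x = x ↔ w x = x) : v = w := by
  have hvv : ∀ x, v (v x) = x := fun x => DFunLike.congr_fun hv x
  have hww : ∀ x, w (w x) = x := fun x => DFunLike.congr_fun hw x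
  have hc : ∀ x, v (w x) = w (v x) := fun x => DFunLike.congr_fun hvw x
  have hsq : ∀ x : V, v (x * x) = w (x * x) := by
    intro x
    have hy : w (x * v x) = x * v x := (h _).1 (by rw [map_mul, hvv, mul_comm])
    set z := x * (v x)⁻¹ with hz
    have hvz : v z = z⁻¹ := by rw [hz, map_mul, map_inv, hvv, mul_inv_rev, inv_inv]
    have h2 : w z = z⁻¹ := by
      have h3 : v (z * w z) = z * w z := (h _).2 (by rw [map_mul, hww, mul_comm])
      rw [map_mul, hc, hvz, map_inv, ← mul_inv] at h3
      have h4 : (z * w z) * (z * w z) = 1 := inv_eq_iff_mul_eq_one.1 h3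
      have h5 : z * w z = 1 := orderOf_eq_one_iff.1 (Nat.eq_one_of_dvd_coprimes (Nat.coprime_two_left.2 hodd)
        (orderOf_dvd_of_pow_eq_one (by rw [pow_two, h4])) (orderOf_dvd_natCard _))
      exact eq_inv_of_mul_eq_one_right h5
    have hxx : x * x = (x * v x) * z := by rw [hz]; rw [mul_mul_mul_comm]; simp
    rw [hxx, map_mul v (x * v x) z, map_mul w (x * v x) z, hy, (h _).2 hy, hvz, h2]
  refine MulEquiv.ext fun x => ?_
  obtain ⟨m, hm⟩ := exists_pow_eq_self_of_coprime
    (show Nat.Coprime 2 (orderOf x) from Nat.coprime_two_left.2 (hodd.of_dvd_nat (orderOf_dvd_natCard x)))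
  rw [← hm, pow_two, map_pow, map_pow, hsq]

end Cfsg.Agent.SESolv
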