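import Cfsg.Agent.Lib.SESolv.QuadAlg
import Cfsg.Agent.Lib.CharP.AxB
import Cfsg.Agent.Lib.Involutions.StronglyEmbedded

/-!
A quadratic element of a faithful group with one class of involutions and trivial 3-core is trivial.
-/

set_option autoImplicit false
set_option linter.style.haveILetI false
set_option linter.unusedSectionVars false

namespace Cfsg.Agent.SESolv

open Cfsg Subgroup

variable {R : Type*} [Group R] [Finite R] [Group.IsSolvable R] {V : Type*} [CommGroup V] [Finite V]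

/-- The 3-part of the centre of the odd core is trivial when the 3-core is. -/
theorem eq_one_of_central [Fact (Nat.Prime 3)] (hR : Cfsg.pCore 3 R = ⊥) {z : R} (hz : z ^ 3 = 1)
    (hzW : z ∈ Cfsg.oddCore R) (hc : ∀ w ∈ Cfsg.oddCore R, z * w = w * z) : z = 1 := by
  haveI : (Cfsg.oddCore R).Normal := FittingCores.pPrimeCore_normal 2
  haveI := Cfsg.pCore_normal 3 (Cfsg.oddCore R)
  have hn : (Subgroup.zpowers (⟨z, hzW⟩ : Cfsg.oddCore R)).Normal := by
    refine ⟨fun x hx g => ?_⟩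
    obtain ⟨i, rfl⟩ := hx
    have hcg : Commute (g : Cfsg.oddCore R) ⟨z, hzW⟩ := Subtype.ext (hc g g.2).symm
    rw [(hcg.zpow_right i).eq, mul_inv_cancel_right]
    exact ⟨i, rfl⟩
  have hp : IsPGroup 3 (Subgroup.zpowers (⟨z, hzW⟩ : Cfsg.oddCore R)) := by
    intro x
    obtain ⟨i, hi⟩ := Subgroup.mem_zpowers_iff.1 x.2
    refine ⟨1, Subtype.ext ?_⟩
    rw [pow_one, Subgroup.coe_pow, ← hi, ← zpow_natCast, zpow_comm, zpow_natCast,
      show (⟨z, hzW⟩ : Cfsg.oddCore R) ^ 3 = 1 from Subtype.ext hz, one_zpow, Subgroup.coe_one]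
  haveI := PBasic.pCore_characteristic 3 (Cfsg.oddCore R)
  have hle : (Cfsg.pCore 3 (Cfsg.oddCore R)).map (Cfsg.oddCore R).subtype ≤ Cfsg.pCore 3 R :=
    PBasic.le_pCore inferInstance ((PBasic.pCore_isPGroup 3 _).map _)
  have h1 : z ∈ Cfsg.pCore 3 R :=
    hle ⟨⟨z, hzW⟩, PBasic.le_pCore hn hp (mem_zpowers _), rfl⟩
  rwa [hR, Subgroup.mem_bot] at h1

theorem quadratic_eq_one [Fact (Nat.Prime 3)] (hX : Shape R) (ρ : R →* MulAut V)
    (hinj : Function.Injective ρ) (hexp : ∀ v : V, v ^ 3 = 1) (hR : Cfsg.pCore 3 R = ⊥)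
    (hconj : ∀ s t : R, orderOf s = 2 → orderOf t = 2 → IsConj s t)
    (hfour : ∃ s t : R, orderOf s = 2 ∧ orderOf t = 2 ∧ s ≠ t ∧ s * t = t * s)
    {α : R} (hq : ∀ v, ρ α (ρ α v * v⁻¹) = ρ α v * v⁻¹) : α = 1 := by
  haveI : Fact (Nat.Prime 2) := ⟨Nat.prime_two⟩
  set W := Cfsg.oddCore R with hW
  haveI hWn : W.Normal := FittingCores.pPrimeCore_normal 2
  have hWodd : Odd (Nat.card W) := oddCore_odd
  have hα3 : α ^ 3 = 1 := hinj (by
    haveI : Module (ZMod 3) (Additive V) := AddCommGroup.zmodModule fun v => hexp (Additive.toMul v)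
    rw [map_pow, PStable.pow_eq_one_of_quad (p := 3) hq, map_one])
  have hVodd : Odd (Nat.card V) := by
    obtain ⟨n, hn⟩ := IsPGroup.iff_card.1 (fun v => ⟨1, by rw [pow_one]; exact hexp v⟩ : IsPGroup 3 V)
    rw [hn]; exact (by decide : Odd 3).pow
  have hαz : IsPGroup 3 (Subgroup.zpowers α) := fun x => by
    obtain ⟨i, hi⟩ := Subgroup.mem_zpowers_iff.1 x.2
    exact ⟨1, Subtype.ext (by
      rw [pow_one, Subgroup.coe_pow, ← hi, ← zpow_natCast, zpow_comm, zpow_natCast, hα3, one_zpow,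
        Subgroup.coe_one])⟩
  -- `α` centralises the odd core
  have hαW : ∀ w ∈ W, α * w = w * α := by
    set K := W ⊔ Subgroup.zpowers α with hK
    have hαK : α ∈ K := mem_sup_right (mem_zpowers α)
    have hKodd : Odd (Nat.card K) := by
      obtain ⟨n, hn⟩ := IsPGroup.iff_card.1 hαz
      have h1 := AxB.card_sup_dvd (G := R) (Subgroup.zpowers α) W
      rw [sup_comm] at h1
      refine Odd.of_dvd_nat ?_ h1
      rw [hn]
      exact (Odd.pow (by decide)).mul hWodd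
    have hαp : (⟨α, hαK⟩ : K) ∈ Cfsg.pCore 3 K := by
      by_contra hna
      obtain ⟨K', ψ, -, -, -, hψ, -⟩ := PStable.exists_natural_section (p := 3) (by decide) hexp
        (ρ.comp K.subtype) (hinj.comp K.subtype_injective) (a := ⟨α, hαK⟩) hq hna
      have h2 : orderOf (-1 : Matrix.SpecialLinearGroup (Fin 2) (ZMod 3)) = 2 :=
        orderOf_eq_prime (by rw [pow_two]; simp) (by decide)
      have h3 : 2 ∣ Nat.card K := by
        rw [← h2]
        exact (_root_.orderOf_dvd_natCard _).trans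
          ((Subgroup.card_dvd_of_surjective ψ hψ).trans (Subgroup.card_subgroup_dvd_card K'))
      exact Nat.not_even_iff_odd.2 hKodd (even_iff_two_dvd.2 h3)
    intro w hw
    set Q := (Cfsg.pCore 3 K).map K.subtype with hQ
    have hQn : ∀ k ∈ K, ∀ x ∈ Q, k * x * k⁻¹ ∈ Q := by
      rintro k hk _ ⟨x, hx, rfl⟩
      exact ⟨⟨k, hk⟩ * x * ⟨k, hk⟩⁻¹, (Cfsg.pCore_normal 3 K).conj_mem x hx _, rfl⟩
    haveI hQWn : ((Q ⊓ W).subgroupOf W).Normal := ⟨fun x hx g =>
      ⟨hQn g (mem_sup_left g.2) x hx.1, W.mul_mem (W.mul_mem g.2 x.2) (W.inv_mem g.2)⟩⟩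
    have hQp : IsPGroup 3 ((Q ⊓ W).subgroupOf W) :=
      (((PBasic.pCore_isPGroup 3 K).map _).to_le inf_le_left).comap_subtype
    haveI := Cfsg.pCore_normal 3 W
    haveI := PBasic.pCore_characteristic 3 W
    have hle : (Cfsg.pCore 3 W).map W.subtype ≤ Cfsg.pCore 3 R :=
      PBasic.le_pCore inferInstance ((PBasic.pCore_isPGroup 3 _).map _)
    have hαQ : α ∈ Q := ⟨⟨α, hαK⟩, hαp, rfl⟩
    have hc : α * w * α⁻¹ * w⁻¹ ∈ Q ⊓ W := by
      refine ⟨?_, W.mul_mem (hWn.conj_mem w hw α) (W.inv_mem hw)⟩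
      rw [show α * w * α⁻¹ * w⁻¹ = α * (w * α⁻¹ * w⁻¹) by group]
      exact mul_mem hαQ (hQn w (mem_sup_left hw) _ (inv_mem hαQ))
    have h1 := hle ⟨⟨_, hc.2⟩, PBasic.le_pCore hQWn hQp hc, rfl⟩
    rw [hR, Subgroup.mem_bot] at h1
    exact mul_inv_eq_iff_eq_mul.1 (mul_inv_eq_one.1 h1)
  -- `α` normalises a Sylow 2-subgroup
  obtain ⟨S⟩ : Nonempty (Sylow 2 R) := inferInstance
  obtain ⟨hS1, hS2, hS3⟩ := hX S S.isPGroup'
  have hM := sylow_sup_normal hX S
  have hdec : ∀ x ∈ (S : Subgroup R) ⊔ W, ∃ w ∈ W, ∃ s ∈ (S : Subgroup R), x = w * s := by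
    intro x hx
    rw [sup_comm, ← SetLike.mem_coe, Subgroup.normal_mul] at hx
    obtain ⟨w, hw, s, hs, rfl⟩ := hx
    exact ⟨w, hw, s, hs, rfl⟩
  have hcw : ∀ s ∈ (S : Subgroup R), ∀ w ∈ W, (∀ v ∈ W, w * s * v = v * (w * s)) →
      ∀ v ∈ W, s * v = v * s ∧ w * v = v * w := by
    intro s hs w hw hws v hv
    have hswcomm : s * w = w * s := by
      have h := hws w hw
      rw [mul_assoc, mul_left_cancel_iff] at h
      exact h
    obtain ⟨n, hn⟩ := S.isPGroup' ⟨s, hs⟩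
    have hsn : s ^ 2 ^ n = 1 := by simpa using congrArg Subtype.val hn
    have hpow : (w * s) ^ 2 ^ n = w ^ 2 ^ n := by
      rw [(show Commute w s from hswcomm.symm).mul_pow, hsn, mul_one]
    have hwk : Commute (w ^ 2 ^ n) v := hpow ▸ (show Commute (w * s) v from hws v hv).pow_left _
    obtain ⟨m, hm⟩ := exists_pow_eq_self_of_coprime (show Nat.Coprime (2 ^ n) (orderOf w) from
      (Nat.coprime_two_left.2 (hWodd.of_dvd_nat (Subgroup.orderOf_dvd_natCard W hw))).pow_left n)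
    have hwv : w * v = v * w := hm ▸ (hwk.pow_left m).eq
    refine ⟨?_, hwv⟩
    have h := hws v hv
    rw [mul_assoc, ← mul_assoc v, ← hwv, mul_assoc, mul_left_cancel_iff] at h
    exact h
  have hA : ∀ s ∈ (S : Subgroup R), ∃ z ∈ W, (∀ v ∈ W, z * v = v * z) ∧
      ∃ s₀ ∈ (S : Subgroup R), (∀ v ∈ W, s₀ * v = v * s₀) ∧ α * s * α⁻¹ = z * s₀ * s := by
    intro s hs
    have hc : α * s * α⁻¹ * s⁻¹ ∈ (S : Subgroup R) ⊔ W :=
      mul_mem (hM.conj_mem s (mem_sup_left hs) α) (mem_sup_left (inv_mem hs))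
    obtain ⟨w, hw, s₀, hs₀, e⟩ := hdec _ hc
    have hcent : ∀ v ∈ W, w * s₀ * v = v * (w * s₀) := fun v hv => by
      rw [← e]
      have h1 : s * α⁻¹ * s⁻¹ * v = v * (s * α⁻¹ * s⁻¹) := by
        have h := (show Commute α⁻¹ (s⁻¹ * v * s) from
          (show Commute α _ from hαW _ (by simpa using hWn.conj_mem v hv s⁻¹)).inv_left).eq
        calc s * α⁻¹ * s⁻¹ * v = s * (α⁻¹ * (s⁻¹ * v * s)) * s⁻¹ := by group
          _ = s * (s⁻¹ * v * s * α⁻¹) * s⁻¹ := by rw [h]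
          _ = _ := by group
      calc α * s * α⁻¹ * s⁻¹ * v = α * (s * α⁻¹ * s⁻¹ * v) := by group
        _ = α * v * (s * α⁻¹ * s⁻¹) := by rw [h1]; group
        _ = _ := by rw [hαW v hv]; group
    refine ⟨w, hw, fun v hv => (hcw s₀ hs₀ w hw hcent v hv).2, s₀, hs₀,
      fun v hv => (hcw s₀ hs₀ w hw hcent v hv).1, ?_⟩
    rw [← e, inv_mul_cancel_right]
  have hS0 : ∀ s ∈ (S : Subgroup R), (∀ v ∈ W, s * v = v * s) → α * s * α⁻¹ ∈ (S : Subgroup R) := by
    intro s hs hsW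
    obtain ⟨z, hz, hzc, s₀, hs₀, hs₀W, e⟩ := hA s hs
    have hs' : s₀ * s ∈ (S : Subgroup R) := mul_mem hs₀ hs
    obtain ⟨n, hn⟩ := S.isPGroup' ⟨s, hs⟩
    have hsn : s ^ 2 ^ n = 1 := by simpa using congrArg Subtype.val hn
    have hzs : Commute z (s₀ * s) :=
      (show Commute s₀ z from hs₀W z hz).symm.mul_right (show Commute s z from hsW z hz).symm
    have h1 : (z * (s₀ * s)) ^ 2 ^ n = 1 := by
      rw [← mul_assoc, ← e, conj_pow, hsn]; group
    rw [hzs.mul_pow] at h1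
    have h2 : z ^ 2 ^ n = 1 := eq_one_of_two_of_odd S.isPGroup' hWodd
      ((eq_inv_of_mul_eq_one_left h1).symm ▸ inv_mem (pow_mem hs' _)) (pow_mem hz _)
    have hz1 : z = 1 := orderOf_eq_one_iff.1 (Nat.eq_one_of_dvd_coprimes
      ((Nat.coprime_two_left.2 (hWodd.of_dvd_nat (Subgroup.orderOf_dvd_natCard W hz))).pow_left n)
      (orderOf_dvd_of_pow_eq_one h2) dvd_rfl)
    rw [e, hz1, one_mul]
    exact hs'
  have hαS : ∀ s ∈ (S : Subgroup R), α * s * α⁻¹ ∈ (S : Subgroup R) := by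
    intro s hs
    obtain ⟨z, hz, hzc, s₀, hs₀, hs₀W, e⟩ := hA s hs
    have hzα : α * z * α⁻¹ = z := by rw [hαW z hz, mul_inv_cancel_right]
    set a₁ := α * s₀ * α⁻¹ with ha₁
    have ha₁S : a₁ ∈ (S : Subgroup R) := hS0 s₀ hs₀ hs₀W
    have ha₁W : ∀ v ∈ W, a₁ * v = v * a₁ := fun v hv => by
      have h := hs₀W _ (show α⁻¹ * v * α⁻¹⁻¹ ∈ W from hWn.conj_mem v hv α⁻¹)
      calc a₁ * v = α * (s₀ * (α⁻¹ * v * α⁻¹⁻¹)) * α⁻¹ := by rw [ha₁]; group
        _ = α * (α⁻¹ * v * α⁻¹⁻¹ * s₀) * α⁻¹ := by rw [h]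
        _ = _ := by rw [ha₁]; group
    set a₂ := α * a₁ * α⁻¹ with ha₂
    have ha₂S : a₂ ∈ (S : Subgroup R) := hS0 a₁ ha₁S ha₁W
    have ha₂W : ∀ v ∈ W, a₂ * v = v * a₂ := fun v hv => by
      have h := ha₁W _ (show α⁻¹ * v * α⁻¹⁻¹ ∈ W from hWn.conj_mem v hv α⁻¹)
      calc a₂ * v = α * (a₁ * (α⁻¹ * v * α⁻¹⁻¹)) * α⁻¹ := by rw [ha₂]; group
        _ = α * (α⁻¹ * v * α⁻¹⁻¹ * a₁) * α⁻¹ := by rw [h]
        _ = _ := by rw [ha₂]; group
    have h2 : α * (α * s * α⁻¹) * α⁻¹ = z * z * (a₁ * s₀ * s) := by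
      calc α * (α * s * α⁻¹) * α⁻¹ = α * (z * s₀ * s) * α⁻¹ := by rw [e]
        _ = (α * z * α⁻¹) * a₁ * (α * s * α⁻¹) := by rw [ha₁]; group
        _ = z * (a₁ * z) * (s₀ * s) := by rw [hzα, e]; group
        _ = _ := by rw [ha₁W z hz]; group
    have h3 : α * (α * (α * s * α⁻¹) * α⁻¹) * α⁻¹ = z * z * z * (a₂ * a₁ * s₀ * s) := by
      calc α * (α * (α * s * α⁻¹) * α⁻¹) * α⁻¹
          = (α * z * α⁻¹) * (α * z * α⁻¹) * a₂ * a₁ * (α * s * α⁻¹) := by rw [h2, ha₂, ha₁]; group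
        _ = z * z * (a₂ * a₁ * z) * (s₀ * s) := by rw [hzα, e]; group
        _ = z * z * (a₂ * (z * a₁)) * (s₀ * s) := by rw [mul_assoc a₂, ha₁W z hz]
        _ = z * z * (a₂ * z) * a₁ * (s₀ * s) := by group
        _ = _ := by rw [ha₂W z hz]; group
    have h4 : α * (α * (α * s * α⁻¹) * α⁻¹) * α⁻¹ = s := by
      rw [show α * (α * (α * s * α⁻¹) * α⁻¹) * α⁻¹ = α ^ 3 * s * (α ^ 3)⁻¹ by rw [pow_three']; group, hα3, one_mul, inv_one,
        mul_one]
    have hz3 : z ^ 3 = 1 := by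
      refine eq_one_of_two_of_odd S.isPGroup' hWodd ?_ (pow_mem hz 3)
      rw [show z ^ 3 = z * z * z from pow_three' z, eq_mul_inv_of_mul_eq (h3.symm.trans h4)]
      exact mul_mem hs (inv_mem (mul_mem (mul_mem (mul_mem ha₂S ha₁S) hs₀) hs))
    rw [e, eq_one_of_central hR hz3 hz hzc, one_mul]
    exact mul_mem hs₀ hs
  -- equality of conjugates
  have halg : ∀ (b : R) (U : Subgroup V), b ∈ (S : Subgroup R) →
      α * (b * b) * α⁻¹ = b * b →
      (∀ v ∈ U, ρ α v ∈ U) → (∀ x ∈ (S : Subgroup R), ∀ v ∈ U, ρ x v ∈ U) →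
      (∀ v ∈ U, ρ (b * (α * b * α⁻¹)) v = ρ (α * b * α⁻¹ * b) v) →
      ∀ v ∈ U, ρ b v = ρ (α * b * α⁻¹) v := by
    intro b U hb hbb hUα hUS hcomm
    set c := α * b * α⁻¹ with hc
    set d := α * c * α⁻¹ with hd
    have hcS : c ∈ (S : Subgroup R) := hαS b hb
    have hdS : d ∈ (S : Subgroup R) := hαS c hcS
    have hd3 : α * d * α⁻¹ = b := by
      rw [hd, hc, show α * (α * (α * b * α⁻¹) * α⁻¹) * α⁻¹ = α ^ 3 * b * (α ^ 3)⁻¹ by rw [pow_three']; group, hα3, one_mul,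
        inv_one, mul_one]
    have hαi : ∀ v ∈ U, ρ α⁻¹ v ∈ U := fun v hv => by
      rw [show α⁻¹ = α * α from inv_eq_of_mul_eq_one_right (by rw [← mul_assoc, ← pow_three', hα3]), map_mul]
      exact hUα _ (hUα _ hv)
    have hshift : ∀ x y : R, (∀ v ∈ U, ρ (x * y) v = ρ (y * x) v) →
        ∀ v ∈ U, ρ (α * x * α⁻¹ * (α * y * α⁻¹)) v = ρ (α * y * α⁻¹ * (α * x * α⁻¹)) v := by
      intro x y hxy v hv
      rw [show α * x * α⁻¹ * (α * y * α⁻¹) = α * ((x * y) * α⁻¹) by group,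
        show α * y * α⁻¹ * (α * x * α⁻¹) = α * ((y * x) * α⁻¹) by group, map_mul ρ α, map_mul ρ α,
        map_mul ρ (x * y), map_mul ρ (y * x)]
      exact congrArg (ρ α) (hxy _ (hαi v hv))
    have h2 := hshift b c hcomm
    rw [← hc, ← hd] at h2
    have h3 := hshift c d h2
    rw [← hd, hd3] at h3
    refine eq_on_invariant hexp ρ (U := U) ?_ hα3 hq (by rw [hc]; group) (by rw [hd]; group)
      (by rw [← hd3]; group) hcomm h2 h3 rfl ?_ ?_ (hS1 b hb)
    · intro r hr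
      simp only [Set.mem_insert_iff, Set.mem_singleton_iff] at hr
      rcases hr with rfl | rfl | rfl | rfl
      · exact hUα
      · exact hUS _ hb
      · exact hUS _ hcS
      · exact hUS _ hdS
    · rw [hc, show α * b * α⁻¹ * (α * b * α⁻¹) = α * (b * b) * α⁻¹ by group, hbb]
    · rw [hd, hc, show α * (α * b * α⁻¹) * α⁻¹ * (α * (α * b * α⁻¹) * α⁻¹) =
        α * (α * (b * b) * α⁻¹) * α⁻¹ by group, hbb, hbb]
  have htop : ∀ b ∈ (S : Subgroup R), α * (b * b) * α⁻¹ = b * b →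
      b * (α * b * α⁻¹) = α * b * α⁻¹ * b → α * b * α⁻¹ = b := fun b hb hbb hcm =>
    hinj (MulEquiv.ext fun v => (halg b ⊤ hb hbb (fun _ _ => mem_top _) (fun _ _ _ _ => mem_top _)
      (fun v _ => by rw [hcm]) v (mem_top v)).symm)
  -- involutions are fixed
  have hinv : ∀ b ∈ (S : Subgroup R), b * b = 1 → α * b * α⁻¹ = b := fun b hb hb1 =>
    htop b hb (by rw [hb1]; group) (hS2 b hb hb1 _ (hαS b hb))
  -- all elements are fixed
  have hfix : ∀ b ∈ (S : Subgroup R), α * b * α⁻¹ = b := by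
    intro b hb
    have hsq := hinv _ (mul_mem hb hb) (hS1 b hb)
    set c := α * b * α⁻¹ with hc
    have hcS : c ∈ (S : Subgroup R) := hαS b hb
    set t := b * c * b⁻¹ * c⁻¹ with ht
    have htS : t ∈ (S : Subgroup R) := mul_mem (mul_mem (mul_mem hb hcS) (inv_mem hb)) (inv_mem hcS)
    have ht2 : t * t = 1 := hX.comm_sq S.isPGroup' hb hcS
    by_cases ht1 : t = 1
    · exact htop b hb hsq (mul_inv_eq_iff_eq_mul.1 (mul_inv_eq_one.1 ht1))
    exfalso
    have htord : orderOf t = 2 := Invol.order_two_of_sq ht2 ht1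
    have htα : α * t * α⁻¹ = t := hinv t htS ht2
    let Fx : R → Subgroup V := fun r => (ρ r).toMonoidHom.eqLocus (MonoidHom.id V)
    have hFx : ∀ (r : R) (v : V), v ∈ Fx r ↔ ρ r v = v := fun _ _ => Iff.rfl
    have hFconj : ∀ (m r : R) (v : V), v ∈ Fx r → ρ m v ∈ Fx (m * r * m⁻¹) := by
      intro m r v hv
      rw [hFx] at hv ⊢
      rw [← MulAut.mul_apply, ← map_mul, inv_mul_cancel_right, map_mul, MulAut.mul_apply, hv]
    -- the kernel at an involution
    let K : R → Subgroup R := fun r =>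
      { carrier := {x | x ∈ (S : Subgroup R) ∧ ∀ v ∈ Fx r, ρ x v = v}
        one_mem' := ⟨one_mem _, fun v _ => by simp⟩
        mul_mem' := fun {x y} hx hy => ⟨mul_mem hx.1 hy.1, fun v hv => by
          rw [map_mul, MulAut.mul_apply, hy.2 v hv, hx.2 v hv]⟩
        inv_mem' := fun {x} hx => ⟨inv_mem hx.1, fun v hv => by
          have h := congrArg (ρ x⁻¹) (hx.2 v hv)
          rw [← MulAut.mul_apply, ← map_mul, inv_mul_cancel, map_one, MulAut.one_apply] at h
          exact h.symm⟩ }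
    have hKnorm : ∀ {r : R}, r ∈ (S : Subgroup R) → r * r = 1 →
        ∀ x ∈ (S : Subgroup R), ∀ y ∈ K r, x * y * x⁻¹ ∈ K r := by
      intro r hrS hr x hx y hy
      refine ⟨mul_mem (mul_mem hx hy.1) (inv_mem hx), fun v hv => ?_⟩
      have hv' : ρ x⁻¹ v ∈ Fx r := by
        have := hFconj x⁻¹ r v hv
        rwa [← hS2 r hrS hr x⁻¹ (inv_mem hx), inv_inv, inv_mul_cancel_right] at this
      rw [map_mul, map_mul, MulAut.mul_apply, MulAut.mul_apply, hy.2 _ hv', ← MulAut.mul_apply, ← map_mul,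
        mul_inv_cancel, map_one, MulAut.one_apply]
    -- the quotient `g`
    have hg : ∀ v ∈ Fx t, ρ b v = ρ c v := by
      refine halg b (Fx t) hb hsq (fun v hv => htα ▸ hFconj α t v hv) (fun x hx v hv => ?_) fun v hv => ?_
      · have := hFconj x t v hv
        rwa [← hS2 t htS ht2 x hx, mul_inv_cancel_right] at this
      · have h1 : ρ (c * b) v ∈ Fx t := by
          have := hFconj (c * b) t v hv
          rwa [← hS2 t htS ht2 (c * b) (mul_mem hcS hb), mul_inv_cancel_right] at this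
        rw [show b * c = t * (c * b) by rw [ht]; group, map_mul ρ t, MulAut.mul_apply]
        exact h1
    set g := b⁻¹ * c with hgd
    have hgK : g ∈ K t := ⟨mul_mem (inv_mem hb) hcS, fun v hv => by
      rw [hgd, map_mul, MulAut.mul_apply, ← hg v hv, ← MulAut.mul_apply, ← map_mul, inv_mul_cancel, map_one,
        MulAut.one_apply]⟩
    have hg2 : g * g ≠ 1 := fun h => ht1 (by
      have hcom := hS2 g hgK.1 h b hb
      have hcb : c = b * g := by rw [hgd, mul_inv_cancel_left]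
      rw [ht, hcb, show b * (b * g) * b⁻¹ * (b * g)⁻¹ = b * (b * g * b⁻¹ * g⁻¹) * b⁻¹ by group, ← hcom]
      group)
    -- a second involution
    obtain ⟨w, hwS, hw, hwt⟩ : ∃ w ∈ (S : Subgroup R), orderOf w = 2 ∧ w ≠ t := by
      obtain ⟨u, u', hu, hu', hne, hcomm⟩ := hfour
      let A : Subgroup R :=
        { carrier := {x | x * x = 1 ∧ x * u = u * x ∧ x * u' = u' * x ∧
            x ∈ ({1, u, u', u * u'} : Set R)}
          one_mem' := by simp
          mul_mem' := by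
            rintro x y ⟨hx, hxu, hxu', hxm⟩ ⟨hy, hyu, hyu', hym⟩
            have hxy : x * y = y * x := by
              simp only [Set.mem_insert_iff, Set.mem_singleton_iff] at hym
              rcases hym with rfl | rfl | rfl | rfl
              · simp
              · exact hxu
              · exact hxu'
              · rw [← mul_assoc, hxu, mul_assoc, hxu', ← mul_assoc]
            refine ⟨by rw [mul_assoc, ← mul_assoc y, ← hxy, mul_assoc, hy, mul_one, hx],
              by rw [mul_assoc, hyu, ← mul_assoc, hxu, mul_assoc],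
              by rw [mul_assoc, hyu', ← mul_assoc, hxu', mul_assoc], ?_⟩
            have e1 := Invol.mul_self hu
            have e2 := Invol.mul_self hu'
            have e3 : u' * (u * u') = u := by rw [hcomm, ← mul_assoc, e2, one_mul]
            have e4 : u * u' * u = u' := by rw [hcomm, mul_assoc, e1, mul_one]
            have e5 : u * u' * u' = u := by rw [mul_assoc, e2, mul_one]
            have e6 : u * (u * u') = u' := by rw [← mul_assoc, e1, one_mul]
            have e7 : u * u' * (u * u') = 1 := by rw [← mul_assoc, e4, e2]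
            simp only [Set.mem_insert_iff, Set.mem_singleton_iff] at hxm hym ⊢
            rcases hxm with rfl | rfl | rfl | rfl <;> rcases hym with rfl | rfl | rfl | rfl <;>
              simp [e1, e2, e3, e4, e5, e6, e7, hcomm.symm]
          inv_mem' := fun {x} hx => by rwa [inv_eq_of_mul_eq_one_right hx.1] }
      have hA2 : IsPGroup 2 A := fun x => ⟨1, Subtype.ext (by rw [pow_one, Subgroup.coe_pow, pow_two]; exact x.2.1)⟩
      obtain ⟨P, hP⟩ := hA2.exists_le_sylow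
      obtain ⟨m, hm⟩ := MulAction.exists_smul_eq R P S
      have hmem : ∀ x ∈ A, m * x * m⁻¹ ∈ (S : Subgroup R) := fun x hx => by
        rw [← hm]; exact ⟨x, hP hx, rfl⟩
      have huA : u ∈ A := ⟨Invol.mul_self hu, rfl, hcomm, by simp⟩
      have hu'A : u' ∈ A := ⟨Invol.mul_self hu', hcomm.symm, rfl, by simp⟩
      by_cases h : m * u * m⁻¹ = t
      · exact ⟨_, hmem u' hu'A, by rw [Invol.order_conj, hu'], fun h' => hne (by simpa using h.trans h'.symm)⟩
      · exact ⟨_, hmem u huA, by rw [Invol.order_conj, hu], h⟩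
    obtain ⟨m₀, hm₀⟩ := isConj_iff.1 (hconj t w htord hw)
    obtain ⟨n, hn, hnw⟩ := exists_normalizer_conj hX S htS hwS hm₀
    have hKK : ∀ x, x ∈ K t → x ∈ K w → x = 1 := by
      intro x hxt hxw
      by_contra hx1
      obtain ⟨k, hk⟩ := S.isPGroup' ⟨x, hxt.1⟩
      have hev : Even (Nat.card (Subgroup.zpowers x)) := by
        rw [Nat.card_zpowers]
        obtain ⟨j, -, hj⟩ := (Nat.dvd_prime_pow Nat.prime_two).1
          (orderOf_dvd_of_pow_eq_one (show x ^ 2 ^ k = 1 by simpa using congrArg Subtype.val hk))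
        rw [hj, Nat.even_pow]
        exact ⟨even_two, fun h0 => hx1 (orderOf_eq_one_iff.1 (by rw [hj, h0, pow_zero]))⟩
      obtain ⟨u, huz, hu⟩ := Invol.exists_invol hev
      have huK : u ∈ K t := zpowers_le.2 hxt huz
      have huK' : u ∈ K w := zpowers_le.2 hxw huz
      have hcard : ∀ r : R, orderOf r = 2 → Nat.card (Fx r) = Nat.card (Fx t) := by
        intro r hr
        obtain ⟨m, hm⟩ := isConj_iff.1 (hconj t r htord hr)
        refine Nat.card_congr (Equiv.subtypeEquiv (ρ m).toEquiv (fun v => ⟨fun h => hm ▸ hFconj m t v h, fun h => ?_⟩)).symm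
        have h' := hFconj m⁻¹ _ _ h
        rw [← hm, show m⁻¹ * (m * t * m⁻¹) * m⁻¹⁻¹ = t by group] at h'
        change ρ m⁻¹ (ρ m v) ∈ Fx t at h'
        rwa [← MulAut.mul_apply, ← map_mul, inv_mul_cancel, map_one] at h'
      have e1 : Fx t = Fx u :=
        Subgroup.eq_of_le_of_card_ge (fun v hv => huK.2 v hv) (by rw [hcard u hu])
      have e2 : Fx w = Fx u :=
        Subgroup.eq_of_le_of_card_ge (fun v hv => huK'.2 v hv) (by rw [hcard u hu, hcard w hw])
      refine hwt (hinj (eq_of_fixed_eq hVodd (by rw [← map_mul, Invol.mul_self hw, map_one])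
        (by rw [← map_mul, ht2, map_one])
        (by rw [← map_mul, ← map_mul, hS2 t htS ht2 w hwS]) fun v => ?_))
      rw [← hFx, ← hFx, e1, e2]
    set g' := n * g * n⁻¹ with hg'
    have hg'K : g' ∈ K w := by
      refine ⟨(mem_normalizer_iff.1 hn g).1 hgK.1, fun v hv => ?_⟩
      have hv' : ρ n⁻¹ v ∈ Fx t := by
        have := hFconj n⁻¹ w v hv
        rwa [← hnw, show n⁻¹ * (n * t * n⁻¹) * n⁻¹⁻¹ = t by group] at this
      rw [hg', map_mul, map_mul, MulAut.mul_apply, MulAut.mul_apply, hgK.2 _ hv', ← MulAut.mul_apply, ← map_mul,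
        mul_inv_cancel, map_one, MulAut.one_apply]
    have hcg' : ∀ x ∈ K t, g' * x = x * g' := fun x hx => by
      have h : g' * x * g'⁻¹ * x⁻¹ = 1 := hKK _
        (mul_mem (hKnorm htS ht2 g' hg'K.1 x hx) (inv_mem hx))
        (by rw [show g' * x * g'⁻¹ * x⁻¹ = g' * (x * g'⁻¹ * x⁻¹) by group]
            exact mul_mem hg'K (hKnorm hwS (Invol.mul_self hw) x hx.1 _ (inv_mem hg'K)))
      exact mul_inv_eq_iff_eq_mul.1 (mul_inv_eq_one.1 h)
    have hg'2 : g' * g' ≠ 1 := fun h => hg2 (by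
      rw [hg', show n * g * n⁻¹ * (n * g * n⁻¹) = n * (g * g) * n⁻¹ by group, mul_inv_eq_one, mul_eq_left] at h
      exact h)
    have hαg : α * g * α⁻¹ ∈ K t := by
      refine ⟨hαS g hgK.1, fun v hv => ?_⟩
      have hv' : ρ α⁻¹ v ∈ Fx t := by
        have := hFconj α⁻¹ t v hv
        rwa [show α⁻¹ * t * α⁻¹⁻¹ = t by
          conv_lhs => rw [← htα]
          group] at this
      rw [map_mul, map_mul, MulAut.mul_apply, MulAut.mul_apply, hgK.2 _ hv', ← MulAut.mul_apply, ← map_mul,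
        mul_inv_cancel, map_one, MulAut.one_apply]
    have hgg := htop g hgK.1 (hinv _ (mul_mem hgK.1 hgK.1) (hS1 g hgK.1))
      (hS3 g' hg'K.1 hg'2 g hgK.1 _ hαg.1 (hcg' g hgK) (hcg' _ hαg))
    -- `c = b g` gives `g ^ 3 = 1`
    have hcb : c = b * g := by rw [hgd, mul_inv_cancel_left]
    have h2 : α * c * α⁻¹ = b * g * g := by
      calc α * c * α⁻¹ = (α * b * α⁻¹) * (α * g * α⁻¹) := by rw [hcb]; group
        _ = _ := by rw [hgg, ← hc, hcb]
    have h3 : α * (α * c * α⁻¹) * α⁻¹ = b * g * g * g := by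
      calc α * (α * c * α⁻¹) * α⁻¹ = (α * b * α⁻¹) * (α * g * α⁻¹) * (α * g * α⁻¹) := by rw [h2]; group
        _ = _ := by rw [hgg, ← hc, hcb]
    have h5 : b * g * g * g = b := h3.symm.trans (by
      rw [hc, show α * (α * (α * b * α⁻¹) * α⁻¹) * α⁻¹ = α ^ 3 * b * (α ^ 3)⁻¹ by rw [pow_three']; group, hα3,
        one_mul, inv_one, mul_one])
    have h4 : b * (g ^ 3) = b := by rw [pow_three' g, ← mul_assoc b (g * g) g, ← mul_assoc b g g, h5]
    obtain ⟨k, hk⟩ := S.isPGroup' ⟨g, hgK.1⟩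
    have hg1 : g = 1 := orderOf_eq_one_iff.1 (Nat.eq_one_of_dvd_coprimes
      (show Nat.Coprime (2 ^ k) 3 from (by norm_num : Nat.Coprime 2 3).pow_left k)
      (orderOf_dvd_of_pow_eq_one (show g ^ 2 ^ k = 1 by simpa using congrArg Subtype.val hk))
      (orderOf_dvd_of_pow_eq_one (mul_eq_left.1 h4)))
    exact hg2 (by rw [hg1, one_mul])
  -- hence `α` lies in the odd core
  have hαodd : Odd (orderOf α) := (by decide : Odd 3).of_dvd_nat (orderOf_dvd_of_pow_eq_one hα3)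
  exact eq_one_of_central hR hα3 (mem_oddCore_of_comm_mod hX S hαodd fun s hs => by
    rw [hfix s hs, mul_inv_cancel]; exact one_mem _) hαW

end Cfsg.Agent.SESolv
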