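import Cfsg.Agent.Lib.SESolv.KeyMulti

/-!
If a moved normal subgroup fixes one point only, normalisers of `r`-subgroups with a four-group stay in `H`.
-/

set_option autoImplicit false
set_option linter.style.haveILetI false
set_option linter.unusedSectionVars false

namespace Cfsg.Agent.SESolv

open Cfsg Subgroup MulAction

universe u

variable {G : Type u} [Group G] [Finite G] {H : Subgroup G}

/-- The moved normal subgroups of the `r`-core fix one point only. -/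
def Key (H : Subgroup G) (r : ℕ) : Prop :=
  ∀ X : Subgroup G, Moved H r X → ∀ b : G ⧸ H, b ≠ base H → ¬ X ≤ stabilizer G b

theorem frattini_elem {r : ℕ} [Fact r.Prime] {R Q : Subgroup G} (hQ : Functors.IsSylowIn r Q R) {l : G}
    (hl : l ∈ normalizer (R : Set G)) : ∃ y ∈ R, y * l ∈ normalizer (Q : Set G) := by
  have hlR : R.map (Functors.cj l) = R := Functors.map_cj_eq_iff.2 hl
  have h2 : Functors.IsSylowIn r (Q.map (Functors.cj l)) R := hlR ▸ hQ.map_cj l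
  obtain ⟨y, hy, hyQ⟩ := Functors.exists_conj_eq_of_isSylowIn hQ h2
  rw [Functors.map_map_cj] at hyQ
  exact ⟨y, hy, Functors.map_cj_eq_iff.1 hyQ⟩

theorem rpow_odd {r : ℕ} (hr : r.Prime) (hr2 : r ≠ 2) {Q : Subgroup G} (hQ : IsPGroup r Q) :
    Odd (Nat.card Q) := by
  haveI := Fact.mk hr
  obtain ⟨n, hn⟩ := IsPGroup.iff_card.1 hQ
  rw [hn]
  exact (hr.odd_of_ne_two hr2).pow

namespace Min

variable (M : Min H)
include M

theorem core_moved {r : ℕ} (hmov : ∀ t ∈ H, orderOf t = 2 → ∃ x ∈ coreAt r H, t * x ≠ x * t) :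
    Moved H r (coreAt r H) :=
  ⟨le_rfl, coreAt_normal r H, hmov⟩

/-- Normalisers of `r`-subgroups normalised by a four-group of `H`. -/
theorem norm_le_of_key {r : ℕ} [hr : Fact r.Prime] (hr2 : r ≠ 2) (hkey : Key H r)
    (hmov : ∀ t ∈ H, orderOf t = 2 → ∃ x ∈ coreAt r H, t * x ≠ x * t) {Q E : Subgroup G} (hQH : Q ≤ H)
    (hQ : IsPGroup r Q) (hQ1 : Q ≠ ⊥) (hE : SEBrick.IsFour E) (hEH : E ≤ H)
    (hEQ : E ≤ normalizer (Q : Set G)) : normalizer (Q : Set G) ≤ H := by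
  by_contra hQN
  obtain ⟨Q₁, hQQ₁, ⟨hQ₁H, hQ₁, ⟨E₁, hE₁, hE₁H, hE₁Q⟩, hQ₁N⟩, hmax⟩ := Finite.exists_le_maximal
    (p := fun Q : Subgroup G => Q ≤ H ∧ IsPGroup r Q ∧
      (∃ E, SEBrick.IsFour E ∧ E ≤ H ∧ E ≤ normalizer (Q : Set G)) ∧ ¬ normalizer (Q : Set G) ≤ H)
    (a := Q) ⟨hQH, hQ, ⟨E, hE, hEH, hEQ⟩, hQN⟩
  have hQ₁1 : Q₁ ≠ ⊥ := fun e => hQ1 (le_bot_iff.1 (e ▸ hQQ₁))
  set L := normalizer (Q₁ : Set G) with hL
  have hLtop := M.normalizer_ne_top hQ₁1 (rpow_odd hr.out hr2 hQ₁)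
  set Y := oc L with hY
  have hQY : Q₁ ≤ Y := le_oc_of_coreAt hr2 le_normalizer le_rfl hQ₁
  have hYH : Y ≤ H := oc_le_of_four M.toHyp hE₁ hE₁H hE₁Q
  haveI := hE₁.1.1
  obtain ⟨S, hQS, hES⟩ := CoprimeAct.exists_invariant_sylow_ge (hE₁Q.trans (oc_normal L))
    (by
      obtain ⟨n, hn⟩ := IsPGroup.iff_card.1 hE₁.isPGroup
      rw [hn]; exact (Nat.coprime_two_left.2 (oc_odd L)).pow_left n)
    (Or.inl (Group.isSolvable_of_comm fun a b => mul_comm' a b)) (U := Q₁) hQY hQ₁ hE₁Q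
  set Q₂ := (S : Subgroup Y).map Y.subtype with hQ₂
  have hsyl : Functors.IsSylowIn r Q₂ Y := Functors.isSylowIn_map_subtype S
  have hN2 : ¬ normalizer (Q₂ : Set G) ≤ H := fun hle => hQ₁N fun l hl => by
    obtain ⟨y, hy, hyl⟩ := frattini_elem hsyl (oc_normal L hl)
    have := H.mul_mem (H.inv_mem (hYH hy)) (hle hyl)
    rwa [inv_mul_cancel_left] at this
  have heq : Q₂ = Q₁ := le_antisymm
    (hmax ⟨hsyl.le.trans hYH, hsyl.isPGroup, ⟨E₁, hE₁, hE₁H, hES⟩, hN2⟩ hQS) hQS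
  rw [heq] at hsyl
  have hPL : coreAt r H ⊓ L ≤ Q₁ := by
    have h1 : coreAt r H ⊓ L ≤ Y :=
      M.le_oc_inter hLtop hE₁ hE₁H hE₁Q hQ₁N (inf_le_left.trans (coreAt_le r H)) inf_le_right
        (SEBrick.odd_of_le (rpow_odd hr.out hr2 (coreAt_isPGroup r H)) inf_le_left)
        (SEBrick.le_normalizer_of fun a ha x hx => ⟨SEBrick.conj_mem_of (coreAt_normal r H ha.1) hx.1,
          L.mul_mem (L.mul_mem ha.2 hx.2) (L.inv_mem ha.2)⟩)
    have hQn : Q₁ ≤ normalizer ((coreAt r H ⊓ L : Subgroup G) : Set G) :=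
      (le_inf (hQ₁H.trans (coreAt_normal r H)) (le_normalizer.trans le_normalizer)).trans
        Subgroup.inf_normalizer_le_normalizer_inf
    have h2 := hsyl.eq_of_le (((coreAt_isPGroup r H).to_le inf_le_left).to_sup_of_normal_left' hQ₁ hQn)
      le_sup_right (sup_le h1 hQY)
    exact le_sup_left.trans h2.ge
  have hP : coreAt r H ≤ Q₁ :=
    le_of_normalizer_inf_le (coreAt_isPGroup r H) hQ₁ (hQ₁H.trans (coreAt_normal r H)) hPL
  obtain ⟨l, hlL, hlH⟩ := SetLike.not_le_iff_exists.1 hQ₁N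
  refine hkey _ (M.core_moved hmov) (l • base H) (fun e => hlH (mem_stab_base.1 e)) fun y hy => ?_
  have hy' : l⁻¹ * y * l ∈ Y := (mem_normalizer_iff''.1 (oc_normal L hlL) y).1 (hQY (hP hy))
  have := conj_stab (g := l) (c := base H) (mem_stab_base.2 (hYH hy'))
  show y • (l • base H) = l • base H
  rwa [show l * (l⁻¹ * y * l) * l⁻¹ = y by group] at this

/-- The same at any point. -/
theorem norm_le_stab {r : ℕ} [hr : Fact r.Prime] (hr2 : r ≠ 2) (hkey : Key H r)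
    (hmov : ∀ t ∈ H, orderOf t = 2 → ∃ x ∈ coreAt r H, t * x ≠ x * t) {Q E : Subgroup G} {c : G ⧸ H}
    (hQc : Q ≤ stabilizer G c) (hQ : IsPGroup r Q) (hQ1 : Q ≠ ⊥) (hE : SEBrick.IsFour E) (hEc : E ≤ stabilizer G c)
    (hEQ : E ≤ normalizer (Q : Set G)) : normalizer (Q : Set G) ≤ stabilizer G c := by
  obtain ⟨g, rfl⟩ := exists_smul_base c
  set f := (MulAut.conj g⁻¹).toMonoidHom with hf
  have hfH : ∀ K : Subgroup G, K ≤ stabilizer G (g • base H) → K.map f ≤ H := by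
    rintro K hK _ ⟨x, hx, rfl⟩
    have h1 := conj_stab (g := g⁻¹) (c := g • base H) (show x • (g • base H) = g • base H from hK hx)
    rw [inv_smul_smul] at h1
    exact mem_stab_base.1 h1
  have hfinj : Function.Injective f := (MulAut.conj g⁻¹).injective
  have h := M.norm_le_of_key hr2 hkey hmov (hfH Q hQc) (hQ.map f)
    (fun e => hQ1 ((Subgroup.map_eq_bot_iff_of_injective _ hfinj).1 e)) (hE.map f hfinj.injOn) (hfH E hEc)
    ((map_mono hEQ).trans (Subgroup.le_normalizer_map f))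
  intro x hx
  have h1 : f x ∈ H := h (Subgroup.le_normalizer_map f (mem_map_of_mem f hx))
  have h2 := conj_stab (g := g) (c := base H) (mem_stab_base.2 h1)
  show x • (g • base H) = g • base H
  rwa [show g * f x * g⁻¹ = x by
    show g * (g⁻¹ * x * g⁻¹⁻¹) * g⁻¹ = x
    group] at h2

end Min

end Cfsg.Agent.SESolv
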