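import Cfsg.Agent.Lib.SESolv.Min
import Cfsg.Agent.Lib.SETrans.TwoCore

/-!
The structure of the strongly embedded subgroup of a minimal counterexample.
-/

set_option autoImplicit false
set_option linter.style.haveILetI false
set_option linter.unusedSectionVars false

namespace Cfsg.Agent.SESolv

open Cfsg Subgroup

universe u

variable {G : Type u} [Group G] [Finite G] {H : Subgroup G}

theorem mem_oc_of_mem {x : H} (hx : x ∈ Cfsg.oddCore H) : (x : G) ∈ oc H := ⟨x, hx, rfl⟩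

theorem mem_oddCore_of_mem {x : H} (hx : (x : G) ∈ oc H) : x ∈ Cfsg.oddCore H := by
  obtain ⟨y, hy, e⟩ := hx
  rwa [← Subtype.ext (a1 := y) (a2 := x) e]

theorem coprime_two_pow {x : G} {n : ℕ} (hx : Odd (orderOf x)) : Nat.Coprime (2 ^ n) (orderOf x) :=
  (Nat.coprime_two_left.2 hx).pow_left n

/-- Involutions of `H` are conjugate in `H`. -/
theorem Hyp.invol_conj (h : Hyp H) {s t : G} (hs : orderOf s = 2) (hsH : s ∈ H) (ht : orderOf t = 2) (htH : t ∈ H) :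
    ∃ g ∈ H, g * s * g⁻¹ = t := by
  obtain ⟨g, hg⟩ := isConj_iff.1 (Invol.se_isConj h.se hs ht)
  exact ⟨g, Invol.se_mem_of_conj h.se hs hsH (hg ▸ htH), hg⟩

/-- An element of square one commutes with 2-elements modulo the odd core. -/
theorem Hyp.comm_mod (h : Hyp H) {t x : G} (htH : t ∈ H) (hxH : x ∈ H) (ht : t * t = 1) {n : ℕ}
    (hx : x ^ 2 ^ n = 1) : t * x * t⁻¹ * x⁻¹ ∈ oc H :=
  haveI := h.solv
  mem_oc_of_mem (SESolv.comm_mod h.shape (t := (⟨t, htH⟩ : H)) (x := ⟨x, hxH⟩) (n := n) (Subtype.ext ht)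
    (Subtype.ext (by simpa using hx)))

/-- A Sylow 2-subgroup of `H`, with the properties of the shape. -/
structure Syl (H S : Subgroup G) : Prop where
  le : S ≤ H
  two : IsPGroup 2 S
  sq : ∀ x ∈ S, x * x * (x * x) = 1
  cen : ∀ t ∈ S, t * t = 1 → ∀ x ∈ S, t * x = x * t
  ab : ∀ f ∈ S, f * f ≠ 1 → ∀ x ∈ S, ∀ y ∈ S, f * x = x * f → f * y = y * f → x * y = y * x
  decomp : ∀ g ∈ H, ∃ w ∈ oc H, ∃ n ∈ H, n ∈ normalizer (S : Set G) ∧ g = w * n
  nconj : ∀ s ∈ S, ∀ t ∈ S, orderOf s = 2 → orderOf t = 2 →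
    ∃ n ∈ H, n ∈ normalizer (S : Set G) ∧ n * s * n⁻¹ = t
  comp : ∀ x ∈ H, Odd (orderOf x) → (∀ s ∈ S, x * s * x⁻¹ * s⁻¹ ∈ oc H) → x ∈ oc H
  conj_into : ∀ T : Subgroup G, T ≤ H → IsPGroup 2 T → ∃ g ∈ H, ∀ x ∈ T, g * x * g⁻¹ ∈ S

theorem Hyp.exists_syl_ge (h : Hyp H) {T : Subgroup G} (hTH : T ≤ H) (hT : IsPGroup 2 T) :
    ∃ S, Syl H S ∧ T ≤ S := by
  haveI := h.solv
  haveI : Fact (Nat.Prime 2) := ⟨Nat.prime_two⟩
  obtain ⟨P, hTP⟩ := (hT.comap_subtype (K := H)).exists_le_sylow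
  obtain ⟨h1, h2, h3⟩ := h.shape P P.isPGroup'
  have hnorm : ∀ n : H, n ∈ normalizer ((P : Subgroup H) : Set H) →
      (n : G) ∈ normalizer (((P : Subgroup H).map H.subtype : Subgroup G) : Set G) := fun n hn =>
    Subgroup.le_normalizer_map H.subtype ⟨n, hn, rfl⟩
  refine ⟨(P : Subgroup H).map H.subtype, ⟨map_subtype_le _, P.isPGroup'.map _, ?_, ?_, ?_, ?_, ?_, ?_, ?_⟩,
    fun x hx => ⟨⟨x, hTH hx⟩, hTP hx, rfl⟩⟩
  · rintro _ ⟨x, hx, rfl⟩
    exact congrArg Subtype.val (h1 x hx)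
  · rintro _ ⟨t, ht, rfl⟩ ht1 _ ⟨x, hx, rfl⟩
    exact congrArg Subtype.val (h2 t ht (Subtype.ext ht1) x hx)
  · rintro _ ⟨f, hf, rfl⟩ hf1 _ ⟨x, hx, rfl⟩ _ ⟨y, hy, rfl⟩ hfx hfy
    exact congrArg Subtype.val (h3 f hf (fun e => hf1 (congrArg Subtype.val e)) x hx y hy (Subtype.ext hfx)
      (Subtype.ext hfy))
  · intro g hg
    obtain ⟨o, ho, n, hn, e⟩ := exists_mul_normalizer h.shape P ⟨g, hg⟩
    exact ⟨o, mem_oc_of_mem ho, n, n.2, hnorm n hn, congrArg Subtype.val e⟩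
  · rintro _ ⟨s, hs, rfl⟩ _ ⟨t, ht, rfl⟩ hs2 ht2
    obtain ⟨g, hg, hgs⟩ := h.invol_conj hs2 s.2 ht2 t.2
    obtain ⟨n, hn, e⟩ := exists_normalizer_conj h.shape P hs ht (g := ⟨g, hg⟩) (Subtype.ext hgs)
    exact ⟨n, n.2, hnorm n hn, congrArg Subtype.val e⟩
  · intro x hx ho hc
    exact mem_oc_of_mem (mem_oddCore_of_comm_mod h.shape P (x := ⟨x, hx⟩) (by rwa [Subgroup.orderOf_mk])
      fun s hs => mem_oddCore_of_mem (hc _ (mem_map_of_mem H.subtype hs)))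
  · intro T hTH hT
    obtain ⟨Q, hQ⟩ := (hT.comap_subtype (K := H)).exists_le_sylow
    obtain ⟨g, hg⟩ := MulAction.exists_smul_eq H Q P
    refine ⟨g, g.2, fun x hx => ⟨g * ⟨x, hTH hx⟩ * g⁻¹, ?_, rfl⟩⟩
    rw [← hg]
    exact ⟨⟨x, hTH hx⟩, hQ hx, rfl⟩

theorem Hyp.exists_syl (h : Hyp H) : ∃ S, Syl H S := by
  obtain ⟨S, hS, -⟩ := h.exists_syl_ge (T := ⊥) bot_le IsPGroup.of_bot
  exact ⟨S, hS⟩

namespace Syl

variable {S : Subgroup G} (hS : Syl H S)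
include hS

/-- The elements of square one of the Sylow subgroup. -/
def omega : Subgroup G where
  carrier := {x | x ∈ S ∧ x * x = 1}
  one_mem' := ⟨S.one_mem, one_mul 1⟩
  mul_mem' := fun {x y} hx hy => ⟨S.mul_mem hx.1 hy.1, by
    rw [mul_assoc, ← mul_assoc y x y, ← hS.cen x hx.1 hx.2 y hy.1, mul_assoc x y y, hy.2, mul_one, hx.2]⟩
  inv_mem' := fun {x} hx => ⟨S.inv_mem hx.1, by rw [← mul_inv_rev, hx.2, inv_one]⟩

theorem omega_le : hS.omega ≤ S := fun _ hx => hx.1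

theorem omega_le_H : hS.omega ≤ H := fun _ hx => hS.le hx.1

theorem four (h : Hyp H) : SEBrick.IsFour hS.omega := by
  obtain ⟨E, hEH, hE⟩ := h.four
  refine ⟨⟨.of_setLike_mul_comm fun a ha b hb => hS.cen a ha.1 ha.2 b hb.1,
    fun a ha => by rw [pow_two]; exact ha.2⟩, ?_⟩
  obtain ⟨g, -, hg⟩ := hS.conj_into E hEH hE.isPGroup
  refine hE.2.trans ?_
  rw [← card_map_of_injective (K := E) (f := (MulAut.conj g).toMonoidHom) (MulAut.conj g).injective]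
  refine card_le_of_le ?_
  rintro _ ⟨x, hx, rfl⟩
  refine ⟨hg x hx, ?_⟩
  show g * x * g⁻¹ * (g * x * g⁻¹) = 1
  rw [show g * x * g⁻¹ * (g * x * g⁻¹) = g * (x * x) * g⁻¹ by group, hE.mul_self hx]
  group

theorem mem_omega {t : G} (ht : t ∈ S) (ht2 : orderOf t = 2) : t ∈ hS.omega := ⟨ht, Invol.mul_self ht2⟩

theorem omega_normal {n : G} (hn : n ∈ normalizer (S : Set G)) : n ∈ normalizer (hS.omega : Set G) :=
  SEBrick.mem_normalizer_of fun x hx => ⟨SEBrick.conj_mem_of hn hx.1, by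
    rw [show n * x * n⁻¹ * (n * x * n⁻¹) = n * (x * x) * n⁻¹ by group, hx.2]; group⟩

end Syl

namespace Min

variable (M : Min H)
include M

theorem normalCore_eq_bot : H.normalCore = ⊥ :=
  le_bot_iff.1 (M.ocore ▸ SEBrick.le_oddCore H.normalCore_normal (normalCore_odd M.se))

/-- An element of `H` centralising the odd core is in the kernel of the action, in the case of a 2-core. -/
theorem twoCore_eq_bot : coreAt 2 H = ⊥ := by
  by_contra hne
  haveI : Fact (Nat.Prime 2) := ⟨Nat.prime_two⟩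
  have hT : IsPGroup 2 (coreAt 2 H) := coreAt_isPGroup 2 H
  have hn : ∀ g ∈ H, ∀ x ∈ coreAt 2 H, g * x * g⁻¹ ∈ coreAt 2 H := fun g hg x hx =>
    SEBrick.conj_mem_of (coreAt_normal 2 H hg) hx
  have hcomm := SETrans.invol_comm_of_normal_two M.se (coreAt_le 2 H) hT hne hn
  obtain ⟨E, hEH, hE⟩ := M.four
  obtain ⟨s, hs, hs1⟩ := IsFour.exists_ne hE
  obtain ⟨t, ht, ht1, hts⟩ : ∃ t ∈ E, t ≠ 1 ∧ t ≠ s := by
    by_contra hc
    push Not at hc
    have h4 := hE.2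
    rw [← SetLike.coe_sort_coe, Nat.card_coe_set_eq] at h4
    have : (E : Set G).ncard ≤ ({1, s} : Set G).ncard := Set.ncard_le_ncard (fun x hx => by
      by_cases h1 : x = 1
      · exact Or.inl h1
      · exact Or.inr (hc x hx h1)) (Set.toFinite _)
    rw [Set.ncard_pair hs1.symm] at this
    omega
  obtain ⟨Q, hQH, hQn, hQ2, hQt, hQf⟩ := SERegular.exists_regular_of_se M.se M.normalCore_eq_bot hcomm
    ⟨s, t, hEH hs, hEH ht, hE.order hs hs1, hE.order ht ht1, hts.symm⟩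
    (SERegular.odd_of_solvable M.se hcomm M.solv)
  have hQW : ∀ q ∈ Q, ∀ w ∈ oc H, q * w = w * q := by
    intro q hq w hw
    have h1 : q * w * q⁻¹ * w⁻¹ ∈ oc H :=
      mul_mem (SEBrick.conj_mem_of (oc_normal H (hQH hq)) hw) (inv_mem hw)
    have h2 : q * w * q⁻¹ * w⁻¹ ∈ Q := by
      rw [show q * w * q⁻¹ * w⁻¹ = q * (w * q⁻¹ * w⁻¹) by group]
      exact mul_mem hq (SEBrick.conj_mem_of ((normal_subgroupOf_iff_le_normalizer hQH).1 hQn (oc_le H hw))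
        (inv_mem hq))
    exact mul_inv_eq_iff_eq_mul.1 (mul_inv_eq_one.1 (eq_one_of_two_of_odd hQ2 (oc_odd H) h2 h1))
  refine M.W_ne ((eq_bot_iff_forall _).2 fun w hw => ?_)
  have hwH : w ∈ H := oc_le H hw
  refine mem_bot.1 (M.normalCore_eq_bot ▸ (?_ : w ∈ H.normalCore))
  intro g
  rw [show g * w * g⁻¹ = g⁻¹⁻¹ * w * g⁻¹ by group]
  by_cases hg : g⁻¹ ∈ H
  · exact H.mul_mem (H.mul_mem (H.inv_mem hg) hwH) hg
  have hgw : w * g⁻¹ ∉ H := fun h => hg (by simpa using H.mul_mem (H.inv_mem hwH) h)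
  obtain ⟨q, hq, hqg⟩ := hQt g⁻¹ (w * g⁻¹) hg hgw
  obtain ⟨m, hm⟩ := exists_pow_eq_self_of_coprime (x := q) (n := orderOf w) (by
    obtain ⟨k, hk⟩ := hQ2 ⟨q, hq⟩
    exact (coprime_two_pow (SEBrick.odd_order (oc_odd H) hw)).coprime_dvd_left
      (orderOf_dvd_of_pow_eq_one (show q ^ 2 ^ k = 1 by simpa using congrArg Subtype.val hk)) |>.symm)
  have hd : g⁻¹⁻¹ * (w⁻¹ * q) * g⁻¹ ∈ H := by
    rw [show g⁻¹⁻¹ * (w⁻¹ * q) * g⁻¹ = (w * g⁻¹)⁻¹ * (q * g⁻¹) by group]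
    exact hqg
  have hpow : g⁻¹⁻¹ * q ^ orderOf w * g⁻¹ ∈ H := by
    have hc : Commute w⁻¹ q := ((show Commute q w from hQW q hq w hw).symm).inv_left
    have := H.pow_mem (show g * (w⁻¹ * q) * g⁻¹ ∈ H by simpa only [inv_inv] using hd) (orderOf w)
    rw [conj_pow, hc.mul_pow, inv_pow, pow_orderOf_eq_one, inv_one, one_mul] at this
    rwa [inv_inv]
  have hq1 : q ^ orderOf w = 1 := hQf g⁻¹ hg _ (pow_mem hq _) (by rw [← mul_assoc]; simpa using hpow)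
  rw [← hm, hq1, one_pow, mul_one] at hd
  have := H.inv_mem hd
  rwa [show (g⁻¹⁻¹ * w⁻¹ * g⁻¹)⁻¹ = g⁻¹⁻¹ * w * g⁻¹ by group] at this

theorem coreAt_le_oc (p : ℕ) (hp : p.Prime) : coreAt p H ≤ oc H := by
  by_cases hp2 : p = 2
  · subst hp2; rw [M.twoCore_eq_bot]; exact bot_le
  haveI := Fact.mk hp
  refine le_oc (coreAt_le p H) ?_ (coreAt_normal p H)
  obtain ⟨n, hn⟩ := IsPGroup.iff_card.1 (coreAt_isPGroup p H)
  rw [hn]
  exact (hp.odd_of_ne_two hp2).pow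

/-- An element of `H` centralising all the cores lies in the odd core. -/
theorem cent_cores {x : G} (hx : x ∈ H) (hc : ∀ p : ℕ, p.Prime → ∀ y ∈ coreAt p H, x * y = y * x) : x ∈ oc H := by
  haveI := M.solv
  have hxc : (⟨x, hx⟩ : H) ∈ centralizer (Cfsg.fittingSubgroup H : Set H) := by
    rw [mem_centralizer_iff]
    intro f hf
    have hle : Cfsg.fittingSubgroup H ≤ centralizer {(⟨x, hx⟩ : H)} := by
      rw [FittingCores.fitting_eq_iSup_pCore]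
      exact iSup_le fun q => fun y hy => mem_centralizer_singleton_iff.2
        (Subtype.ext (hc q q.2 _ (mem_map_of_mem H.subtype hy)).symm)
    exact mem_centralizer_singleton_iff.1 (hle hf)
  have h1 := FittingCores.centralizer_fitting_le hxc
  have hle : (Cfsg.fittingSubgroup H).map H.subtype ≤ oc H := by
    rw [FittingCores.fitting_eq_iSup_pCore, Subgroup.map_iSup]
    exact iSup_le fun q => M.coreAt_le_oc q q.2
  exact hle (mem_map_of_mem H.subtype h1)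

/-- Some `r`-core is moved by every involution of `H`. -/
theorem exists_moved : ∃ r : ℕ, r.Prime ∧ r ≠ 2 ∧ ∀ t ∈ H, orderOf t = 2 → ∃ x ∈ coreAt r H, t * x ≠ x * t := by
  obtain ⟨t₀, ht₀H, ht₀⟩ := Invol.exists_invol M.se.2.1
  obtain ⟨r, hr, hr2, x, hx, hxt⟩ : ∃ r : ℕ, r.Prime ∧ r ≠ 2 ∧ ∃ x ∈ coreAt r H, t₀ * x ≠ x * t₀ := by
    by_contra! hno
    have h1 := SEBrick.odd_order (oc_odd H) (M.cent_cores ht₀H fun p hp y hy => by
      by_cases hp2 : p = 2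
      · subst hp2
        rw [M.twoCore_eq_bot, mem_bot] at hy
        rw [hy, mul_one, one_mul]
      · exact hno p hp hp2 y hy)
    rw [ht₀] at h1
    exact absurd h1 (by decide)
  refine ⟨r, hr, hr2, fun t htH ht => ?_⟩
  obtain ⟨g, hg, rfl⟩ := M.toHyp.invol_conj ht₀ ht₀H ht htH
  refine ⟨g * x * g⁻¹, SEBrick.conj_mem_of (coreAt_normal r H hg) hx, fun e => hxt ?_⟩
  calc t₀ * x = g⁻¹ * (g * t₀ * g⁻¹ * (g * x * g⁻¹)) * g := by group
    _ = g⁻¹ * (g * x * g⁻¹ * (g * t₀ * g⁻¹)) * g := by rw [e]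
    _ = _ := by group

end Min

end Cfsg.Agent.SESolv
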